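import Mathlib
import Cfsg.Agent.OddHalf.D7Tits.YH

-- merged: Cfsg.Agent.OddHalf.D7Tits.Cent
section

/-!
# ODD D7, `K = ²F₄(2)'`: the centraliser of `t` in `Y = N(Θ)/C(Θ)` (helper625; text: bb 15617, 3.3)

* `count` : `|C_Y(ρ t)| |C(t) ∩ Θ| ≤ |ρ(C(t))| |C(t) ∩ ker ρ|`, for `Θ ≤ ker ρ` on which `t` is free;
* `Cfg.eq` : `C_Y(t) = Y₀` if `|C_Y(t)| ≤ 2 |Y₀|`, from the action on `Θ`.
-/

set_option autoImplicit false
set_option linter.unusedSectionVars false
set_option linter.unusedVariables false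

namespace Cfsg.Agent.OddHalf.D7Tits.Cent

open Subgroup

/-! ### The count -/

section count

variable {N Y : Type*} [Group N] [Group Y]

/-- the number of elements of `C_Y(ρ t)` -/
theorem count [Finite N] (ρ : N →* Y) (hρ : Function.Surjective ρ) (Θ : Subgroup N) [Θ.Normal] (hΘ : Θ ≤ ρ.ker) (t : N)
    (lift : ∀ y : N, y * t * y⁻¹ * t⁻¹ ∈ Θ → ∃ θ ∈ Θ, (y * θ) * t = t * (y * θ)) :
    Nat.card (centralizer {ρ t}) * Nat.card (centralizer {t} ⊓ Θ : Subgroup N) ≤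
      Nat.card ((centralizer {t}).map ρ) * Nat.card (centralizer {t} ⊓ ρ.ker : Subgroup N) := by
  have : Finite Y := Finite.of_surjective ρ hρ
  set C : Subgroup N := centralizer {t} with hC
  set M : Subgroup N := (centralizer {ρ t}).comap ρ with hM
  have hCM : C ≤ M := by
    intro c hc
    rw [hC, mem_centralizer_singleton_iff] at hc
    rw [hM, mem_comap, mem_centralizer_singleton_iff, ← map_mul, ← map_mul, hc]
  have hkM : ρ.ker ≤ M := by
    intro c hc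
    rw [hM, mem_comap, (MonoidHom.mem_ker).1 hc]
    exact one_mem _
  have hMk : ∀ y ∈ M, y * t * y⁻¹ * t⁻¹ ∈ ρ.ker := by
    intro y hy
    rw [hM, mem_comap, mem_centralizer_singleton_iff] at hy
    rw [MonoidHom.mem_ker, map_mul, map_mul, map_mul, map_inv, map_inv, hy]
    group
  -- `M / C Θ` embeds in `ker / Θ`
  have key : (C ⊔ Θ).relIndex M ≤ Θ.relIndex ρ.ker := by
    let f : M → ρ.ker ⧸ Θ.subgroupOf ρ.ker := fun y =>
      ((⟨y * t * (y : N)⁻¹ * t⁻¹, hMk y y.2⟩ : ρ.ker) : ρ.ker ⧸ Θ.subgroupOf ρ.ker)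
    have hf : ∀ y y' : M, f y = f y' →
        ((y : M ⧸ (C ⊔ Θ).subgroupOf M) = (y' : M ⧸ (C ⊔ Θ).subgroupOf M)) := by
      intro y y' h
      have h1 := (QuotientGroup.eq).1 h
      rw [mem_subgroupOf] at h1
      have h2 : (((y : N) * t * (y : N)⁻¹ * t⁻¹)⁻¹ * ((y' : N) * t * (y' : N)⁻¹ * t⁻¹)) ∈ Θ := h1
      rw [QuotientGroup.eq, mem_subgroupOf]
      show ((y : N)⁻¹ * y' : N) ∈ C ⊔ Θ
      have h3 : ((y : N)⁻¹ * y') * t * ((y : N)⁻¹ * y')⁻¹ * t⁻¹ ∈ Θ := by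
        have h4 := Subgroup.Normal.conj_mem ‹Θ.Normal› _ h2 (t * (y : N)⁻¹ * t⁻¹)
        have e : t * (y : N)⁻¹ * t⁻¹ * (((y : N) * t * (y : N)⁻¹ * t⁻¹)⁻¹ * ((y' : N) * t * (y' : N)⁻¹ * t⁻¹)) *
            (t * (y : N)⁻¹ * t⁻¹)⁻¹ = ((y : N)⁻¹ * y') * t * ((y : N)⁻¹ * y')⁻¹ * t⁻¹ := by group
        rwa [e] at h4
      obtain ⟨θ, hθ, h11⟩ := lift _ h3
      have h12 : ((y : N)⁻¹ * y') * θ ∈ C := by rw [hC, mem_centralizer_singleton_iff]; exact h11
      have e : (y : N)⁻¹ * y' = (((y : N)⁻¹ * y') * θ) * θ⁻¹ := by group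
      rw [e]
      exact mul_mem (mem_sup_left h12) (mem_sup_right (inv_mem hθ))
    unfold relIndex index
    refine Nat.card_le_card_of_injective (fun q => f q.out) fun q q' h => ?_
    have := hf _ _ h
    rwa [QuotientGroup.out_eq', QuotientGroup.out_eq'] at this
  -- the orders
  have hCΘM : C ⊔ Θ ≤ M := sup_le hCM (hΘ.trans hkM)
  have e1 : Nat.card ρ.ker * Nat.card (centralizer {ρ t}) = Nat.card M := by
    have h1 := relIndex_ker M ρ
    rw [hM, map_comap_eq_self_of_surjective hρ, ← hM] at h1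
    rw [← h1, ← relIndex_bot_left, ← relIndex_bot_left, relIndex_mul_relIndex _ _ _ bot_le hkM]
  have e2 : Nat.card (C ⊔ Θ : Subgroup N) * (C ⊔ Θ).relIndex M = Nat.card M := by
    rw [← relIndex_bot_left, ← relIndex_bot_left, relIndex_mul_relIndex _ _ _ bot_le hCΘM]
  have e3 : Nat.card Θ * Θ.relIndex C = Nat.card (C ⊔ Θ : Subgroup N) := by
    rw [← relIndex_sup_right C Θ, ← relIndex_bot_left, ← relIndex_bot_left (H := C ⊔ Θ),
      relIndex_mul_relIndex _ _ _ bot_le le_sup_right]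
  have e4 : Nat.card (C ⊓ Θ : Subgroup N) * Θ.relIndex C = Nat.card C := by
    rw [← inf_relIndex_left C Θ, ← relIndex_bot_left, ← relIndex_bot_left (H := C),
      relIndex_mul_relIndex _ _ _ bot_le inf_le_left]
  have e5 : Nat.card (C ⊓ ρ.ker : Subgroup N) * Nat.card (C.map ρ) = Nat.card C := by
    rw [← relIndex_ker C ρ, ← inf_relIndex_left C ρ.ker, ← relIndex_bot_left, ← relIndex_bot_left (H := C),
      relIndex_mul_relIndex _ _ _ bot_le inf_le_left]
  have e6 : Nat.card Θ * Θ.relIndex ρ.ker = Nat.card ρ.ker := by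
    rw [← relIndex_bot_left, ← relIndex_bot_left (H := ρ.ker), relIndex_mul_relIndex _ _ _ bot_le hΘ]
  have hkpos : 0 < Nat.card ρ.ker := Nat.card_pos
  have h7 : Nat.card ρ.ker * (Nat.card (centralizer {ρ t}) * Nat.card (C ⊓ Θ : Subgroup N)) ≤
      Nat.card ρ.ker * (Nat.card (C.map ρ) * Nat.card (C ⊓ ρ.ker : Subgroup N)) := by
    calc Nat.card ρ.ker * (Nat.card (centralizer {ρ t}) * Nat.card (C ⊓ Θ : Subgroup N))
        = (Nat.card ρ.ker * Nat.card (centralizer {ρ t})) * Nat.card (C ⊓ Θ : Subgroup N) := by ring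
      _ = (Nat.card Θ * Θ.relIndex C * (C ⊔ Θ).relIndex M) * Nat.card (C ⊓ Θ : Subgroup N) := by rw [e1, ← e2, ← e3]
      _ = (Nat.card Θ * (C ⊔ Θ).relIndex M) * (Nat.card (C ⊓ Θ : Subgroup N) * Θ.relIndex C) := by ring
      _ = (Nat.card Θ * (C ⊔ Θ).relIndex M) * Nat.card C := by rw [e4]
      _ ≤ (Nat.card Θ * Θ.relIndex ρ.ker) * Nat.card C := Nat.mul_le_mul_right _ (Nat.mul_le_mul_left _ key)
      _ = Nat.card ρ.ker * Nat.card C := by rw [e6]
      _ = _ := by rw [← e5]; ring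
  exact Nat.le_of_mul_le_mul_left h7 hkpos

end count

/-! ### groups of order 16 -/

/-- an automorphism of order `2^k` commuting with a fixed point free automorphism of order 5 -/
theorem triv16 {B : Type*} [Group B] [Finite B] (hB : Nat.card B = 16) (x y : MulAut B) (x5 : x ^ 5 = 1)
    (hx : ∀ b, x b = b → b = 1) (k : ℕ) (hy : y ^ (2 ^ k) = 1) (hxy : x * y = y * x) : ∀ b, y b = b := by
  classical
  -- the fixed points of `y`
  let F : Subgroup B :=
    { carrier := {b | y b = b}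
      one_mem' := map_one y
      mul_mem' := fun {a b} ha hb => by
        show y (a * b) = a * b
        rw [map_mul, ha, hb]
      inv_mem' := fun {a} ha => by
        show y a⁻¹ = a⁻¹
        rw [map_inv, ha] }
  have hF : ∀ b, b ∈ F ↔ y b = b := fun _ => Iff.rfl
  have : Fact (Nat.Prime 2) := ⟨Nat.prime_two⟩
  have : Fact (Nat.Prime 5) := ⟨by norm_num⟩
  have h2 : IsPGroup 2 (zpowers y) := by
    rintro ⟨g, hg⟩
    obtain ⟨j, rfl⟩ := mem_zpowers_iff.1 hg
    refine ⟨k, Subtype.ext ?_⟩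
    show (y ^ j) ^ 2 ^ k = 1
    rw [← zpow_natCast, ← zpow_mul, mul_comm, zpow_mul, zpow_natCast, hy, one_zpow]
  have h5 : IsPGroup 5 (zpowers x) := by
    rintro ⟨g, hg⟩
    obtain ⟨j, rfl⟩ := mem_zpowers_iff.1 hg
    refine ⟨1, Subtype.ext ?_⟩
    show (x ^ j) ^ 5 ^ 1 = 1
    rw [pow_one, ← zpow_natCast, ← zpow_mul, mul_comm, zpow_mul, zpow_natCast, x5, one_zpow]
  have c1 := h2.card_modEq_card_fixedPoints B
  have e1 : Nat.card (MulAction.fixedPoints (zpowers y) B) = Nat.card F := by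
    refine Nat.card_congr (Equiv.subtypeEquivRight fun b => ?_)
    constructor
    · intro h
      exact h ⟨y, mem_zpowers y⟩
    · rintro h ⟨g, hg⟩
      obtain ⟨j, rfl⟩ := mem_zpowers_iff.1 hg
      have hb : y • b = b := h
      show (y ^ j) • b = b
      exact MulAction.mem_stabilizer_iff.1 (zpow_mem (MulAction.mem_stabilizer_iff.2 hb) j)
  rw [hB, e1] at c1
  -- `x` acts on `F`
  have hxF : ∀ g ∈ zpowers x, ∀ b ∈ F, g • b ∈ F := by
    intro g hg b hb
    have hgy : g * y = y * g := by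
      obtain ⟨j, rfl⟩ := mem_zpowers_iff.1 hg
      exact ((show Commute x y from hxy).zpow_left j)
    show y (g b) = g b
    have : (y * g) b = (g * y) b := by rw [hgy]
    rw [MulAut.mul_apply, MulAut.mul_apply, (hF b).1 hb] at this
    exact this
  let SF : SubMulAction (zpowers x) B :=
    { carrier := F
      smul_mem' := fun g {b} hb => hxF g g.2 b hb }
  have c2 := h5.card_modEq_card_fixedPoints SF
  have e2 : Nat.card (MulAction.fixedPoints (zpowers x) SF) = 1 := by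
    rw [Nat.card_eq_one_iff_unique]
    constructor
    · constructor
      rintro ⟨⟨a, ha⟩, ha'⟩ ⟨⟨b, hb⟩, hb'⟩
      have h1 : ∀ c : B, ∀ hc : c ∈ SF, (⟨c, hc⟩ : SF) ∈ MulAction.fixedPoints (zpowers x) SF → c = 1 := by
        intro c hc h
        exact hx c (congrArg Subtype.val (h ⟨x, mem_zpowers x⟩))
      have h3 := h1 a ha ha'
      have h4 := h1 b hb hb'
      subst h3; subst h4
      rfl
    · refine ⟨⟨⟨1, F.one_mem⟩, ?_⟩⟩
      rintro ⟨g, hg⟩
      apply Subtype.ext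
      show g • (1 : B) = 1
      exact map_one g
  have e3 : Nat.card SF = Nat.card F := rfl
  rw [e2, e3] at c2
  have hdvd : Nat.card F ∣ 16 := hB ▸ F.card_subgroup_dvd_card
  have hF16 : Nat.card F = 16 := by
    have hle : Nat.card F ≤ 16 := Nat.le_of_dvd (by norm_num) hdvd
    interval_cases h : Nat.card F <;> simp_all (config := { decide := true })
  have hFtop : F = ⊤ := Subgroup.eq_top_of_card_eq F (by rw [hF16, hB])
  intro b
  exact (hF b).1 (hFtop ▸ mem_top b)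

/-! ### restriction to a subgroup -/

section res

variable {Θ : Type*} [Group Θ] {B : Subgroup Θ} [Finite B]

/-- the restriction of an automorphism -/
noncomputable def res (f : MulAut Θ) (h : ∀ b ∈ B, f b ∈ B) : MulAut B :=
  MulEquiv.ofBijective ((f.toMonoidHom.comp B.subtype).codRestrict B fun b => h b b.2)
    ((Finite.injective_iff_bijective).1 fun a b hab => Subtype.ext (f.injective (congrArg Subtype.val hab)))

theorem res_apply (f : MulAut Θ) (h : ∀ b ∈ B, f b ∈ B) (b : B) : ((res f h b : B) : Θ) = f b := rfl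

theorem res_pow (f : MulAut Θ) (h : ∀ b ∈ B, f b ∈ B) (n : ℕ) (b : B) : (((res f h ^ n) b : B) : Θ) = (f ^ n) b := by
  induction n generalizing b with
  | zero => rfl
  | succ n ih =>
    rw [pow_succ, pow_succ, MulAut.mul_apply, MulAut.mul_apply, ih, res_apply]

/-- `triv16` for a subgroup -/
theorem triv16' (hB : Nat.card B = 16) (x y : MulAut Θ) (hxB : ∀ b ∈ B, x b ∈ B) (hyB : ∀ b ∈ B, y b ∈ B)
    (x5 : x ^ 5 = 1) (hx : ∀ b ∈ B, x b = b → b = 1) (k : ℕ) (hy : y ^ (2 ^ k) = 1) (hxy : x * y = y * x) :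
    ∀ b ∈ B, y b = b := by
  intro b hb
  have h := triv16 hB (res x hxB) (res y hyB) ?_ ?_ k ?_ ?_ ⟨b, hb⟩
  · exact congrArg Subtype.val h
  · ext c
    rw [res_pow, x5]; rfl
  · intro c hc
    exact Subtype.ext (hx c c.2 (congrArg Subtype.val hc))
  · ext c
    rw [res_pow, hy]; rfl
  · ext c
    rw [MulAut.mul_apply, MulAut.mul_apply, res_apply, res_apply, res_apply, res_apply, ← MulAut.mul_apply, hxy,
      MulAut.mul_apply]

end res

/-! ### The centraliser of `t` -/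

/-- The configuration. -/
structure Cfg {Y Θ : Type*} [Group Y] [CommGroup Θ] (ρ : Y →* MulAut Θ) (t x s : Y) (R Y₀ : Subgroup Y)
    (z n : Θ) : Prop where
  fin : Finite Y
  finΘ : Finite Θ
  inj : Function.Injective ρ
  two : ∀ θ : Θ, θ * θ = 1
  cardA : Nat.card {a : Θ // ρ t a = a} = 2 ^ 5
  sur : ∀ a, ρ t a = a → ∃ θ, ρ t θ = θ * a
  tt : t * t = 1
  x5 : x ^ 5 = 1
  xs : s * x * s⁻¹ = x ^ 2
  zt : ρ t z = z
  zx : ρ x z = z
  z1 : z ≠ 1
  cA : ∀ a, ρ t a = a → ρ x a = a → a = 1 ∨ a = z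
  nt : ρ t n = n * z
  Rn : ∀ r ∈ R, ρ r n = n
  RA : ∀ r ∈ R, ∀ a, ρ t a = a → ρ r a = a ∨ ρ r a = a * z
  Rz : ∀ a, ρ t a = a → (∀ r ∈ R, ρ r a = a) → a = 1 ∨ a = z
  xR : ∀ r ∈ R, x * r * x⁻¹ ∈ R
  cx : ∀ r ∈ R, x * r = r * x → r = 1
  tY : t ∈ Y₀
  xY : x ∈ Y₀
  sY : s ∈ Y₀
  RY : R ≤ Y₀
  comm : ∀ y ∈ Y₀, y * t = t * y
  YA : ∀ y ∈ Y₀, (∀ a, ρ t a = a → ρ y a = a) → y = 1 ∨ y = t
  syl : ¬ 25 ∣ Nat.card Y₀
  bound : Nat.card (centralizer {t}) ≤ 2 * Nat.card Y₀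

namespace Cfg

variable {Y Θ : Type*} [Group Y] [CommGroup Θ] {ρ : Y →* MulAut Θ} {t x s : Y} {R Y₀ : Subgroup Y} {z n : Θ}
variable (H : Cfg ρ t x s R Y₀ z n)

include H

theorem inv (θ : Θ) : θ⁻¹ = θ := inv_eq_of_mul_eq_one_left (H.two θ)

theorem tr (θ : Θ) : ρ t (ρ t θ) = θ := by
  rw [← MulAut.mul_apply, ← map_mul, H.tt, map_one, MulAut.one_apply]

theorem app {y y' : Y} (h : y * y' = y' * y) (θ : Θ) : ρ y (ρ y' θ) = ρ y' (ρ y θ) := by
  rw [← MulAut.mul_apply, ← map_mul, h, map_mul, MulAut.mul_apply]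

theorem brk (θ : Θ) : ρ t (θ * ρ t θ) = θ * ρ t θ := by
  rw [map_mul, H.tr, mul_comm]

/-- `[A, x]` is a complement of `⟨z⟩` in `A` -/
theorem cover : ∃ B : Subgroup Θ, Nat.card B = 16 ∧ (∀ b ∈ B, ρ t b = b) ∧
    (∀ b ∈ B, ∃ a, ρ t a = a ∧ b = ρ x a * a⁻¹) ∧ (∀ a, ρ t a = a → ρ x a * a⁻¹ ∈ B) ∧
    (∀ b ∈ B, ρ x b = b → b = 1) ∧ ∀ a, ρ t a = a → a ∈ B ∨ a * z ∈ B := by
  have := H.fin
  have := H.finΘ
  have hxt : x * t = t * x := H.comm x H.xY
  -- `A`
  let A : Subgroup Θ :=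
    { carrier := {a | ρ t a = a}
      one_mem' := map_one _
      mul_mem' := fun {a b} ha hb => by
        show ρ t (a * b) = a * b
        rw [map_mul, ha, hb]
      inv_mem' := fun {a} ha => by
        show ρ t a⁻¹ = a⁻¹
        rw [map_inv, ha] }
  have hA : Nat.card A = 32 := H.cardA
  have memA : ∀ a, a ∈ A ↔ ρ t a = a := fun _ => Iff.rfl
  have invA : ∀ g : Y, g * t = t * g → ∀ a ∈ A, ρ g a ∈ A := by
    intro g hg a ha
    rw [memA] at ha ⊢
    rw [H.app hg.symm, ha]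
  let β : A →* Θ :=
    { toFun := fun a => ρ x a * (a : Θ)⁻¹
      map_one' := by simp
      map_mul' := fun a b => by
        show ρ x (a * b) * ((a : Θ) * b)⁻¹ = ρ x a * (a : Θ)⁻¹ * (ρ x b * (b : Θ)⁻¹)
        rw [map_mul, mul_inv, mul_mul_mul_comm] }
  have hβ : ∀ a : A, β a = ρ x a * (a : Θ)⁻¹ := fun _ => rfl
  have hz : z ∈ A := H.zt
  have hker : Nat.card β.ker = 2 := by
    have e : ∀ a : A, a ∈ β.ker ↔ (a = 1 ∨ a = ⟨z, hz⟩) := by
      intro a
      rw [MonoidHom.mem_ker, hβ, mul_inv_eq_one]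
      constructor
      · intro h
        rcases H.cA a a.2 h with h1 | h1
        · exact Or.inl (Subtype.ext h1)
        · exact Or.inr (Subtype.ext h1)
      · rintro (rfl | rfl)
        · exact map_one _
        · exact H.zx
    have e2 : (β.ker : Set A) = {1, ⟨z, hz⟩} := by
      ext a
      rw [SetLike.mem_coe, e]; rfl
    have e3 : Nat.card β.ker = (β.ker : Set A).ncard := rfl
    rw [e3, e2, Set.ncard_pair]
    intro h
    exact H.z1 (congrArg Subtype.val h).symm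
  have hB : Nat.card β.range = 16 := by
    have h1 := Subgroup.card_mul_index β.ker
    rw [Subgroup.index_ker, hker, hA] at h1
    omega
  have hBA : β.range ≤ A := by
    rintro _ ⟨a, rfl⟩
    rw [hβ]
    exact mul_mem (invA x hxt a a.2) (inv_mem a.2)
  have hxz : ∀ b ∈ β.range, ρ x b = b → b = 1 := by
    intro b hb hbx
    have hzB : z ∉ β.range := by
      rintro ⟨a, ha⟩
      rw [hβ] at ha
      have h1 : ρ x a = a * z := by rw [← ha, mul_comm (ρ x a), mul_inv_cancel_left]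
      have h2 : ∀ m : ℕ, ρ (x ^ m) a = a * z ^ m := by
        intro m
        induction m with
        | zero => simp
        | succ m ih => rw [pow_succ', map_mul, MulAut.mul_apply, ih, map_mul, map_pow, h1, H.zx, pow_succ', mul_assoc]
      have h3 := h2 5
      rw [H.x5, map_one, MulAut.one_apply] at h3
      have h4 : z ^ 5 = 1 := (mul_eq_left.1 h3.symm)
      have h5 : z ^ 5 = z := by
        calc z ^ 5 = (z * z) * (z * z) * z := by simp only [pow_succ, pow_zero, one_mul, mul_assoc]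
          _ = z := by rw [H.two, one_mul]
      exact H.z1 (h5 ▸ h4)
    rcases H.cA b (hBA hb) hbx with h1 | h1
    · exact h1
    · exact absurd (h1 ▸ hb) hzB
  have hzB : z ∉ β.range := fun h => H.z1 (hxz z h H.zx)
  have hidx : (β.range.subgroupOf A).index = 2 := by
    have h1 := Subgroup.card_mul_index (β.range.subgroupOf A)
    have h2 : Nat.card (β.range.subgroupOf A) = 16 := by
      rw [← hB]
      exact Nat.card_congr (Subgroup.subgroupOfEquivOfLe hBA).toEquiv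
    rw [h2, hA] at h1
    omega
  refine ⟨β.range, hB, fun b hb => hBA hb, ?_, fun a ha => ⟨⟨a, ha⟩, rfl⟩, hxz, ?_⟩
  · rintro _ ⟨a, rfl⟩
    exact ⟨a, a.2, rfl⟩
  · intro a ha
    by_cases haB : a ∈ β.range
    · exact Or.inl haB
    · have h1 := (Subgroup.mul_mem_iff_of_index_two hidx (a := ⟨a, ha⟩) (b := ⟨z, hz⟩)).2
        ⟨fun h => absurd (mem_subgroupOf.1 h) haB, fun h => absurd (mem_subgroupOf.1 h) hzB⟩
      exact Or.inr (mem_subgroupOf.1 h1)

/-- a 2-element commuting with `t` and `x` is trivial on `A` -/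
theorem triv_A {y : Y} (hyt : y * t = t * y) (hyx : y * x = x * y) {k : ℕ} (hk : y ^ (2 ^ k) = 1) :
    ∀ a, ρ t a = a → ρ y a = a := by
  have := H.fin
  have := H.finΘ
  have hxt : x * t = t * x := H.comm x H.xY
  obtain ⟨B, hB, hBA, hB1, hB2, hxz, hcov⟩ := H.cover
  have invA : ∀ g : Y, g * t = t * g → ∀ a, ρ t a = a → ρ t (ρ g a) = ρ g a := by
    intro g hg a ha
    rw [H.app hg.symm, ha]
  have hinv : ∀ g : Y, g * t = t * g → g * x = x * g → ∀ b ∈ B, ρ g b ∈ B := by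
    intro g hg hgx b hb
    obtain ⟨a, ha, rfl⟩ := hB1 b hb
    rw [map_mul, map_inv, H.app hgx]
    exact hB2 _ (invA g hg a ha)
  have key : ∀ b ∈ B, ρ y b = b := by
    refine triv16' hB (ρ x) (ρ y) (hinv x hxt rfl) (hinv y hyt hyx) ?_ hxz k ?_ ?_
    · rw [← map_pow, H.x5, map_one]
    · rw [← map_pow, hk, map_one]
    · rw [← map_mul, ← map_mul, hyx]
  have yz : ρ y z = z := by
    rcases H.cA (ρ y z) (invA y hyt z H.zt) (by rw [H.app hyx.symm, H.zx]) with h | h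
    · exact absurd ((map_eq_one_iff _ (MulEquiv.injective (ρ y))).1 h) H.z1
    · exact h
  intro a ha
  rcases hcov a ha with h | h
  · exact key a h
  · have h3 := key _ h
    rw [map_mul, yz] at h3
    exact mul_right_cancel h3

/-- a 2-element outside `Y₀` commuting with `t` and `x` -/
theorem exists_y {y0 : Y} (h0 : y0 * t = t * y0) (h0' : y0 ∉ Y₀) :
    ∃ y : Y, y * t = t * y ∧ y ∉ Y₀ ∧ y * x = x * y ∧ (∃ k : ℕ, y ^ (2 ^ k) = 1) ∧
      ∀ g ∈ Y₀, y * g * y⁻¹ ∈ Y₀ := by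
  have := H.fin
  have : Fact (Nat.Prime 5) := ⟨by norm_num⟩
  set C : Subgroup Y := centralizer {t} with hC
  have memC : ∀ g, g ∈ C ↔ g * t = t * g := fun g => mem_centralizer_singleton_iff
  have hle : Y₀ ≤ C := fun g hg => (memC g).2 (H.comm g hg)
  -- index 2
  have hidx : (Y₀.subgroupOf C).index = 2 := by
    have h1 := Subgroup.card_mul_index (Y₀.subgroupOf C)
    have h2 : Nat.card (Y₀.subgroupOf C) = Nat.card Y₀ := Nat.card_congr (Subgroup.subgroupOfEquivOfLe hle).toEquiv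
    rw [h2] at h1
    have h3 := H.bound
    rw [← hC, ← h1] at h3
    have hpos : 0 < Nat.card Y₀ := Nat.card_pos
    have h4 : (Y₀.subgroupOf C).index ≤ 2 := by
      by_contra h
      rw [not_le] at h
      nlinarith
    have h5 : (Y₀.subgroupOf C).index ≠ 0 := Subgroup.index_ne_zero_of_finite
    have h6 : (Y₀.subgroupOf C).index ≠ 1 := by
      intro h
      rw [Subgroup.index_eq_one, Subgroup.subgroupOf_eq_top] at h
      exact h0' (h ((memC y0).2 h0))
    omega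
  have hmul : ∀ a b : Y, a ∈ C → b ∈ C → (a * b ∈ Y₀ ↔ (a ∈ Y₀ ↔ b ∈ Y₀)) := by
    intro a b ha hb
    exact Subgroup.mul_mem_iff_of_index_two hidx (a := ⟨a, ha⟩) (b := ⟨b, hb⟩)
  have hconj : ∀ y ∈ C, ∀ g ∈ Y₀, y * g * y⁻¹ ∈ Y₀ := by
    intro y hy g hg
    rw [hmul _ _ (mul_mem hy (hle hg)) (inv_mem hy), hmul _ _ hy (hle hg), inv_mem_iff]
    tauto
  have hx1 : x ≠ 1 := by
    rintro rfl
    have h1 : ∀ a : {a : Θ // ρ t a = a}, a = ⟨1, map_one _⟩ ∨ a = ⟨z, H.zt⟩ := by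
      intro a
      rcases H.cA a a.2 (by rw [map_one, MulAut.one_apply]) with h | h
      · exact Or.inl (Subtype.ext h)
      · exact Or.inr (Subtype.ext h)
    have h2 : Nat.card {a : Θ // ρ t a = a} ≤ 2 := by
      have h3 : (Set.univ : Set {a : Θ // ρ t a = a}) ⊆ {⟨1, map_one _⟩, ⟨z, H.zt⟩} := fun a _ => h1 a
      rw [← Set.ncard_univ]
      refine (Set.ncard_le_ncard h3 (Set.toFinite _)).trans ?_
      refine (Set.ncard_insert_le _ _).trans ?_
      rw [Set.ncard_singleton]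
    rw [H.cardA] at h2
    norm_num at h2
  have ho : orderOf x = 5 := orderOf_eq_prime H.x5 hx1
  -- Sylow 5-subgroups of `Y₀`
  have hfac : (Nat.card Y₀).factorization 5 = 1 := by
    have h1 : 5 ∣ Nat.card Y₀ := by
      have h2 : orderOf (⟨x, H.xY⟩ : Y₀) ∣ Nat.card Y₀ := orderOf_dvd_natCard _
      rwa [Subgroup.orderOf_mk, ho] at h2
    have hne : Nat.card Y₀ ≠ 0 := Nat.card_pos.ne'
    have h3 : 1 ≤ (Nat.card Y₀).factorization 5 := (Nat.Prime.dvd_iff_one_le_factorization (by norm_num) hne).1 h1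
    have h4 : ¬ 2 ≤ (Nat.card Y₀).factorization 5 := by
      intro h
      apply H.syl
      have := (Nat.Prime.pow_dvd_iff_le_factorization (p := 5) (by norm_num) hne).2 h
      norm_num at this
      exact this
    omega
  have hsyl : ∀ g : Y₀, orderOf g = 5 → ∃ P : Sylow 5 Y₀, (P : Subgroup Y₀) = zpowers g := by
    intro g hg
    exact ⟨Sylow.ofCard (zpowers g) (by rw [Nat.card_zpowers, hg, hfac, pow_one]), rfl⟩
  have hx' : y0 * x * y0⁻¹ ∈ Y₀ := hconj y0 ((memC y0).2 h0) x H.xY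
  have ho' : orderOf (y0 * x * y0⁻¹) = 5 := by
    rw [← ho]
    exact (MulAut.conj y0).orderOf_eq x
  obtain ⟨P1, hP1⟩ := hsyl ⟨x, H.xY⟩ (by rw [Subgroup.orderOf_mk, ho])
  obtain ⟨P2, hP2⟩ := hsyl ⟨_, hx'⟩ (by rw [Subgroup.orderOf_mk, ho'])
  obtain ⟨g, hg⟩ := MulAction.exists_smul_eq Y₀ P2 P1
  -- `g x' g⁻¹ ∈ ⟨x⟩`
  have hgx : ∃ m : ℕ, (g : Y) * (y0 * x * y0⁻¹) * (g : Y)⁻¹ = x ^ m := by
    have h1 : (MulAut.conj g) (⟨_, hx'⟩ : Y₀) ∈ (P1 : Subgroup Y₀) := by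
      rw [← hg]
      exact ⟨⟨_, hx'⟩, by rw [hP2]; exact mem_zpowers _, rfl⟩
    rw [hP1, mem_zpowers_iff] at h1
    obtain ⟨j, hj⟩ := h1
    have h2 : x ^ j = (g : Y) * (y0 * x * y0⁻¹) * (g : Y)⁻¹ := by
      have := congrArg Subtype.val hj
      simpa using this
    have h3 : x ^ (j % 5).toNat = x ^ j := by
      have h4 : (((j % 5).toNat : ℤ)) = j % 5 := Int.toNat_of_nonneg (Int.emod_nonneg _ (by norm_num))
      rw [← zpow_natCast, h4]
      conv_rhs => rw [← Int.emod_add_mul_ediv j 5, zpow_add, zpow_mul]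
      have h5 : x ^ (5 : ℤ) = 1 := by
        have := H.x5
        rw [← zpow_natCast] at this
        exact_mod_cast this
      rw [h5, one_zpow, mul_one]
    exact ⟨(j % 5).toNat, by rw [h3, h2]⟩
  obtain ⟨m, hm⟩ := hgx
  set y1 : Y := g * y0 with hy1
  have hy1C : y1 ∈ C := mul_mem (hle g.2) ((memC y0).2 h0)
  have hy1N : y1 ∉ Y₀ := by
    rw [hy1, hmul _ _ (hle g.2) ((memC y0).2 h0)]
    intro h
    exact h0' (h.1 g.2)
  have hm1 : y1 * x * y1⁻¹ = x ^ m := by rw [← hm, hy1]; group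
  -- `s ^ j` maps `x` to `x ^ (2 ^ j)`
  have hs : ∀ j : ℕ, s ^ j * x * (s ^ j)⁻¹ = x ^ (2 ^ j) := by
    intro j
    induction j with
    | zero => simp
    | succ j ih =>
      have e : s ^ (j + 1) * x * (s ^ (j + 1))⁻¹ = s * (s ^ j * x * (s ^ j)⁻¹) * s⁻¹ := by rw [pow_succ']; group
      rw [e, ih]
      have e2 : s * x ^ 2 ^ j * s⁻¹ = (s * x * s⁻¹) ^ 2 ^ j := by
        rw [← MulAut.conj_apply, ← MulAut.conj_apply, map_pow]
      rw [e2, H.xs, ← pow_mul, pow_succ']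
  have hmod : ∀ a b : ℕ, a % 5 = b % 5 → x ^ a = x ^ b := by
    intro a b hab
    rw [← pow_mod_orderOf x a, ← pow_mod_orderOf x b, ho, hab]
  have hm5 : m % 5 ≠ 0 := by
    intro h
    have h1 : x ^ m = x ^ 0 := hmod m 0 (by rw [h])
    rw [pow_zero] at h1
    rw [h1] at hm1
    apply hx1
    calc x = y1⁻¹ * (y1 * x * y1⁻¹) * y1 := by group
      _ = 1 := by rw [hm1]; group
  obtain ⟨j, hj⟩ : ∃ j : ℕ, (m * 2 ^ j) % 5 = 1 := by
    have h1 : m % 5 < 5 := Nat.mod_lt _ (by norm_num)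
    interval_cases h : m % 5
    · exact absurd rfl hm5
    · exact ⟨0, by omega⟩
    · exact ⟨3, by omega⟩
    · exact ⟨1, by omega⟩
    · exact ⟨2, by omega⟩
  set y2 : Y := s ^ j * y1 with hy2
  have hsC : s ^ j ∈ Y₀ := pow_mem H.sY j
  have hy2C : y2 ∈ C := mul_mem (hle hsC) hy1C
  have hy2N : y2 ∉ Y₀ := by
    rw [hy2, hmul _ _ (hle hsC) hy1C]
    intro h
    exact hy1N (h.1 hsC)
  have hy2x : y2 * x = x * y2 := by
    have e : y2 * x * y2⁻¹ = x := by
      calc y2 * x * y2⁻¹ = s ^ j * (y1 * x * y1⁻¹) * (s ^ j)⁻¹ := by rw [hy2]; group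
        _ = s ^ j * x ^ m * (s ^ j)⁻¹ := by rw [hm1]
        _ = (s ^ j * x * (s ^ j)⁻¹) ^ m := by rw [← MulAut.conj_apply, ← MulAut.conj_apply, map_pow]
        _ = x ^ (m * 2 ^ j) := by rw [hs, ← pow_mul, mul_comm]
        _ = x ^ 1 := hmod _ _ (by rw [hj])
        _ = x := pow_one x
    rwa [mul_inv_eq_iff_eq_mul] at e
  -- an odd power
  obtain ⟨k, l, hl, hkl⟩ := Nat.exists_eq_two_pow_mul_odd (orderOf_pos y2).ne'
  have hodd : ∀ l : ℕ, Odd l → y2 ^ l ∉ Y₀ := by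
    rintro l ⟨q, rfl⟩
    have h1 : y2 * y2 ∈ Y₀ := by rw [hmul _ _ hy2C hy2C]
    have h2 : y2 ^ (2 * q) ∈ Y₀ := by rw [pow_mul, pow_two]; exact pow_mem h1 q
    rw [pow_succ, hmul _ _ (hle h2) hy2C]
    intro h
    exact hy2N (h.1 h2)
  refine ⟨y2 ^ l, ?_, hodd l hl, ?_, ⟨k, ?_⟩, fun g hg => hconj _ (pow_mem hy2C l) g hg⟩
  · exact (memC _).1 (pow_mem hy2C l)
  · exact (show Commute y2 x from hy2x).pow_left l
  · rw [← pow_mul, mul_comm, ← hkl, pow_orderOf_eq_one]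

/-- **3.3**: `C_Y(t) = Y₀`. -/
theorem mem {y0 : Y} (h0 : y0 * t = t * y0) : y0 ∈ Y₀ := by
  classical
  have := H.fin
  by_contra h0'
  obtain ⟨y1, hyt1, hyN1, hyx1, ⟨k, hk⟩, hconj⟩ := H.exists_y h0 h0'
  have hyA1 : ∀ a, ρ t a = a → ρ y1 a = a := H.triv_A hyt1 hyx1 hk
  have hxt : x * t = t * x := H.comm x H.xY
  have hrt : ∀ r ∈ R, r * t = t * r := fun r hr => H.comm r (H.RY hr)
  -- (4) `y` centralises `R`
  have hyR1 : ∀ r ∈ R, y1 * r = r * y1 := by
    have h1 : ∀ r ∈ R, y1 * r * y1⁻¹ = r ∨ y1 * r * y1⁻¹ = t * r := by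
      intro r hr
      have hc : y1 * r * y1⁻¹ * r⁻¹ ∈ Y₀ := mul_mem (hconj r (H.RY hr)) (inv_mem (H.RY hr))
      have hinv : ∀ a, ρ t a = a → ρ y1⁻¹ a = a := by
        intro a ha
        have h2 : ρ y1⁻¹ (ρ y1 a) = a := by rw [← MulAut.mul_apply, ← map_mul, inv_mul_cancel, map_one, MulAut.one_apply]
        rwa [hyA1 a ha] at h2
      have hrinv : r⁻¹ * t = t * r⁻¹ := H.comm _ (inv_mem (H.RY hr))
      rcases H.YA _ hc (by
        intro a ha
        rw [map_mul, map_mul, map_mul, MulAut.mul_apply, MulAut.mul_apply, MulAut.mul_apply]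
        have ha' : ρ t (ρ r⁻¹ a) = ρ r⁻¹ a := by rw [H.app hrinv.symm, ha]
        rw [hinv _ ha']
        have h3 : ρ r (ρ r⁻¹ a) = a := by rw [← MulAut.mul_apply, ← map_mul, mul_inv_cancel, map_one, MulAut.one_apply]
        rw [h3, hyA1 a ha]) with h | h
      · left
        rwa [mul_inv_eq_one] at h
      · right
        rwa [mul_inv_eq_iff_eq_mul] at h
    -- every element of `R` is a commutator with `x`
    have h2 : ∀ r ∈ R, ∃ r' ∈ R, r = x * r' * x⁻¹ * r'⁻¹ := by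
      let φ : R → R := fun r => ⟨x * r * x⁻¹ * (r : Y)⁻¹, mul_mem (H.xR r r.2) (inv_mem r.2)⟩
      have hφ : Function.Injective φ := by
        intro a b hab
        have h3 : x * (a : Y) * x⁻¹ * (a : Y)⁻¹ = x * (b : Y) * x⁻¹ * (b : Y)⁻¹ := congrArg Subtype.val hab
        have h4 : x * ((b : Y)⁻¹ * a) = ((b : Y)⁻¹ * a) * x := by
          have h5 : (a : Y) * x⁻¹ * (a : Y)⁻¹ = (b : Y) * x⁻¹ * (b : Y)⁻¹ := by
            have := congrArg (fun w => x⁻¹ * w) h3
            simpa [mul_assoc] using this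
          have h6 : ((b : Y)⁻¹ * a) * x⁻¹ = x⁻¹ * ((b : Y)⁻¹ * a) := by
            calc ((b : Y)⁻¹ * a) * x⁻¹ = (b : Y)⁻¹ * ((a : Y) * x⁻¹ * (a : Y)⁻¹) * a := by group
              _ = (b : Y)⁻¹ * ((b : Y) * x⁻¹ * (b : Y)⁻¹) * a := by rw [h5]
              _ = x⁻¹ * ((b : Y)⁻¹ * a) := by group
          calc x * ((b : Y)⁻¹ * a) = x * (((b : Y)⁻¹ * a) * x⁻¹) * x := by group
            _ = x * (x⁻¹ * ((b : Y)⁻¹ * a)) * x := by rw [h6]
            _ = ((b : Y)⁻¹ * a) * x := by group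
        have h7 := H.cx _ (mul_mem (inv_mem b.2) a.2) h4
        exact Subtype.ext (inv_mul_eq_one.1 h7).symm
      intro r hr
      obtain ⟨⟨r', hr'⟩, h3⟩ := (Finite.injective_iff_surjective.1 hφ) ⟨r, hr⟩
      exact ⟨r', hr', (congrArg Subtype.val h3).symm⟩
    intro r hr
    obtain ⟨r', hr', e⟩ := h2 r hr
    have h3 : y1 * x * y1⁻¹ = x := by rw [hyx1]; group
    have h4 : y1 * r * y1⁻¹ = r := by
      have e1 : y1 * r * y1⁻¹ = (y1 * x * y1⁻¹) * (y1 * r' * y1⁻¹) * (y1 * x * y1⁻¹)⁻¹ * (y1 * r' * y1⁻¹)⁻¹ := by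
        rw [e]; group
      rw [h3] at e1
      rw [e1, e]
      rcases h1 r' hr' with h5 | h5
      · rw [h5]
      · rw [h5]
        calc x * (t * r') * x⁻¹ * (t * r')⁻¹ = (x * t) * r' * x⁻¹ * r'⁻¹ * t⁻¹ := by group
          _ = t * (x * r' * x⁻¹ * r'⁻¹) * t⁻¹ := by rw [hxt]; group
          _ = (x * r' * x⁻¹ * r'⁻¹) * t * t⁻¹ := by rw [← e, hrt r hr]
          _ = x * r' * x⁻¹ * r'⁻¹ := by group
    rwa [mul_inv_eq_iff_eq_mul] at h4
  -- (5) `y` fixes `n`, up to `t`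
  obtain ⟨y, hyt, hyN, hyx, hyA, hyR, hyn⟩ : ∃ y : Y, y * t = t * y ∧ y ∉ Y₀ ∧ y * x = x * y ∧
      (∀ a, ρ t a = a → ρ y a = a) ∧ (∀ r ∈ R, y * r = r * y) ∧ ρ y n = n := by
    have h1 : ρ y1 n * n = 1 ∨ ρ y1 n * n = z := by
      refine H.Rz _ ?_ fun r hr => ?_
      · rw [map_mul, ← H.app hyt1, H.nt, map_mul, hyA1 z H.zt]
        calc ρ y1 n * z * (n * z) = ρ y1 n * n * (z * z) := mul_mul_mul_comm _ _ _ _
          _ = ρ y1 n * n := by rw [H.two, mul_one]
      · rw [map_mul, ← H.app (hyR1 r hr), H.Rn r hr]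
    rcases h1 with h1 | h1
    · refine ⟨y1, hyt1, hyN1, hyx1, hyA1, hyR1, ?_⟩
      rw [← mul_left_inj n, h1, H.two]
    · refine ⟨y1 * t, ?_, ?_, ?_, ?_, ?_, ?_⟩
      · rw [hyt1, mul_assoc, hyt1]
      · intro h
        exact hyN1 (by simpa using mul_mem h (inv_mem H.tY))
      · rw [mul_assoc, ← hxt, ← mul_assoc, hyx1, mul_assoc]
      · intro a ha
        rw [map_mul, MulAut.mul_apply, ha, hyA1 a ha]
      · intro r hr
        rw [mul_assoc, ← hrt r hr, ← mul_assoc, hyR1 r hr, mul_assoc]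
      · rw [map_mul, MulAut.mul_apply, H.nt, map_mul, hyA1 z H.zt, ← mul_left_inj n]
        calc ρ y1 n * z * n = ρ y1 n * n * z := mul_right_comm _ _ _
          _ = n * n := by rw [h1, H.two, H.two]
  -- (6) `ψ θ = ρ y θ * θ` vanishes
  have hψA : ∀ θ, ρ t (ρ y θ * θ) = ρ y θ * θ := by
    intro θ
    have ha := H.brk θ
    set a := θ * ρ t θ with hadef
    have h1 : ρ t θ = θ * a := by rw [hadef, ← mul_assoc, H.two, one_mul]
    rw [map_mul, ← H.app hyt, h1, map_mul, hyA a ha]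
    calc ρ y θ * a * (θ * a) = ρ y θ * θ * (a * a) := mul_mul_mul_comm _ _ _ _
      _ = ρ y θ * θ := by rw [H.two, mul_one]
  have hψmul : ∀ θ θ', ρ y (θ * θ') * (θ * θ') = (ρ y θ * θ) * (ρ y θ' * θ') := by
    intro θ θ'
    rw [map_mul, mul_mul_mul_comm]
  have hψa : ∀ a, ρ t a = a → ρ y a * a = 1 := fun a ha => by rw [hyA a ha, H.two]
  have hψn : ρ y n * n = 1 := by rw [hyn, H.two]
  -- an element whose bracket is in `⟨z⟩`
  have hψz : ∀ w, (ρ t w = w ∨ ρ t w = w * z) → ρ y w * w = 1 := by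
    intro w hw
    rcases hw with hw | hw
    · exact hψa w hw
    · have h1 : ρ t (w * n) = w * n := by
        rw [map_mul, hw, H.nt]
        calc w * z * (n * z) = w * n * (z * z) := mul_mul_mul_comm _ _ _ _
          _ = w * n := by rw [H.two, mul_one]
      have h2 := hψa _ h1
      rwa [hψmul, hψn, mul_one] at h2
  have hψR : ∀ θ, ∀ r ∈ R, ρ r (ρ y θ * θ) = ρ y θ * θ := by
    intro θ r hr
    have ha := H.brk θ
    set a := θ * ρ t θ with hadef
    have h1 : ρ t θ = θ * a := by rw [hadef, ← mul_assoc, H.two, one_mul]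
    have h2 : ρ y (ρ r θ * θ) * (ρ r θ * θ) = 1 := by
      apply hψz
      rw [map_mul, ← H.app (hrt r hr), h1, map_mul]
      rcases H.RA r hr a ha with h | h
      · left
        rw [h]
        calc ρ r θ * a * (θ * a) = ρ r θ * θ * (a * a) := mul_mul_mul_comm _ _ _ _
          _ = ρ r θ * θ := by rw [H.two, mul_one]
      · right
        rw [h]
        calc ρ r θ * (a * z) * (θ * a) = ρ r θ * θ * (a * z * a) := mul_mul_mul_comm _ _ _ _
          _ = ρ r θ * θ * (a * a * z) := by rw [mul_right_comm a z a]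
          _ = ρ r θ * θ * z := by rw [H.two, one_mul]
    rw [hψmul, mul_eq_one_iff_eq_inv, H.inv] at h2
    rw [map_mul, ← H.app (hyR r hr), h2]
  have hψ1 : ∀ θ, ρ y θ * θ = 1 ∨ ρ y θ * θ = z := fun θ => H.Rz _ (hψA θ) (hψR θ)
  have hψx : ∀ θ, ρ y (ρ x θ * θ) * (ρ x θ * θ) = 1 := by
    intro θ
    have h1 : ρ x (ρ y θ * θ) = ρ y θ * θ := by
      rcases hψ1 θ with h | h
      · rw [h, map_one]
      · rw [h, H.zx]
    rw [map_mul, ← H.app hyx] at h1
    rw [hψmul, h1, H.two]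
  obtain ⟨B, -, -, hB1, -, -, hcov⟩ := H.cover
  have hψ : ∀ θ, ρ y θ * θ = 1 := by
    intro θ
    have ha := H.brk θ
    set a := θ * ρ t θ with hadef
    have h1 : ρ t θ = θ * a := by rw [hadef, ← mul_assoc, H.two, one_mul]
    obtain ⟨a', ha', e⟩ : ∃ a', ρ t a' = a' ∧ (a = ρ x a' * a' ∨ a = ρ x a' * a' * z) := by
      rcases hcov a ha with h | h
      · obtain ⟨a', ha', e⟩ := hB1 _ h
        rw [H.inv] at e
        exact ⟨a', ha', Or.inl e⟩
      · obtain ⟨a', ha', e⟩ := hB1 _ h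
        rw [H.inv] at e
        refine ⟨a', ha', Or.inr ?_⟩
        rw [← e, mul_assoc, H.two, mul_one]
    obtain ⟨θ', hθ'⟩ := H.sur a' ha'
    have h2 : ρ t (θ * (ρ x θ' * θ')) = θ * (ρ x θ' * θ') * (a * (ρ x a' * a')) := by
      rw [map_mul, map_mul, h1, ← H.app hxt, hθ', map_mul]
      calc θ * a * (ρ x θ' * ρ x a' * (θ' * a')) = θ * a * ((ρ x θ' * θ') * (ρ x a' * a')) := by
            rw [mul_mul_mul_comm (ρ x θ')]
        _ = _ := mul_mul_mul_comm _ _ _ _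
    have h3 : ρ y (θ * (ρ x θ' * θ')) * (θ * (ρ x θ' * θ')) = 1 := by
      apply hψz
      rw [h2]
      rcases e with e | e
      · left
        rw [← e, H.two, mul_one]
      · right
        rw [e]
        calc θ * (ρ x θ' * θ') * (ρ x a' * a' * z * (ρ x a' * a')) =
            θ * (ρ x θ' * θ') * ((ρ x a' * a') * (ρ x a' * a') * z) := by rw [mul_right_comm (ρ x a' * a') z]
          _ = θ * (ρ x θ' * θ') * z := by rw [H.two, one_mul]
    rwa [hψmul, hψx, mul_one] at h3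
  have hy1 : y = 1 := by
    apply H.inj
    rw [map_one]
    ext θ
    rw [MulAut.one_apply]
    have h1 := hψ θ
    rwa [mul_eq_one_iff_eq_inv, H.inv] at h1
  exact hyN (hy1 ▸ one_mem _)

end Cfg

end Cfsg.Agent.OddHalf.D7Tits.Cent

end

-- merged: Cfsg.Agent.OddHalf.D7Tits.YAbs
section

/-!
# ODD D7, `K = ²F₄(2)'`: `YH` without the T-formula, from the action on `Θ` (helper625; text: bb 15617, 3.3 and 4)

* `Pre` : what one reads off in `N_G(Θ)`: the action of `t`, `R`, `x`, `s` on `A = ⟨z, q k⟩` and on `n`.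
* `YH0` : the fields of `YH` but the T-formula (`hom` / `tfy`).
* `Pre.yh0 : ∃ r0, YH0 ρ t x s r0 R Pb z n`.
-/

set_option autoImplicit false
set_option linter.unusedSectionVars false
set_option linter.unusedVariables false

namespace Cfsg.Agent.OddHalf.D7Tits.YAbs

open Subgroup

/-- `YH` without the T-formula. -/
structure YH0 {Y Θ : Type*} [Group Y] [CommGroup Θ] (ρ : Y →* MulAut Θ) (t x s r0 : Y)
    (R Pb : Subgroup Y) (z n : Θ) : Prop where
  fin : Finite Y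
  finΘ : Finite Θ
  inj : Function.Injective ρ
  two : ∀ θ : Θ, θ * θ = 1
  card : Nat.card Θ = 2 ^ 10
  cardA : Nat.card {a : Θ // ρ t a = a} = 2 ^ 5
  tt : t * t = 1
  cardR : Nat.card ↥R = 16
  twoR : ∀ r ∈ R, r * r = 1
  RP : R ≤ Pb
  nR : ∀ p ∈ Pb, ∀ r ∈ R, p * r * p⁻¹ ∈ R
  xP : x ∈ Pb
  sP : s ∈ Pb
  x5 : x ^ 5 = 1
  s4 : s ^ 4 = 1
  xs : s * x * s⁻¹ = x ^ 2
  gen : ∀ p ∈ Pb, ∃ r ∈ R, ∃ j k : ℕ, p = r * x ^ j * s ^ k
  cardP : Nat.card ↥Pb = 320
  cx : ∀ r ∈ R, x * r = r * x → r = 1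
  r0R : r0 ∈ R
  r01 : r0 ≠ 1
  sr0 : s * r0 = r0 * s
  cs : ∀ r ∈ R, s * r = r * s → r = 1 ∨ r = r0
  cs2 : Nat.card {r : ↥R // s ^ 2 * (r : Y) = r * s ^ 2} = 4
  tP : t ∉ Pb
  comm : ∀ p ∈ Pb, t * p = p * t
  cent : ∀ y : Y, y * t = t * y → y ∈ Pb ∨ t * y ∈ Pb
  z1 : z ≠ 1
  zt : ρ t z = z
  zx : ρ x z = z
  nt : ρ t n = n * z
  Rn : ∀ r ∈ R, ρ r n = n
  faith : ∀ r ∈ R, (∀ a : Θ, ρ t a = a → ρ r a = a) → r = 1
  cA : ∀ a : Θ, ρ t a = a → ρ x a = a → a = 1 ∨ a = z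

/-- the T-formula, as in `YH.tfy` -/
def TFY {Y : Type*} [Group Y] (t s : Y) (R : Subgroup Y) : Prop :=
  ∀ X : Subgroup Y, Tb t s R ≤ X → (∀ g : Y, (∀ a ∈ Tb t s R, g⁻¹ * a * g ∈ X) → g ∈ X) →
    (∃ B : Subgroup Y, B ≤ X ∧ (∀ g ∈ X, ∀ b ∈ B, g * b * g⁻¹ ∈ B) ∧ (∀ b ∈ B, b * b = 1) ∧
      (2 ^ 7 ≤ Nat.card ↥B ∨ 2 ^ 5 ≤ Nat.card ↥B ∧
        ∀ S : Subgroup Y, S ≤ X → IsPGroup 2 ↥S → Nat.card ↥S ≤ 2 ^ 8)) →
    ∀ (μ : ↥X →* Multiplicative (ZMod 2)) (ht : t ∈ X), μ ⟨t, ht⟩ = 1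

theorem YH0.yh {Y Θ : Type*} [Group Y] [CommGroup Θ] {ρ : Y →* MulAut Θ} {t x s r0 : Y}
    {R Pb : Subgroup Y} {z n : Θ} (h : YH0 ρ t x s r0 R Pb z n) (htf : TFY t s R) : YH ρ t x s r0 R Pb z n :=
  { h with tfy := htf }

/-- The input: the action of `⟨t⟩ × Pb` on `Θ`. -/
structure Pre {Y Θ : Type*} [Group Y] [CommGroup Θ] (ρ : Y →* MulAut Θ) (t x s : Y) (R Pb : Subgroup Y)
    (z n : Θ) (q : ZMod 5 → Θ) : Prop where
  fin : Finite Y
  finΘ : Finite Θ
  inj : Function.Injective ρ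
  two : ∀ θ : Θ, θ * θ = 1
  card : Nat.card Θ = 2 ^ 10
  cardA : Nat.card {a : Θ // ρ t a = a} = 2 ^ 5
  sur : ∀ a, ρ t a = a → ∃ θ, ρ t θ = θ * a
  tt : t * t = 1
  cardR : Nat.card ↥R = 16
  RP : R ≤ Pb
  nR : ∀ p ∈ Pb, ∀ r ∈ R, p * r * p⁻¹ ∈ R
  xP : x ∈ Pb
  sP : s ∈ Pb
  x5 : x ^ 5 = 1
  s4 : s ^ 4 = 1
  xs : s * x * s⁻¹ = x ^ 2
  gen : ∀ p ∈ Pb, ∃ r ∈ R, ∃ j k : ℕ, p = r * x ^ j * s ^ k
  comm : ∀ p ∈ Pb, t * p = p * t
  z1 : z ≠ 1
  zt : ρ t z = z
  zP : ∀ p ∈ Pb, ρ p z = z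
  qt : ∀ k, ρ t (q k) = q k
  qx : ∀ k, ρ x (q (k + 1)) = q k
  qs : ∀ k, ρ s (q k) = q (2 * k)
  qR : ∀ r ∈ R, ∀ k, ρ r (q k) = q k ∨ ρ r (q k) = q k * z
  qprod : q 0 * q 1 * q 2 * q 3 * q 4 = 1
  Agen : ∀ a, ρ t a = a → a ∈ closure ({z} ∪ Set.range q)
  faith : ∀ p ∈ Pb, (∀ a, ρ t a = a → ρ p a = a) → p = 1
  nt : ρ t n = n * z
  Rn : ∀ r ∈ R, ρ r n = n
  cA : ∀ a, ρ t a = a → ρ x a = a → a = 1 ∨ a = z
  Rz : ∀ a, ρ t a = a → (∀ r ∈ R, ρ r a = a) → a = 1 ∨ a = z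
  bound : ∀ Y₀ : Subgroup Y, (∀ y, y ∈ Y₀ ↔ y ∈ Pb ∨ t * y ∈ Pb) → Nat.card (centralizer {t}) ≤ 2 * Nat.card Y₀

/-! ### Functions `ZMod 5 → ZMod 2` with sum zero -/

/-- sum zero -/
def Ev (f : ZMod 5 → ZMod 2) : Prop := f 0 + f 1 + f 2 + f 3 + f 4 = 0

instance : DecidablePred Ev := fun f => inferInstanceAs (Decidable (_ = _))

theorem card_ev : Nat.card {f : ZMod 5 → ZMod 2 // Ev f} = 16 := by
  rw [Nat.card_eq_fintype_card]
  decide +kernel

theorem card_ev4 : Nat.card {f : {f : ZMod 5 → ZMod 2 // Ev f} // ∀ k, f.1 (4 * k) = f.1 k} = 4 := by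
  rw [Nat.card_eq_fintype_card]
  decide +kernel

theorem ev_shift : ∀ f : ZMod 5 → ZMod 2, Ev f → (∀ k, f (k + 1) = f k) → ∀ k, f k = 0 := by
  decide +kernel

theorem ev_double : ∀ f : ZMod 5 → ZMod 2, Ev f → (∀ k, f (2 * k) = f k) →
    (∀ k, f k = 0) ∨ ∀ k, f k = if k = 0 then 0 else 1 := by
  decide +kernel

theorem ev_sep : ∀ i j : ZMod 5, i ≠ j → ∃ f : ZMod 5 → ZMod 2, Ev f ∧ f i ≠ f j := by
  decide +kernel

/-! ### The map `R → {sum zero}` -/

namespace Pre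

variable {Y Θ : Type*} [Group Y] [CommGroup Θ] {ρ : Y →* MulAut Θ} {t x s : Y} {R Pb : Subgroup Y} {z n : Θ}
  {q : ZMod 5 → Θ}

/-- `z^e` -/
def zp (z : Θ) (e : ZMod 2) : Θ := if e = 0 then 1 else z

open Classical in
/-- the points moved by `r` -/
noncomputable def S (ρ : Y →* MulAut Θ) (q : ZMod 5 → Θ) (r : Y) (k : ZMod 5) : ZMod 2 := if ρ r (q k) = q k then 0 else 1

variable (H : Pre ρ t x s R Pb z n q)

include H

theorem zp_add (a b : ZMod 2) : zp z (a + b) = zp z a * zp z b := by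
  have h : ∀ a : ZMod 2, a = 0 ∨ a = 1 := by decide
  have e : (1 : ZMod 2) + 1 = 0 := by decide
  rcases h a with rfl | rfl <;> rcases h b with rfl | rfl
  · simp [zp]
  · simp [zp]
  · simp [zp]
  · rw [e]
    simp [zp, H.two]

theorem zp_inj {a b : ZMod 2} (h : zp z a = zp z b) : a = b := by
  have h' : ∀ a : ZMod 2, a = 0 ∨ a = 1 := by decide
  rcases h' a with rfl | rfl <;> rcases h' b with rfl | rfl
  · rfl
  · simp only [zp, if_true, one_ne_zero, if_false] at h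
    exact absurd h.symm H.z1
  · simp only [zp, if_true, one_ne_zero, if_false] at h
    exact absurd h H.z1
  · rfl

theorem zp_fix {p : Y} (hp : p ∈ Pb) (e : ZMod 2) : ρ p (zp z e) = zp z e := by
  unfold zp
  split_ifs
  · exact map_one _
  · exact H.zP p hp

theorem rq {r : Y} (hr : r ∈ R) (k : ZMod 5) : ρ r (q k) = q k * zp z (S ρ q r k) := by
  unfold S
  split_ifs with h
  · rw [h]; simp [zp]
  · rcases H.qR r hr k with h1 | h1
    · exact absurd h1 h
    · rw [h1]; simp [zp]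

theorem S_eq {r : Y} (hr : r ∈ R) {k : ZMod 5} {e : ZMod 2} (h : ρ r (q k) = q k * zp z e) : S ρ q r k = e := by
  rw [H.rq hr] at h
  exact H.zp_inj (mul_left_cancel h)

theorem S_mul {r r' : Y} (hr : r ∈ R) (hr' : r' ∈ R) (k : ZMod 5) : S ρ q (r * r') k = S ρ q r k + S ρ q r' k := by
  apply H.S_eq (mul_mem hr hr')
  rw [map_mul, MulAut.mul_apply, H.rq hr', map_mul, H.rq hr, H.zp_fix (H.RP hr), H.zp_add, mul_assoc]

theorem ext_A {p p' : Y} (hp : p ∈ Pb) (hp' : p' ∈ Pb) (h : ∀ k, ρ p (q k) = ρ p' (q k)) : p = p' := by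
  have h1 : ∀ a, ρ t a = a → ρ (p'⁻¹ * p) a = a := by
    intro a ha
    have hle : closure ({z} ∪ Set.range q) ≤
        ({ carrier := {a | ρ (p'⁻¹ * p) a = a}
           one_mem' := map_one _
           mul_mem' := fun {a b} ha hb => by
            show ρ (p'⁻¹ * p) (a * b) = a * b
            rw [map_mul, ha, hb]
           inv_mem' := fun {a} ha => by
            show ρ (p'⁻¹ * p) a⁻¹ = a⁻¹
            rw [map_inv, ha] } : Subgroup Θ) := by
      rw [closure_le]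
      rintro b (rfl | ⟨k, rfl⟩)
      · exact H.zP _ (mul_mem (inv_mem hp') hp)
      · show ρ (p'⁻¹ * p) (q k) = q k
        rw [map_mul, MulAut.mul_apply, h k, ← MulAut.mul_apply, ← map_mul, inv_mul_cancel, map_one, MulAut.one_apply]
    exact hle (H.Agen a ha)
  have h2 := H.faith _ (mul_mem (inv_mem hp') hp) h1
  exact (inv_mul_eq_one.1 h2).symm

theorem S_inj {r r' : Y} (hr : r ∈ R) (hr' : r' ∈ R) (h : ∀ k, S ρ q r k = S ρ q r' k) : r = r' :=
  H.ext_A (H.RP hr) (H.RP hr') fun k => by rw [H.rq hr, H.rq hr', h k]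

theorem S_one (k : ZMod 5) : S ρ q (1 : Y) k = 0 := by
  unfold S
  rw [map_one, MulAut.one_apply, if_pos rfl]

theorem S_ev {r : Y} (hr : r ∈ R) : Ev (S ρ q r) := by
  have h := H.qprod
  have h1 := congrArg (ρ r) h
  rw [map_mul, map_mul, map_mul, map_mul, map_one, H.rq hr, H.rq hr, H.rq hr, H.rq hr, H.rq hr] at h1
  have e : q 0 * zp z (S ρ q r 0) * (q 1 * zp z (S ρ q r 1)) * (q 2 * zp z (S ρ q r 2)) * (q 3 * zp z (S ρ q r 3)) *
      (q 4 * zp z (S ρ q r 4)) = (q 0 * q 1 * q 2 * q 3 * q 4) *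
      (zp z (S ρ q r 0) * zp z (S ρ q r 1) * zp z (S ρ q r 2) * zp z (S ρ q r 3) * zp z (S ρ q r 4)) := by
    ac_rfl
  rw [e, h, one_mul, ← H.zp_add, ← H.zp_add, ← H.zp_add, ← H.zp_add] at h1
  apply H.zp_inj (a := _) (b := 0)
  rw [h1]
  simp [zp]

/-- the bijection -/
theorem bij : Function.Bijective (fun r : R => (⟨S ρ q r, H.S_ev r.2⟩ : {f : ZMod 5 → ZMod 2 // Ev f})) := by
  have := H.fin
  rw [Nat.bijective_iff_injective_and_card]
  refine ⟨fun a b hab => Subtype.ext (H.S_inj a.2 b.2 fun k => congrFun (congrArg Subtype.val hab) k), ?_⟩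
  rw [H.cardR, card_ev]

theorem S_sur {f : ZMod 5 → ZMod 2} (hf : Ev f) : ∃ r ∈ R, S ρ q r = f := by
  obtain ⟨r, hr⟩ := H.bij.2 ⟨f, hf⟩
  exact ⟨r, r.2, congrArg Subtype.val hr⟩

theorem twoR : ∀ r ∈ R, r * r = 1 := by
  intro r hr
  apply H.S_inj (mul_mem hr hr) (one_mem _)
  intro k
  rw [H.S_mul hr hr, H.S_one]
  have : ∀ a : ZMod 2, a + a = 0 := by decide
  exact this _

/-- the points are different modulo `z` -/
theorem q_ne {k l : ZMod 5} {e : ZMod 2} (h : q k = q l * zp z e) : k = l := by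
  by_contra hkl
  obtain ⟨f, hf, hne⟩ := ev_sep k l hkl
  obtain ⟨r, hr, hS⟩ := H.S_sur hf
  apply hne
  have h1 := congrArg (ρ r) h
  rw [map_mul, H.rq hr, H.rq hr, H.zp_fix (H.RP hr), h, hS, mul_right_comm (q l)] at h1
  exact H.zp_inj (mul_left_cancel (mul_right_cancel h1 : q l * zp z (f k) = q l * zp z (f l)))

theorem S_x {r : Y} (hr : r ∈ R) (k : ZMod 5) : S ρ q (x * r * x⁻¹) k = S ρ q r (k + 1) := by
  apply H.S_eq (H.nR x H.xP r hr)
  rw [← H.qx k, ← MulAut.mul_apply, ← map_mul]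
  have e : x * r * x⁻¹ * x = x * r := by group
  rw [e, map_mul, MulAut.mul_apply, H.rq hr, map_mul, H.zp_fix H.xP]

theorem S_s {r : Y} (hr : r ∈ R) (k : ZMod 5) : S ρ q (s * r * s⁻¹) (2 * k) = S ρ q r k := by
  apply H.S_eq (H.nR s H.sP r hr)
  rw [← H.qs k, ← MulAut.mul_apply, ← map_mul]
  have e : s * r * s⁻¹ * s = s * r := by group
  rw [e, map_mul, MulAut.mul_apply, H.rq hr, map_mul, H.zp_fix H.sP]

theorem S_s2 {r : Y} (hr : r ∈ R) (k : ZMod 5) : S ρ q (s ^ 2 * r * (s ^ 2)⁻¹) (4 * k) = S ρ q r k := by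
  have e : s ^ 2 * r * (s ^ 2)⁻¹ = s * (s * r * s⁻¹) * s⁻¹ := by rw [pow_two]; group
  have e2 : 4 * k = 2 * (2 * k) := by revert k; decide
  rw [e, e2, H.S_s (H.nR s H.sP r hr), H.S_s hr]

theorem cx : ∀ r ∈ R, x * r = r * x → r = 1 := by
  intro r hr h
  have e : x * r * x⁻¹ = r := by rw [h]; group
  have h1 : ∀ k, S ρ q r (k + 1) = S ρ q r k := by
    intro k
    rw [← H.S_x hr, e]
  apply H.S_inj hr (one_mem _)
  intro k
  rw [ev_shift _ (H.S_ev hr) h1, H.S_one]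

theorem s_iff {r : Y} (hr : r ∈ R) : s * r = r * s ↔ ∀ k, S ρ q r (2 * k) = S ρ q r k := by
  constructor
  · intro h k
    have e : s * r * s⁻¹ = r := by rw [h]; group
    have h1 := H.S_s hr k
    rwa [e] at h1
  · intro h
    have e : s * r * s⁻¹ = r := by
      apply H.S_inj (H.nR s H.sP r hr) hr
      intro k
      have e2 : k = 2 * (3 * k) := by revert k; decide
      rw [e2, H.S_s hr, h]
    rwa [mul_inv_eq_iff_eq_mul] at e

theorem s2_iff {r : Y} (hr : r ∈ R) : s ^ 2 * r = r * s ^ 2 ↔ ∀ k, S ρ q r (4 * k) = S ρ q r k := by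
  have hs2 : s ^ 2 ∈ Pb := pow_mem H.sP 2
  constructor
  · intro h k
    have e : s ^ 2 * r * (s ^ 2)⁻¹ = r := by rw [h]; group
    have h1 := H.S_s2 hr k
    rwa [e] at h1
  · intro h
    have e : s ^ 2 * r * (s ^ 2)⁻¹ = r := by
      apply H.S_inj (H.nR _ hs2 r hr) hr
      intro k
      have e2 : k = 4 * (4 * k) := by revert k; decide
      have h1 := H.S_s2 hr (4 * k)
      rw [← e2, h] at h1
      exact h1
    rwa [mul_inv_eq_iff_eq_mul] at e

theorem cs2 : Nat.card {r : ↥R // s ^ 2 * (r : Y) = r * s ^ 2} = 4 := by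
  rw [← card_ev4]
  exact Nat.card_congr ((Equiv.ofBijective _ H.bij).subtypeEquiv fun r => H.s2_iff r.2)

theorem exists_r0 : ∃ r0 ∈ R, r0 ≠ 1 ∧ s * r0 = r0 * s ∧ ∀ r ∈ R, s * r = r * s → r = 1 ∨ r = r0 := by
  obtain ⟨r0, hr0, hS⟩ := H.S_sur (f := fun k => if k = 0 then 0 else 1) (by decide)
  refine ⟨r0, hr0, ?_, ?_, ?_⟩
  · rintro rfl
    have h := congrFun hS 1
    rw [H.S_one] at h
    exact absurd h (by decide)
  · rw [H.s_iff hr0, hS]
    decide
  · intro r hr h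
    rw [H.s_iff hr] at h
    rcases ev_double _ (H.S_ev hr) h with h1 | h1
    · left
      apply H.S_inj hr (one_mem _)
      intro k
      rw [h1, H.S_one]
    · right
      apply H.S_inj hr hr0
      intro k
      rw [h1, hS]

/-! ### The order of `Pb` -/

/-- `x^j` on the points -/
theorem qxp (j : ℕ) (k : ZMod 5) : ρ (x ^ j) (q k) = q (k - j) := by
  induction j generalizing k with
  | zero => simp
  | succ j ih =>
    rw [pow_succ', map_mul, MulAut.mul_apply, ih]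
    have e : k - (j : ZMod 5) = (k - ((j + 1 : ℕ) : ZMod 5)) + 1 := by push_cast; ring
    rw [e, H.qx]

/-- `s^j` on the points -/
theorem qsp (j : ℕ) (k : ZMod 5) : ρ (s ^ j) (q k) = q (2 ^ j * k) := by
  induction j generalizing k with
  | zero => simp
  | succ j ih =>
    rw [pow_succ', map_mul, MulAut.mul_apply, ih, H.qs]
    congr 1
    rw [pow_succ']; ring

theorem qall {r : Y} (hr : r ∈ R) (j k : ℕ) (l : ZMod 5) :
    ∃ e, ρ (r * x ^ j * s ^ k) (q l) = q (2 ^ k * l - j) * zp z e := by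
  rw [map_mul, map_mul, MulAut.mul_apply, MulAut.mul_apply, H.qsp, H.qxp, H.rq hr]
  exact ⟨_, rfl⟩

theorem cardP : Nat.card ↥Pb = 320 := by
  have := H.fin
  let f : R × Fin 5 × Fin 4 → Pb := fun a =>
    ⟨a.1 * x ^ (a.2.1 : ℕ) * s ^ (a.2.2 : ℕ), mul_mem (mul_mem (H.RP a.1.2) (pow_mem H.xP _)) (pow_mem H.sP _)⟩
  have hf : Function.Bijective f := by
    constructor
    · rintro ⟨⟨r, hr⟩, j, k⟩ ⟨⟨r', hr'⟩, j', k'⟩ h
      have h1 : r * x ^ (j : ℕ) * s ^ (k : ℕ) = r' * x ^ (j' : ℕ) * s ^ (k' : ℕ) := congrArg Subtype.val h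
      have h2 : ∀ l : ZMod 5, 2 ^ (k : ℕ) * l - ((j : ℕ) : ZMod 5) = 2 ^ (k' : ℕ) * l - ((j' : ℕ) : ZMod 5) := by
        intro l
        obtain ⟨e, he⟩ := H.qall hr j k l
        obtain ⟨e', he'⟩ := H.qall hr' j' k' l
        rw [h1, he'] at he
        apply H.q_ne (e := e + e')
        rw [H.zp_add, mul_comm (zp z e), ← mul_assoc, he, mul_assoc, ← H.zp_add]
        have e2 : ∀ a : ZMod 2, a + a = 0 := by decide
        rw [e2]
        simp [zp]
      have h3 : ∀ (j j' : Fin 5) (k k' : Fin 4), (∀ l : ZMod 5, 2 ^ (k : ℕ) * l - ((j : ℕ) : ZMod 5) =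
          2 ^ (k' : ℕ) * l - ((j' : ℕ) : ZMod 5)) → j = j' ∧ k = k' := by decide +kernel
      obtain ⟨rfl, rfl⟩ := h3 j j' k k' h2
      have h4 : r = r' := mul_right_cancel (mul_right_cancel h1)
      subst h4
      rfl
    · rintro ⟨p, hp⟩
      obtain ⟨r, hr, j, k, rfl⟩ := H.gen p hp
      refine ⟨(⟨r, hr⟩, ⟨j % 5, Nat.mod_lt _ (by norm_num)⟩, ⟨k % 4, Nat.mod_lt _ (by norm_num)⟩), Subtype.ext ?_⟩
      show r * x ^ (j % 5) * s ^ (k % 4) = r * x ^ j * s ^ k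
      rw [← pow_eq_pow_mod j H.x5, ← pow_eq_pow_mod k H.s4]
  rw [← Nat.card_congr (Equiv.ofBijective f hf), Nat.card_prod, Nat.card_prod, H.cardR, Nat.card_fin, Nat.card_fin]

/-! ### `⟨t⟩ × Pb` -/

theorem tP : t ∉ Pb := by
  intro h
  have h1 := H.faith t h fun a ha => ha
  have h2 := H.nt
  rw [h1, map_one, MulAut.one_apply] at h2
  exact H.z1 (mul_eq_left.1 h2.symm)

theorem t_inv : t⁻¹ = t := inv_eq_of_mul_eq_one_left H.tt

/-- the group `⟨t⟩ × Pb` -/
theorem exists_Y₀ : ∃ Y₀ : Subgroup Y, (∀ y, y ∈ Y₀ ↔ y ∈ Pb ∨ t * y ∈ Pb) ∧ Nat.card Y₀ = 640 := by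
  have := H.fin
  have htt : ∀ y, t * (t * y) = y := by
    intro y
    rw [← mul_assoc, H.tt, one_mul]
  let Y₀ : Subgroup Y :=
    { carrier := {y | y ∈ Pb ∨ t * y ∈ Pb}
      one_mem' := Or.inl (one_mem _)
      mul_mem' := by
        rintro a b (ha | ha) (hb | hb)
        · exact Or.inl (mul_mem ha hb)
        · right
          rw [← mul_assoc, H.comm a ha, mul_assoc]
          exact mul_mem ha hb
        · right
          rw [← mul_assoc]
          exact mul_mem ha hb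
        · left
          have h1 := mul_mem ha hb
          have h2 : t * a * (t * b) = a * b := by
            have h3 := H.comm _ ha
            rw [htt] at h3
            rw [← mul_assoc, ← h3]
          rwa [h2] at h1
      inv_mem' := by
        rintro a (ha | ha)
        · exact Or.inl (inv_mem ha)
        · right
          have h1 := H.comm _ (inv_mem ha)
          have h2 := inv_mem ha
          have h3 : t * a⁻¹ = (t * a)⁻¹ := by
            rw [mul_inv_rev, H.t_inv] at h1 ⊢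
            rw [mul_assoc a⁻¹, H.tt, mul_one] at h1
            calc t * a⁻¹ = t * (a⁻¹ * t) * t := by rw [mul_assoc, mul_assoc, H.tt, mul_one]
              _ = a⁻¹ * t := by rw [h1]
          show t * a⁻¹ ∈ Pb
          rwa [h3] }
  have hY : ∀ y, y ∈ Y₀ ↔ y ∈ Pb ∨ t * y ∈ Pb := fun _ => Iff.rfl
  refine ⟨Y₀, hY, ?_⟩
  have hle : Pb ≤ Y₀ := fun y hy => Or.inl hy
  have h1 := Subgroup.card_mul_index (Pb.subgroupOf Y₀)
  have h2 : Nat.card (Pb.subgroupOf Y₀) = 320 := by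
    rw [← H.cardP]
    exact Nat.card_congr (Subgroup.subgroupOfEquivOfLe hle).toEquiv
  have h3 : (Pb.subgroupOf Y₀).index = 2 := by
    rw [Subgroup.index_eq_two_iff]
    refine ⟨⟨t, Or.inr (by rw [H.tt]; exact one_mem _)⟩, ?_⟩
    rintro ⟨b, hb⟩
    rw [mem_subgroupOf, mem_subgroupOf]
    show Xor (b * t ∈ Pb) (b ∈ Pb)
    rcases hb with hb | hb
    · refine Or.inr ⟨hb, fun h => H.tP ?_⟩
      have := mul_mem (inv_mem hb) h
      rwa [inv_mul_cancel_left] at this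
    · refine Or.inl ⟨?_, fun h => H.tP ?_⟩
      · have h1 := H.comm _ hb
        rw [htt, mul_assoc] at h1
        have h2 : b * t = t * b := by
          calc b * t = t * (t * (b * t)) := (htt _).symm
            _ = t * b := by rw [← h1]
        rwa [h2]
      · have := mul_mem hb (inv_mem h)
        rwa [mul_inv_cancel_right] at this
  rw [h2, h3] at h1
  rw [← h1]

theorem RA : ∀ r ∈ R, ∀ a, ρ t a = a → ρ r a = a ∨ ρ r a = a * z := by
  intro r hr a ha
  have hz : ρ r z = z := H.zP r (H.RP hr)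
  have hle : closure ({z} ∪ Set.range q) ≤
      ({ carrier := {a | ρ r a = a ∨ ρ r a = a * z}
         one_mem' := Or.inl (map_one _)
         mul_mem' := by
          rintro a b ha hb
          show ρ r (a * b) = a * b ∨ ρ r (a * b) = a * b * z
          rw [map_mul]
          rcases ha with ha | ha <;> rcases hb with hb | hb <;> rw [ha, hb]
          · exact Or.inl rfl
          · exact Or.inr (mul_assoc _ _ _).symm
          · exact Or.inr (mul_right_comm _ _ _)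
          · left
            rw [mul_mul_mul_comm, H.two, mul_one]
         inv_mem' := by
          rintro a ha
          show ρ r a⁻¹ = a⁻¹ ∨ ρ r a⁻¹ = a⁻¹ * z
          have e : a⁻¹ = a := inv_eq_of_mul_eq_one_left (H.two a)
          rwa [e] } : Subgroup Θ) := by
    rw [closure_le]
    rintro b (rfl | ⟨k, rfl⟩)
    · exact Or.inl hz
    · exact H.qR r hr k
  exact hle (H.Agen a ha)

/-- **3.3** -/
theorem cent : ∀ y : Y, y * t = t * y → y ∈ Pb ∨ t * y ∈ Pb := by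
  intro y hy
  obtain ⟨Y₀, hY, hcard⟩ := H.exists_Y₀
  have htt : ∀ y, t * (t * y) = y := by
    intro y
    rw [← mul_assoc, H.tt, one_mul]
  have C : Cent.Cfg ρ t x s R Y₀ z n :=
    { fin := H.fin
      finΘ := H.finΘ
      inj := H.inj
      two := H.two
      cardA := H.cardA
      sur := H.sur
      tt := H.tt
      x5 := H.x5
      xs := H.xs
      zt := H.zt
      zx := H.zP x H.xP
      z1 := H.z1
      cA := H.cA
      nt := H.nt
      Rn := H.Rn
      RA := H.RA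
      Rz := H.Rz
      xR := H.nR x H.xP
      cx := H.cx
      tY := (hY t).2 (Or.inr (by rw [H.tt]; exact one_mem _))
      xY := (hY x).2 (Or.inl H.xP)
      sY := (hY s).2 (Or.inl H.sP)
      RY := fun r hr => (hY r).2 (Or.inl (H.RP hr))
      comm := by
        intro y hy
        rcases (hY y).1 hy with h | h
        · exact (H.comm y h).symm
        · have h1 := H.comm _ h
          rw [htt, mul_assoc] at h1
          calc y * t = t * (t * (y * t)) := (htt _).symm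
            _ = t * y := by rw [← h1]
      YA := by
        intro y hy hA
        rcases (hY y).1 hy with h | h
        · exact Or.inl (H.faith y h hA)
        · right
          have h1 := H.faith _ h fun a ha => by rw [map_mul, MulAut.mul_apply, hA a ha, ha]
          rw [mul_eq_one_iff_eq_inv] at h1
          rw [← H.t_inv, h1, inv_inv]
      syl := by rw [hcard]; norm_num
      bound := H.bound Y₀ hY }
  exact (hY y).1 (C.mem hy)

/-- **All fields of `YH` but the T-formula** -/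
theorem yh0 : ∃ r0, YH0 ρ t x s r0 R Pb z n := by
  obtain ⟨r0, hr0, hr01, hs, hcs⟩ := H.exists_r0
  exact ⟨r0,
    { fin := H.fin
      finΘ := H.finΘ
      inj := H.inj
      two := H.two
      card := H.card
      cardA := H.cardA
      tt := H.tt
      cardR := H.cardR
      twoR := H.twoR
      RP := H.RP
      nR := H.nR
      xP := H.xP
      sP := H.sP
      x5 := H.x5
      s4 := H.s4
      xs := H.xs
      gen := H.gen
      cardP := H.cardP
      cx := H.cx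
      r0R := hr0
      r01 := hr01
      sr0 := hs
      cs := hcs
      cs2 := H.cs2
      tP := H.tP
      comm := H.comm
      cent := H.cent
      z1 := H.z1
      zt := H.zt
      zx := H.zP x H.xP
      nt := H.nt
      Rn := H.Rn
      faith := fun r hr h => H.faith r (H.RP hr) h
      cA := H.cA }⟩

end Pre

end Cfsg.Agent.OddHalf.D7Tits.YAbs

end
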