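import Cfsg.Agent.OddHalf.D7Tits.YH

-- merged: Cfsg.Agent.OddHalf.D7Tits.YBase
section

/-!
# `K = ²F₄(2)'`: first consequences of `YH` (helper961)

General lemmas on elementary abelian groups, the group `E5 = ⟨t⟩ × R` of order `2^5`, the orders of `C_Y(t)` and
`Tb`, and the `x`-invariant subgroups.
-/

set_option autoImplicit false
set_option linter.unusedSectionVars false

namespace Cfsg.Agent.OddHalf.D7Tits.YBase

open Subgroup

/-! ### general lemmas -/

section Gen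

variable {G : Type*} [Group G]

theorem comm_of_sq {F : Subgroup G} (h : ∀ a ∈ F, a * a = 1) : ∀ a ∈ F, ∀ b ∈ F, a * b = b * a := by
  intro a ha b hb
  have h1 := h _ (mul_mem ha hb)
  have ha' : a⁻¹ = a := inv_eq_of_mul_eq_one_left (h a ha)
  have hb' : b⁻¹ = b := inv_eq_of_mul_eq_one_left (h b hb)
  calc a * b = (a * b)⁻¹ := (inv_eq_of_mul_eq_one_left h1).symm
    _ = b⁻¹ * a⁻¹ := mul_inv_rev _ _
    _ = b * a := by rw [ha', hb']

theorem card_ker_range {G' : Type*} [Group G'] (f : G →* G') :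
    Nat.card G = Nat.card f.ker * Nat.card f.range := by
  rw [← Subgroup.index_ker, Subgroup.card_mul_index]

/-- an involution `t` acting on an elementary abelian group `F`: `|F| ≤ |C_F(t)|²` -/
theorem card_le_sq [Finite G] {F : Subgroup G} (h2 : ∀ a ∈ F, a * a = 1) {t : G} (tt : t * t = 1)
    (ht : ∀ a ∈ F, t * a * t⁻¹ ∈ F) :
    Nat.card ↥F ≤ Nat.card ↥(F ⊓ centralizer {t} : Subgroup G) ^ 2 := by
  have hc := comm_of_sq h2
  have ti : t⁻¹ = t := inv_eq_of_mul_eq_one_left tt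
  let f : ↥F →* G :=
    { toFun := fun a => (a : G) * (t * a * t⁻¹)
      map_one' := by
        show (1 : G) * (t * 1 * t⁻¹) = 1
        group
      map_mul' := by
        intro a b
        show (a : G) * b * (t * (a * b) * t⁻¹) = a * (t * a * t⁻¹) * (b * (t * b * t⁻¹))
        have h1 := hc _ b.2 _ (ht _ a.2)
        calc (a : G) * b * (t * (a * b) * t⁻¹) = a * (b * (t * a * t⁻¹)) * (t * b * t⁻¹) := by group
          _ = a * (t * a * t⁻¹) * (b * (t * b * t⁻¹)) := by rw [h1]; group }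
  have hk : Nat.card f.ker ≤ Nat.card ↥(F ⊓ centralizer {t} : Subgroup G) := by
    rw [← Subgroup.card_map_of_injective (K := f.ker) F.subtype_injective]
    apply Subgroup.card_le_of_le
    rintro _ ⟨a, ha, rfl⟩
    have ha1 : (a : G) * (t * a * t⁻¹) = 1 := ha
    refine ⟨a.2, ?_⟩
    show (a : G) ∈ centralizer {t}
    rw [mem_centralizer_singleton_iff]
    have h3 : t * a * t⁻¹ = a := by
      rw [← inv_eq_of_mul_eq_one_right ha1]
      exact inv_eq_of_mul_eq_one_left (h2 _ a.2)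
    rw [mul_inv_eq_iff_eq_mul] at h3
    exact h3.symm
  have hr : Nat.card f.range ≤ Nat.card ↥(F ⊓ centralizer {t} : Subgroup G) := by
    apply Subgroup.card_le_of_le
    rintro _ ⟨a, rfl⟩
    refine ⟨mul_mem a.2 (ht _ a.2), ?_⟩
    show (a : G) * (t * a * t⁻¹) ∈ centralizer {t}
    rw [mem_centralizer_singleton_iff]
    have h1 := hc _ a.2 _ (ht _ a.2)
    calc (a : G) * (t * a * t⁻¹) * t = a * t * a := by group
      _ = t * (t⁻¹ * a * t * a) := by group
      _ = t * ((t * a * t⁻¹) * a) := by rw [ti]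
      _ = t * (a * (t * a * t⁻¹)) := by rw [h1]
  rw [card_ker_range f, pow_two]
  exact Nat.mul_le_mul hk hr

theorem mod5 {α : Type*} [Finite α] (f : α → α) (h : ∀ a, f (f (f (f (f a)))) = a) :
    Nat.card α ≡ Nat.card {a // f a = a} [MOD 5] := by
  classical
  have := Fintype.ofFinite α
  have hp : Fact (Nat.Prime 5) := ⟨by norm_num⟩
  let g : Function.End α := f
  have hf : g ^ 5 ^ 1 = 1 := by
    have e : (5 : ℕ) ^ 1 = 5 := by norm_num
    rw [e]
    funext a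
    exact h a
  have h1 := Equiv.Perm.card_fixedPoints_modEq hf
  rw [Nat.card_eq_fintype_card, Nat.card_eq_fintype_card]
  convert h1 using 1
  exact Fintype.card_congr (Equiv.refl _)

/-- the double `F ∪ tF` -/
def dbl (t : G) (tt : t * t = 1) (F : Subgroup G) (h : ∀ a ∈ F, t * a = a * t) : Subgroup G where
  carrier := {y | y ∈ F ∨ t * y ∈ F}
  one_mem' := Or.inl (one_mem F)
  mul_mem' := by
    rintro a b (ha | ha) (hb | hb)
    · exact Or.inl (mul_mem ha hb)
    · right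
      have : t * (a * b) = a * (t * b) := by rw [← mul_assoc, h a ha, mul_assoc]
      rw [this]
      exact mul_mem ha hb
    · right
      rw [← mul_assoc]
      exact mul_mem ha hb
    · left
      have e : a = t * (t * a) := by rw [← mul_assoc, tt, one_mul]
      have : a * b = t * a * (t * b) := by
        calc a * b = (t * (t * a)) * b := by rw [← e]
          _ = t * a * t * b := by rw [h _ ha]
          _ = _ := by group
      rw [this]
      exact mul_mem ha hb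
  inv_mem' := by
    rintro a (ha | ha)
    · exact Or.inl (inv_mem ha)
    · right
      have h1 := inv_mem ha
      have ti : t⁻¹ = t := inv_eq_of_mul_eq_one_left tt
      have h2 := h _ h1
      have e : t * a⁻¹ = (t * a)⁻¹ := by
        rw [mul_inv_rev, ti] at h2 ⊢
        calc t * a⁻¹ = t * (a⁻¹ * t) * t := by
              rw [mul_assoc, mul_assoc, tt, mul_one]
          _ = a⁻¹ * t * t * t := by rw [h2]
          _ = a⁻¹ * t := by rw [mul_assoc (a⁻¹ * t) t t, tt, mul_one]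
      rw [e]
      exact h1

variable {t : G} {tt : t * t = 1} {F : Subgroup G} {h : ∀ a ∈ F, t * a = a * t}

theorem mem_dbl {y : G} : y ∈ dbl t tt F h ↔ y ∈ F ∨ t * y ∈ F := Iff.rfl

theorem le_dbl : F ≤ dbl t tt F h := fun _ ha => Or.inl ha

theorem t_mem_dbl : t ∈ dbl t tt F h := Or.inr (by rw [tt]; exact one_mem F)

theorem card_dbl [Finite G] (ht : t ∉ F) : Nat.card ↥(dbl t tt F h) = 2 * Nat.card ↥F := by
  have e : ((dbl t tt F h : Subgroup G) : Set G) = (F : Set G) ∪ (fun a => t * a) '' (F : Set G) := by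
    ext y
    constructor
    · rintro (hy | hy)
      · exact Or.inl hy
      · exact Or.inr ⟨t * y, hy, by show t * (t * y) = y; rw [← mul_assoc, tt, one_mul]⟩
    · rintro (hy | ⟨a, ha, rfl⟩)
      · exact Or.inl hy
      · right
        show t * (t * a) ∈ F
        rw [← mul_assoc, tt, one_mul]
        exact ha
  have hd : Disjoint (F : Set G) ((fun a => t * a) '' (F : Set G)) := by
    rw [Set.disjoint_left]
    rintro _ ha ⟨b, hb, rfl⟩
    apply ht
    have : t = t * b * b⁻¹ := by group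
    rw [this]
    exact mul_mem ha (inv_mem hb)
  have h1 : Nat.card ↥(dbl t tt F h) = ((dbl t tt F h : Subgroup G) : Set G).ncard := rfl
  have h2 : Nat.card ↥F = (F : Set G).ncard := rfl
  rw [h1, h2, e, Set.ncard_union_eq hd, Set.ncard_image_of_injective _ (mul_right_injective t)]
  ring

theorem dbl_sq (h2 : ∀ a ∈ F, a * a = 1) : ∀ a ∈ dbl t tt F h, a * a = 1 := by
  rintro a (ha | ha)
  · exact h2 a ha
  · have h3 := h2 _ ha
    have h4 := h _ ha
    calc a * a = t * (t * a) * a := by rw [← mul_assoc, tt, one_mul]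
      _ = t * a * t * a := by rw [h4]
      _ = t * a * (t * a) := by group
      _ = 1 := h3

end Gen

/-- `E5 = ⟨t⟩ × R` -/
def E5 {Y : Type*} [Group Y] (t : Y) (R : Subgroup Y) : Subgroup Y := Subgroup.zpowers t ⊔ R

section Main

variable {Y Θ : Type*} [Group Y] [CommGroup Θ] {ρ : Y →* MulAut Θ} {t x s r0 : Y} {R Pb : Subgroup Y} {z n : Θ}
  (H : YH ρ t x s r0 R Pb z n)

include H

theorem t_inv : t⁻¹ = t := inv_eq_of_mul_eq_one_left H.tt

theorem t_t (y : Y) : t * (t * y) = y := by rw [← mul_assoc, H.tt, one_mul]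

theorem tR : ∀ a ∈ R, t * a = a * t := fun a ha => H.comm a (H.RP ha)

theorem tx : t * x = x * t := H.comm x H.xP

theorem ts : t * s = s * t := H.comm s H.sP

theorem t_notR : t ∉ R := fun h => H.tP (H.RP h)

theorem E5_eq : E5 t R = dbl t H.tt R (tR H) := by
  apply le_antisymm
  · exact sup_le (Subgroup.zpowers_le.2 t_mem_dbl) le_dbl
  · rintro y (hy | hy)
    · exact Subgroup.mem_sup_right hy
    · rw [← t_t H y]
      exact mul_mem (Subgroup.mem_sup_left (Subgroup.mem_zpowers t)) (Subgroup.mem_sup_right hy)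

theorem mem_E5 {y : Y} : y ∈ E5 t R ↔ y ∈ R ∨ t * y ∈ R := by
  rw [E5_eq H]
  exact Iff.rfl

theorem t_mem_E5 : t ∈ E5 t R := (mem_E5 H).2 (Or.inr (by rw [H.tt]; exact one_mem R))

theorem R_le_E5 : R ≤ E5 t R := fun _ h => (mem_E5 H).2 (Or.inl h)

theorem tmul_E5 {y : Y} (h : t * y ∈ E5 t R) : y ∈ E5 t R := by
  rw [← t_t H y]
  exact mul_mem (t_mem_E5 H) h

theorem card_E5 : Nat.card ↥(E5 t R) = 32 := by
  have := H.fin
  rw [E5_eq H, card_dbl (t_notR H), H.cardR]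

theorem E5_sq : ∀ a ∈ E5 t R, a * a = 1 := by
  rw [E5_eq H]
  exact dbl_sq H.twoR

theorem E5_comm : ∀ a ∈ E5 t R, ∀ b ∈ E5 t R, a * b = b * a := comm_of_sq (E5_sq H)

theorem s2R : s ^ 2 ∉ R := by
  intro h
  have h1 : Nat.card {r : ↥R // s ^ 2 * (r : Y) = r * s ^ 2} = Nat.card ↥R :=
    Nat.card_congr (Equiv.subtypeUnivEquiv fun r => comm_of_sq H.twoR _ h _ r.2)
  rw [H.cs2, H.cardR] at h1
  omega

theorem Pb_E5 {y : Y} (hy : y ∈ Pb) (h : y ∈ E5 t R) : y ∈ R := by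
  rcases (mem_E5 H).1 h with h | h
  · exact h
  · exfalso
    apply H.tP
    have : t = t * y * y⁻¹ := by group
    rw [this]
    exact mul_mem (H.RP h) (inv_mem hy)

theorem s_mod (k : ℕ) : s ^ k = s ^ (k % 4) := pow_eq_pow_mod k H.s4

theorem x_mod (k : ℕ) : x ^ k = x ^ (k % 5) := pow_eq_pow_mod k H.x5

theorem s_pow {k : ℕ} (h : s ^ k ∈ E5 t R) : k % 4 = 0 := by
  have h1 : s ^ (k % 4) ∈ R := by
    rw [← s_mod H]
    exact Pb_E5 H (pow_mem H.sP k) h
  have h2 : k % 4 < 4 := Nat.mod_lt _ (by norm_num)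
  generalize k % 4 = m at h1 h2
  interval_cases m
  · rfl
  · exact absurd (pow_mem h1 2) (by rw [pow_one]; exact s2R H)
  · exact absurd h1 (s2R H)
  · have h3 := pow_mem h1 2
    rw [← pow_mul, s_mod H] at h3
    exact absurd h3 (s2R H)

theorem s_x : s * x = x ^ 2 * s := by
  rw [← H.xs]
  group

theorem s_xp (m : ℕ) : s * x ^ m = x ^ (2 * m) * s := by
  induction m with
  | zero => simp
  | succ m ih =>
    calc s * x ^ (m + 1) = s * x ^ m * x := by rw [pow_succ, mul_assoc]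
      _ = x ^ (2 * m) * (s * x) := by rw [ih, mul_assoc]
      _ = x ^ (2 * m) * x ^ 2 * s := by rw [s_x H, mul_assoc]
      _ = x ^ (2 * (m + 1)) * s := by rw [← pow_add]; ring_nf

theorem sp_x (k : ℕ) : s ^ k * x = x ^ (2 ^ k) * s ^ k := by
  induction k with
  | zero => simp
  | succ k ih =>
    calc s ^ (k + 1) * x = s * (s ^ k * x) := by rw [pow_succ', mul_assoc]
      _ = s * x ^ (2 ^ k) * s ^ k := by rw [ih, mul_assoc]
      _ = x ^ (2 * 2 ^ k) * (s * s ^ k) := by rw [s_xp H, mul_assoc]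
      _ = x ^ (2 ^ (k + 1)) * s ^ (k + 1) := by rw [← pow_succ', ← pow_succ']

theorem xC {m : ℕ} (h : x ^ m ∈ centralizer (R : Set Y)) : m % 5 = 0 := by
  have hx : x ∉ centralizer (R : Set Y) := by
    intro h1
    exact H.r01 (H.cx r0 H.r0R (mem_centralizer_iff.1 h1 r0 H.r0R).symm)
  rw [x_mod H] at h
  have h2 : m % 5 < 5 := Nat.mod_lt _ (by norm_num)
  generalize m % 5 = l at h h2
  have key : ∀ q : ℕ, (l * q) % 5 = 1 → l = 0 := by
    intro q hq
    exfalso
    apply hx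
    have h3 := pow_mem h q
    rw [← pow_mul, x_mod H, hq, pow_one] at h3
    exact h3
  interval_cases l
  · rfl
  · exact key 1 rfl
  · exact key 3 rfl
  · exact key 2 rfl
  · exact key 4 rfl

omit [Group Y] [CommGroup Θ] H in
theorem pow2mod {k : ℕ} (h : (1 + 4 * 2 ^ k) % 5 = 0) : k % 4 = 0 := by
  have h1 : 2 ^ k % 5 = 2 ^ (k % 4) % 5 := by
    conv_lhs => rw [← Nat.div_add_mod k 4, pow_add, pow_mul, Nat.mul_mod, Nat.pow_mod]
    norm_num
  have h2 : k % 4 < 4 := Nat.mod_lt _ (by norm_num)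
  generalize k % 4 = m at h1 h2
  interval_cases m
  · rfl
  all_goals
    norm_num at h1
    omega

/-- `C_Pb(R) = R` -/
theorem cent_R_Pb {c : Y} (hc : c ∈ Pb) (h : ∀ r ∈ R, c * r = r * c) : c ∈ R := by
  obtain ⟨r, hr, j, k, rfl⟩ := H.gen c hc
  have hnx : ∀ y ∈ centralizer (R : Set Y), x * y * x⁻¹ ∈ centralizer (R : Set Y) := by
    intro y hy
    rw [mem_centralizer_iff]
    intro a ha
    have h1 : x⁻¹ * a * x ∈ R := by
      have := H.nR _ (inv_mem H.xP) a ha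
      rwa [inv_inv] at this
    have h2 := mem_centralizer_iff.1 hy _ h1
    calc a * (x * y * x⁻¹) = x * (x⁻¹ * a * x * y) * x⁻¹ := by group
      _ = x * (y * (x⁻¹ * a * x)) * x⁻¹ := by rw [h2]
      _ = x * y * x⁻¹ * a := by group
  have h1 : x ^ j * s ^ k ∈ centralizer (R : Set Y) := by
    rw [mem_centralizer_iff]
    intro a ha
    have h2 := h a ha
    have h3 := comm_of_sq H.twoR _ hr _ ha
    have h4 : r * (a * (x ^ j * s ^ k)) = r * (x ^ j * s ^ k * a) := by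
      calc r * (a * (x ^ j * s ^ k)) = r * a * (x ^ j * s ^ k) := by group
        _ = a * (r * x ^ j * s ^ k) := by rw [h3]; group
        _ = r * x ^ j * s ^ k * a := h2.symm
        _ = r * (x ^ j * s ^ k * a) := by group
    exact mul_left_cancel h4
  have h2 := mul_mem (hnx _ h1) (inv_mem h1)
  have h3 : x * (x ^ j * s ^ k) * x⁻¹ * (x ^ j * s ^ k)⁻¹ = x ^ (1 + 4 * 2 ^ k) := by
    have e1 : x ^ (4 * 2 ^ k) = (x ^ (2 ^ k))⁻¹ := by
      rw [eq_inv_iff_mul_eq_one, ← pow_add]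
      have : 4 * 2 ^ k + 2 ^ k = 5 * 2 ^ k := by ring
      rw [this, pow_mul, H.x5, one_pow]
    have e2 : x ^ (2 ^ k) = s ^ k * x * (s ^ k)⁻¹ := by rw [sp_x H]; group
    have e3 : (x ^ (2 ^ k))⁻¹ = s ^ k * x⁻¹ * (s ^ k)⁻¹ := by rw [e2]; group
    have e4 : x ^ j * (x ^ (2 ^ k))⁻¹ = (x ^ (2 ^ k))⁻¹ * x ^ j := by
      rw [← e1, ← pow_add, ← pow_add, add_comm]
    calc x * (x ^ j * s ^ k) * x⁻¹ * (x ^ j * s ^ k)⁻¹
        = x * (x ^ j * (s ^ k * x⁻¹ * (s ^ k)⁻¹)) * (x ^ j)⁻¹ := by group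
      _ = x * (x ^ j * (x ^ (2 ^ k))⁻¹) * (x ^ j)⁻¹ := by rw [e3]
      _ = x * (x ^ (2 ^ k))⁻¹ := by rw [e4]; group
      _ = x ^ (1 + 4 * 2 ^ k) := by rw [← e1, pow_add, pow_one]
  rw [h3] at h2
  have h4 := pow2mod (xC H h2)
  have h5 : s ^ k = 1 := by rw [s_mod H, h4, pow_zero]
  rw [h5, mul_one] at h1 ⊢
  have h6 := xC H h1
  rw [x_mod H, h6, pow_zero, mul_one]
  exact hr

/-- `C_Y(E5) = E5` -/
theorem cent_E5 {y : Y} (h : ∀ e ∈ E5 t R, y * e = e * y) : y ∈ E5 t R := by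
  rcases H.cent y (h t (t_mem_E5 H)) with h1 | h1
  · exact R_le_E5 H (cent_R_Pb H h1 fun r hr => h r (R_le_E5 H hr))
  · apply tmul_E5 H
    apply R_le_E5 H
    apply cent_R_Pb H h1
    intro r hr
    rw [mul_assoc, h r (R_le_E5 H hr), ← mul_assoc, tR H r hr, mul_assoc]

theorem Ct_eq : centralizer {t} = dbl t H.tt Pb H.comm := by
  ext y
  rw [mem_centralizer_singleton_iff]
  constructor
  · intro h
    exact H.cent y h
  · rintro (h | h)
    · exact (H.comm y h).symm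
    · have h1 := H.comm _ h
      rw [t_t H] at h1
      calc y * t = t * y * t * t := by rw [← h1]
        _ = t * y := by rw [mul_assoc (t * y), H.tt, mul_one]

theorem card_Ct : Nat.card ↥(centralizer {t} : Subgroup Y) = 640 := by
  have := H.fin
  rw [Ct_eq H, card_dbl H.tP, H.cardP]

theorem Tb_comm : ∀ c ∈ Tb t s R, c * t = t * c := by
  have h : Tb t s R ≤ centralizer {t} := by
    refine sup_le (sup_le ?_ ?_) ?_
    · rw [Subgroup.zpowers_le, mem_centralizer_singleton_iff]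
    · intro a ha
      rw [mem_centralizer_singleton_iff]
      exact (tR H a ha).symm
    · rw [Subgroup.zpowers_le, mem_centralizer_singleton_iff]
      exact (ts H).symm
  intro c hc
  exact mem_centralizer_singleton_iff.1 (h hc)

theorem t_Tb : t ∈ Tb t s R := Subgroup.mem_sup_left (Subgroup.mem_sup_left (Subgroup.mem_zpowers t))

theorem R_Tb : R ≤ Tb t s R := fun _ h => Subgroup.mem_sup_left (Subgroup.mem_sup_right h)

theorem s_Tb : s ∈ Tb t s R := Subgroup.mem_sup_right (Subgroup.mem_zpowers s)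

theorem E5_Tb : E5 t R ≤ Tb t s R := sup_le (Subgroup.zpowers_le.2 (t_Tb H)) (R_Tb H)

/-- `Pb` normalises `E5` -/
theorem Pb_nE {p : Y} (hp : p ∈ Pb) {e : Y} (he : e ∈ E5 t R) : p * e * p⁻¹ ∈ E5 t R := by
  rcases (mem_E5 H).1 he with h | h
  · exact R_le_E5 H (H.nR p hp e h)
  · apply tmul_E5 H
    apply R_le_E5 H
    have h1 := H.nR p hp _ h
    have e1 : t * (p * e * p⁻¹) = p * (t * e) * p⁻¹ := by
      rw [← mul_assoc, ← mul_assoc, H.comm p hp]
      group
    rw [e1]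
    exact h1

theorem mem_Tb {y : Y} : y ∈ Tb t s R ↔ ∃ e ∈ E5 t R, ∃ k : ℕ, y = e * s ^ k := by
  constructor
  · intro hy
    let K : Subgroup Y :=
      { carrier := {y | ∃ e ∈ E5 t R, ∃ k : ℕ, y = e * s ^ k}
        one_mem' := ⟨1, one_mem _, 0, by simp⟩
        mul_mem' := by
          rintro _ _ ⟨e, he, k, rfl⟩ ⟨e', he', k', rfl⟩
          refine ⟨e * (s ^ k * e' * (s ^ k)⁻¹), mul_mem he (Pb_nE H (pow_mem H.sP k) he'), k + k', ?_⟩
          rw [pow_add]
          group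
        inv_mem' := by
          rintro _ ⟨e, he, k, rfl⟩
          refine ⟨(s ^ k)⁻¹ * e⁻¹ * ((s ^ k)⁻¹)⁻¹, Pb_nE H (inv_mem (pow_mem H.sP k)) (inv_mem he), 3 * k, ?_⟩
          have e1 : s ^ (3 * k) = (s ^ k)⁻¹ := by
            rw [eq_inv_iff_mul_eq_one, ← pow_add]
            have : 3 * k + k = 4 * k := by ring
            rw [this, pow_mul, H.s4, one_pow]
          rw [e1]
          group }
    have hle : Tb t s R ≤ K := by
      refine sup_le (sup_le ?_ ?_) ?_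
      · exact Subgroup.zpowers_le.2 ⟨t, t_mem_E5 H, 0, by simp⟩
      · intro a ha
        exact ⟨a, R_le_E5 H ha, 0, by simp⟩
      · exact Subgroup.zpowers_le.2 ⟨1, one_mem _, 1, by simp⟩
    exact hle hy
  · rintro ⟨e, he, k, rfl⟩
    exact mul_mem (E5_Tb H he) (pow_mem (s_Tb H) k)

theorem s_inj {k l : ℕ} (hk : k < 4) (hl : l < 4) (hkl : l ≤ k) (h : s ^ k * (s ^ l)⁻¹ ∈ E5 t R) : k = l := by
  have e : s ^ k * (s ^ l)⁻¹ = s ^ (k - l) := (pow_sub s hkl).symm
  rw [e] at h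
  have := s_pow H h
  omega

theorem card_Tb : Nat.card ↥(Tb t s R) = 2 ^ 7 := by
  have := H.fin
  let f : ↥(E5 t R) × Fin 4 → ↥(Tb t s R) := fun p => ⟨(p.1 : Y) * s ^ (p.2 : ℕ),
    (mem_Tb H).2 ⟨p.1, p.1.2, p.2, rfl⟩⟩
  have hf : Function.Bijective f := by
    constructor
    · rintro ⟨e, k⟩ ⟨e', k'⟩ h
      have h1 : (e : Y) * s ^ (k : ℕ) = e' * s ^ (k' : ℕ) := congrArg Subtype.val h
      have h2 : s ^ (k : ℕ) * (s ^ (k' : ℕ))⁻¹ ∈ E5 t R := by
        have : s ^ (k : ℕ) * (s ^ (k' : ℕ))⁻¹ = (e : Y)⁻¹ * e' := by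
          rw [mul_inv_eq_iff_eq_mul, mul_assoc, ← h1]
          group
        rw [this]
        exact mul_mem (inv_mem e.2) e'.2
      have h3 : s ^ (k' : ℕ) * (s ^ (k : ℕ))⁻¹ ∈ E5 t R := by
        have := inv_mem h2
        rwa [mul_inv_rev, inv_inv] at this
      have h4 : (k : ℕ) = k' := by
        rcases le_total (k' : ℕ) (k : ℕ) with h5 | h5
        · exact s_inj H k.2 k'.2 h5 h2
        · exact (s_inj H k'.2 k.2 h5 h3).symm
      have h5 : k = k' := Fin.ext h4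
      subst h5
      have h6 : e = e' := Subtype.ext (mul_right_cancel h1)
      rw [h6]
    · rintro ⟨y, hy⟩
      obtain ⟨e, he, k, rfl⟩ := (mem_Tb H).1 hy
      refine ⟨(⟨e, he⟩, ⟨k % 4, Nat.mod_lt _ (by norm_num)⟩), Subtype.ext ?_⟩
      show e * s ^ (k % 4) = e * s ^ k
      rw [← s_mod H]
  rw [← Nat.card_congr (Equiv.ofBijective f hf), Nat.card_prod, card_E5 H, Nat.card_eq_fintype_card (α := Fin 4),
    Fintype.card_fin]
  norm_num

theorem Tb_p : IsPGroup 2 ↥(Tb t s R) := IsPGroup.of_card (card_Tb H)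

/-- `Tb` is a Sylow 2-subgroup of `C_Y(t)` -/
theorem Tb_max {P : Subgroup Y} (hP : IsPGroup 2 ↥P) (hle : Tb t s R ≤ P) (hc : ∀ p ∈ P, p * t = t * p) :
    P = Tb t s R := by
  have := H.fin
  symm
  apply Subgroup.eq_of_le_of_card_ge hle
  rw [card_Tb H]
  have hPC : P ≤ centralizer {t} := fun p hp => mem_centralizer_singleton_iff.2 (hc p hp)
  have h1 := Subgroup.card_dvd_of_le hPC
  obtain ⟨k, hk⟩ := (IsPGroup.iff_card).1 hP
  rw [card_Ct H, hk] at h1
  rw [hk]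
  by_contra h2
  have h3 : 8 ≤ k := by
    by_contra h4
    exact h2 (Nat.pow_le_pow_right (by norm_num) (by omega))
  have h5 : 2 ^ 8 ∣ 640 := (pow_dvd_pow 2 h3).trans h1
  norm_num at h5

/-- a 2-subgroup of `C_Y(t)` normalised by `Tb` lies in `Tb` -/
theorem le_Tb {F : Subgroup Y} (hF : IsPGroup 2 ↥F) (hc : ∀ f ∈ F, f * t = t * f)
    (hn : ∀ c ∈ Tb t s R, ∀ f ∈ F, c * f * c⁻¹ ∈ F) : F ≤ Tb t s R := by
  have h1 : Tb t s R ≤ normalizer (F : Set Y) := by
    intro c hc'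
    rw [Subgroup.mem_normalizer_iff]
    intro f
    refine ⟨hn c hc' f, fun h => ?_⟩
    have := hn _ (inv_mem hc') _ h
    have e : c⁻¹ * (c * f * c⁻¹) * c⁻¹⁻¹ = f := by group
    rwa [e] at this
  have h2 : IsPGroup 2 ↥(Tb t s R ⊔ F) := (Tb_p H).to_sup_of_normal_right' hF h1
  have h3 : Tb t s R ⊔ F ≤ centralizer {t} :=
    sup_le (fun c hc' => mem_centralizer_singleton_iff.2 (Tb_comm H c hc'))
      fun f hf => mem_centralizer_singleton_iff.2 (hc f hf)
  have h4 := Tb_max H h2 le_sup_left fun p hp => mem_centralizer_singleton_iff.1 (h3 hp)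
  rw [← h4]
  exact le_sup_right

/-- the elements of `E5` that commute with `s²` -/
theorem card_C8 {C : Subgroup Y} (hC : C ≤ E5 t R) (hs : ∀ c ∈ C, s ^ 2 * c = c * s ^ 2) : Nat.card ↥C ≤ 8 := by
  have := H.fin
  let D : Set Y := {r | r ∈ R ∧ s ^ 2 * r = r * s ^ 2}
  have hD : D.ncard = 4 := by
    rw [← H.cs2]
    have e : D = Subtype.val '' {r : ↥R | s ^ 2 * (r : Y) = r * s ^ 2} := by
      ext y
      constructor
      · rintro ⟨h1, h2⟩
        exact ⟨⟨y, h1⟩, h2, rfl⟩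
      · rintro ⟨r, h1, rfl⟩
        exact ⟨r.2, h1⟩
    rw [e, Set.ncard_image_of_injective _ Subtype.val_injective]
    rfl
  have hsub : (C : Set Y) ⊆ D ∪ (fun a => t * a) '' D := by
    intro c hc
    rcases (mem_E5 H).1 (hC hc) with h | h
    · exact Or.inl ⟨h, hs c hc⟩
    · right
      refine ⟨t * c, ⟨h, ?_⟩, t_t H c⟩
      have h1 : t * s ^ 2 = s ^ 2 * t := H.comm _ (pow_mem H.sP 2)
      rw [← mul_assoc, ← h1, mul_assoc, hs c hc, mul_assoc]
  have h1 : Nat.card ↥C = (C : Set Y).ncard := rfl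
  rw [h1]
  have h2 := Set.ncard_le_ncard hsub (Set.toFinite _)
  have h3 := Set.ncard_union_le D ((fun a => t * a) '' D)
  rw [Set.ncard_image_of_injective _ (mul_right_injective t), hD] at h3
  omega

/-- `E5` is the only elementary abelian subgroup of `Tb` of order at least 32 -/
theorem E_eq {E : Subgroup Y} (hE : E ≤ Tb t s R) (h2 : ∀ e ∈ E, e * e = 1) (h32 : 32 ≤ Nat.card ↥E) :
    E = E5 t R := by
  have := H.fin
  have hc := comm_of_sq h2
  have hle : E ≤ E5 t R := by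
    by_contra hne
    rw [SetLike.not_le_iff_exists] at hne
    obtain ⟨e1, he1, hne1⟩ := hne
    have key : ∀ y ∈ E, y ∉ E5 t R → ∃ e ∈ E5 t R, y = e * s ^ 2 := by
      intro y hy hyn
      obtain ⟨e, he, k, rfl⟩ := (mem_Tb H).1 (hE hy)
      refine ⟨e, he, ?_⟩
      have h3 : s ^ (2 * k) ∈ E5 t R := by
        have h4 := h2 _ hy
        have h5 : s ^ (2 * k) = (s ^ k * e * (s ^ k)⁻¹)⁻¹ * e⁻¹ * (e * s ^ k * (e * s ^ k)) := by
          rw [two_mul, pow_add]
          group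
        rw [h5, h4, mul_one]
        exact mul_mem (inv_mem (Pb_nE H (pow_mem H.sP k) he)) (inv_mem he)
      have h4 := s_pow H h3
      have h5 : k % 4 ≠ 0 := by
        intro h6
        apply hyn
        rw [s_mod H, h6, pow_zero, mul_one]
        exact he
      rw [s_mod H]
      have h6 : k % 4 = 2 := by omega
      rw [h6]
    obtain ⟨e, he, he1'⟩ := key e1 he1 hne1
    have hC : ∀ c ∈ E ⊓ E5 t R, s ^ 2 * c = c * s ^ 2 := by
      rintro c ⟨hc1, hc2⟩
      have h3 := hc c hc1 e1 he1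
      have h4 := E5_comm H c hc2 e he
      rw [he1'] at h3
      have h5 : e * (c * s ^ 2) = e * (s ^ 2 * c) := by
        calc e * (c * s ^ 2) = c * (e * s ^ 2) := by rw [← mul_assoc, ← h4, mul_assoc]
          _ = e * (s ^ 2 * c) := by rw [h3, mul_assoc]
      exact (mul_left_cancel h5).symm
    have h8 := card_C8 H inf_le_right hC
    have hsub : (E : Set Y) ⊆ ((E ⊓ E5 t R : Subgroup Y) : Set Y) ∪
        (fun a => a * e1) '' ((E ⊓ E5 t R : Subgroup Y) : Set Y) := by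
      intro y hy
      by_cases h3 : y ∈ E5 t R
      · exact Or.inl ⟨hy, h3⟩
      · right
        obtain ⟨e', he', rfl⟩ := key y hy h3
        have hm : e' * s ^ 2 * e1⁻¹ ∈ E5 t R := by
          rw [he1']
          have : e' * s ^ 2 * (e * s ^ 2)⁻¹ = e' * e⁻¹ := by group
          rw [this]
          exact mul_mem he' (inv_mem he)
        exact ⟨e' * s ^ 2 * e1⁻¹, ⟨E.mul_mem hy (E.inv_mem he1), hm⟩, by group⟩
    have h3 := Set.ncard_le_ncard hsub (Set.toFinite _)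
    have h4 := Set.ncard_union_le ((E ⊓ E5 t R : Subgroup Y) : Set Y)
      ((fun a => a * e1) '' ((E ⊓ E5 t R : Subgroup Y) : Set Y))
    rw [Set.ncard_image_of_injective _ (mul_left_injective e1)] at h4
    have h5 : ((E ⊓ E5 t R : Subgroup Y) : Set Y).ncard ≤ 8 := h8
    have h6 : Nat.card ↥E = (E : Set Y).ncard := rfl
    omega
  apply Subgroup.eq_of_le_of_card_ge hle
  rw [card_E5 H]
  exact h32

/-! ### `x`-invariant subgroups -/

theorem xconj5 (a : Y) : x * (x * (x * (x * (x * a * x⁻¹) * x⁻¹) * x⁻¹) * x⁻¹) * x⁻¹ = a := by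
  have h := H.x5
  have h' : x * x * x * x * x = 1 := by
    rw [← h]
    simp only [pow_succ, pow_zero, one_mul]
  calc x * (x * (x * (x * (x * a * x⁻¹) * x⁻¹) * x⁻¹) * x⁻¹) * x⁻¹
      = (x * x * x * x * x) * a * (x * x * x * x * x)⁻¹ := by
        simp only [mul_inv_rev, mul_assoc]
    _ = a := by rw [h']; group

theorem xinv_R {W : Subgroup Y} (hW : W ≤ R) (hx : ∀ w ∈ W, x * w * x⁻¹ ∈ W) (h1 : ∃ w ∈ W, w ≠ 1) : W = R := by
  have := H.fin
  obtain ⟨w, hw, hw1⟩ := h1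
  have h2 := mod5 (fun a : ↥W => (⟨x * a * x⁻¹, hx a a.2⟩ : ↥W)) fun a => Subtype.ext (xconj5 H a)
  have h3 : Nat.card {a : ↥W // (⟨x * a * x⁻¹, hx a a.2⟩ : ↥W) = a} = 1 := by
    rw [Nat.card_eq_one_iff_unique]
    constructor
    · constructor
      have key : ∀ a : {a : ↥W // (⟨x * a * x⁻¹, hx a a.2⟩ : ↥W) = a}, a.1 = 1 := by
        rintro ⟨a, ha⟩
        have h4 : x * a * x⁻¹ = a := congrArg Subtype.val ha
        apply Subtype.ext
        exact H.cx _ (hW a.2) (mul_inv_eq_iff_eq_mul.1 h4)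
      intro a b
      apply Subtype.ext
      rw [key a, key b]
    · exact ⟨⟨1, Subtype.ext (by show x * 1 * x⁻¹ = 1; group)⟩⟩
  rw [h3] at h2
  have h4 : Nat.card ↥W ∣ 2 ^ 4 := by
    have := Subgroup.card_dvd_of_le hW
    rwa [H.cardR] at this
  obtain ⟨k, hk, hk'⟩ := (Nat.dvd_prime_pow Nat.prime_two).1 h4
  apply Subgroup.eq_of_le_of_card_ge hW
  rw [H.cardR, hk']
  have h5 : Nat.card ↥W ≠ 1 := by
    intro h5
    rw [Subgroup.card_eq_one] at h5
    rw [h5] at hw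
    exact hw1 (Subgroup.mem_bot.1 hw)
  rw [hk'] at h2 h5
  interval_cases k
  · exact absurd rfl h5
  · exact absurd h2 (by decide)
  · exact absurd h2 (by decide)
  · exact absurd h2 (by decide)
  · norm_num

/-! ### `Θ` -/

theorem two' (a : Θ) : a⁻¹ = a := inv_eq_of_mul_eq_one_left (H.two a)

theorem xρ5 (a : Θ) : ρ x (ρ x (ρ x (ρ x (ρ x a)))) = a := by
  have h := H.x5
  have e : ∀ (g h : Y) (a : Θ), ρ g (ρ h a) = ρ (g * h) a := by
    intro g h a
    rw [map_mul]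
    rfl
  rw [e, e, e, e]
  have : x * x * x * x * x = 1 := by
    rw [← h]
    simp only [pow_succ, pow_zero, one_mul]
  rw [this, map_one]
  rfl

end Main

/-- the fixed points of `τ` -/
def Fx {Y Θ : Type*} [Group Y] [CommGroup Θ] (ρ : Y →* MulAut Θ) (τ : Y) : Subgroup Θ where
  carrier := {a | ρ τ a = a}
  one_mem' := map_one _
  mul_mem' := by
    intro a b ha hb
    show ρ τ (a * b) = a * b
    rw [map_mul, ha, hb]
  inv_mem' := by
    intro a ha
    show ρ τ a⁻¹ = a⁻¹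
    rw [map_inv, ha]

theorem mem_Fx {Y Θ : Type*} [Group Y] [CommGroup Θ] {ρ : Y →* MulAut Θ} {τ : Y} {a : Θ} :
    a ∈ Fx ρ τ ↔ ρ τ a = a := Iff.rfl

theorem ρ_ρ {Y Θ : Type*} [Group Y] [CommGroup Θ] (ρ : Y →* MulAut Θ) (g h : Y) (a : Θ) :
    ρ g (ρ h a) = ρ (g * h) a := by
  rw [map_mul]
  rfl

section Main2

variable {Y Θ : Type*} [Group Y] [CommGroup Θ] {ρ : Y →* MulAut Θ} {t x s r0 : Y} {R Pb : Subgroup Y} {z n : Θ}
  (H : YH ρ t x s r0 R Pb z n)

include H

theorem card_A : Nat.card ↥(Fx ρ t) = 32 := H.cardA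

/-- an `x`-invariant subgroup of `A` that contains `z` and something else is `A` -/
theorem xinv_A {W : Subgroup Θ} (hW : W ≤ Fx ρ t) (hz : z ∈ W) (hx : ∀ w ∈ W, ρ x w ∈ W)
    (h1 : ∃ w ∈ W, w ≠ 1 ∧ w ≠ z) : W = Fx ρ t := by
  have := H.finΘ
  obtain ⟨w, hw, hw1, hwz⟩ := h1
  have h2 := mod5 (fun a : ↥W => (⟨ρ x a, hx a a.2⟩ : ↥W)) fun a => Subtype.ext (xρ5 H a)
  have h3 : Nat.card {a : ↥W // (⟨ρ x a, hx a a.2⟩ : ↥W) = a} = 2 := by
    have e : {a : ↥W // (⟨ρ x a, hx a a.2⟩ : ↥W) = a} ≃ ({(1 : Θ), z} : Set Θ) :=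
      { toFun := fun a => ⟨a.1, by
          rcases H.cA _ (hW a.1.2) (congrArg Subtype.val a.2) with h | h
          · exact Or.inl h
          · exact Or.inr h⟩
        invFun := fun a => ⟨⟨a.1, by
          rcases a.2 with h | h
          · rw [h]; exact one_mem W
          · rw [h]; exact hz⟩, Subtype.ext (by
            show ρ x a.1 = a.1
            rcases a.2 with h | h
            · rw [h]; exact map_one _
            · rw [h]; exact H.zx)⟩
        left_inv := fun a => rfl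
        right_inv := fun a => rfl }
    rw [Nat.card_congr e]
    show Set.ncard ({(1 : Θ), z} : Set Θ) = 2
    exact Set.ncard_pair H.z1.symm
  rw [h3] at h2
  have h4 : Nat.card ↥W ∣ 2 ^ 5 := by
    have := Subgroup.card_dvd_of_le hW
    rwa [card_A H] at this
  obtain ⟨k, hk, hk'⟩ := (Nat.dvd_prime_pow Nat.prime_two).1 h4
  apply Subgroup.eq_of_le_of_card_ge hW
  rw [card_A H, hk']
  have h5 : 3 ≤ Nat.card ↥W := by
    have h6 : ({1, z, w} : Set Θ) ⊆ (W : Set Θ) := by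
      rintro a (h | h | h)
      · rw [h]; exact one_mem W
      · rw [h]; exact hz
      · rw [h]; exact hw
    have h7 := Set.ncard_le_ncard h6 (Set.toFinite _)
    rw [Set.ncard_eq_three.2 ⟨1, z, w, H.z1.symm, hw1.symm, hwz.symm, rfl⟩] at h7
    exact h7
  rw [hk'] at h2 h5
  interval_cases k
  · norm_num at h5
  · norm_num at h5
  · exact absurd h2 (by decide)
  · exact absurd h2 (by decide)
  · exact absurd h2 (by decide)
  · norm_num

end Main2

end Cfsg.Agent.OddHalf.D7Tits.YBase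

end

-- merged: Cfsg.Agent.OddHalf.D7Tits.YSixteen
section

/-!
# `K = ²F₄(2)'`: the case of 16 conjugates of `t` in `E5` (helper961; text: ODD #15539 (a)-(e))
-/

set_option autoImplicit false
set_option linter.unusedSectionVars false

namespace Cfsg.Agent.OddHalf.D7Tits.YSixteen

open Subgroup YBase

section Gen

theorem sq_card {W : Type*} [Group W] [Finite W] (f : W →* W) (h : ∀ w, f w = 1 ↔ ∃ v, f v = w) :
    Nat.card W = Nat.card f.ker * Nat.card f.ker := by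
  have e : f.ker = f.range := by
    ext w
    rw [MonoidHom.mem_ker, MonoidHom.mem_range]
    exact h w
  conv_rhs => rw [e]
  conv_rhs => enter [1]; rw [← e]
  exact card_ker_range f

theorem ncard_double {G : Type*} [Group G] [Finite G] {M N : Subgroup G} {g : G}
    (h : ∀ y ∈ M, y ∈ N ∨ g * y ∈ N) : Nat.card ↥M ≤ 2 * Nat.card ↥N := by
  have hsub : (M : Set G) ⊆ (N : Set G) ∪ (fun a => g⁻¹ * a) '' (N : Set G) := by
    intro y hy
    rcases h y hy with h1 | h1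
    · exact Or.inl h1
    · exact Or.inr ⟨g * y, h1, by simp⟩
  have h1 := Set.ncard_le_ncard hsub (Set.toFinite _)
  have h2 := Set.ncard_union_le (N : Set G) ((fun a => g⁻¹ * a) '' (N : Set G))
  rw [Set.ncard_image_of_injective _ (mul_right_injective g⁻¹)] at h2
  have h3 : Nat.card ↥M = (M : Set G).ncard := rfl
  have h4 : Nat.card ↥N = (N : Set G).ncard := rfl
  omega

/-- a `2`-group acting on `Θ/V` has a non-trivial fixed point -/
theorem exists_fixed {Y Θ : Type*} [Group Y] [CommGroup Θ] [Finite Θ] (ρ : Y →* MulAut Θ) {M : Subgroup Y}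
    (hM : IsPGroup 2 ↥M) {V : Subgroup Θ} (hV : ∀ g ∈ M, ∀ v ∈ V, ρ g v ∈ V) (h2 : 2 ∣ V.index) :
    ∃ θ : Θ, θ ∉ V ∧ ∀ g ∈ M, ρ g θ * θ⁻¹ ∈ V := by
  have : Fact (Nat.Prime 2) := ⟨Nat.prime_two⟩
  let act : MulAction ↥M (Θ ⧸ V) :=
    { smul := fun g q => QuotientGroup.map V V (ρ (g : Y)).toMonoidHom (fun v hv => hV g g.2 v hv) q
      one_smul := by
        intro q
        induction q using QuotientGroup.induction_on with
        | H a =>
          show ((ρ ((1 : ↥M) : Y) a : Θ) : Θ ⧸ V) = a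
          rw [OneMemClass.coe_one, map_one]
          rfl
      mul_smul := by
        intro g h q
        induction q using QuotientGroup.induction_on with
        | H a =>
          show ((ρ ((g * h : ↥M) : Y) a : Θ) : Θ ⧸ V) = ((ρ (g : Y) (ρ (h : Y) a) : Θ) : Θ ⧸ V)
          rw [Subgroup.coe_mul, map_mul]
          rfl }
  have hsm : ∀ (g : ↥M) (a : Θ), g • ((a : Θ) : Θ ⧸ V) = ((ρ (g : Y) a : Θ) : Θ ⧸ V) := fun g a => rfl
  have h1 : (((1 : Θ) : Θ) : Θ ⧸ V) ∈ MulAction.fixedPoints ↥M (Θ ⧸ V) := by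
    intro g
    rw [hsm, map_one]
  obtain ⟨b, hb, hne⟩ := hM.exists_fixed_point_of_prime_dvd_card_of_fixed_point (Θ ⧸ V) h2 h1
  induction b using QuotientGroup.induction_on with
  | H a =>
    refine ⟨a, ?_, ?_⟩
    · intro ha
      apply hne
      rw [QuotientGroup.eq, inv_one, one_mul]
      exact ha
    · intro g hg
      have h3 := hb ⟨g, hg⟩
      rw [hsm, eq_comm, QuotientGroup.eq] at h3
      rw [mul_comm]
      exact h3

end Gen

/-- `V = C_Θ(R)` -/
def V {Y Θ : Type*} [Group Y] [CommGroup Θ] (ρ : Y →* MulAut Θ) (R : Subgroup Y) : Subgroup Θ where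
  carrier := {a | ∀ r ∈ R, ρ r a = a}
  one_mem' := fun r _ => map_one _
  mul_mem' := fun {b c} hb hc r hr => by rw [map_mul, hb r hr, hc r hr]
  inv_mem' := fun {b} hb r hr => by rw [map_inv, hb r hr]

section Main

variable {Y Θ : Type*} [Group Y] [CommGroup Θ] {ρ : Y →* MulAut Θ} {t x s r0 : Y} {R Pb : Subgroup Y} {z n : Θ}
  (H : YH ρ t x s r0 R Pb z n)

include H

/-! ### `V = C_Θ(R) = {1, z, n, nz}` -/

theorem Rz : ∀ r ∈ R, ρ r z = z := by
  intro r hr
  have h1 : ρ r (ρ t n) = ρ t (ρ r n) := by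
    rw [ρ_ρ, ρ_ρ, tR H r hr]
  rw [H.Rn r hr, H.nt, map_mul, H.Rn r hr] at h1
  exact mul_left_cancel h1

/-- `C_A(R) = ⟨z⟩` -/
theorem A_R {a : Θ} (ht : ρ t a = a) (hR : ∀ r ∈ R, ρ r a = a) : a = 1 ∨ a = z := by
  by_contra hcon
  push Not at hcon
  let W : Subgroup Θ :=
    { carrier := {b | ρ t b = b ∧ ∀ r ∈ R, ρ r b = b}
      one_mem' := ⟨map_one _, fun r _ => map_one _⟩
      mul_mem' := by
        rintro b c ⟨hb, hb'⟩ ⟨hc, hc'⟩
        exact ⟨by rw [map_mul, hb, hc], fun r hr => by rw [map_mul, hb' r hr, hc' r hr]⟩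
      inv_mem' := by
        rintro b ⟨hb, hb'⟩
        exact ⟨by rw [map_inv, hb], fun r hr => by rw [map_inv, hb' r hr]⟩ }
  have hx : ∀ w ∈ W, ρ x w ∈ W := by
    rintro w ⟨hw, hw'⟩
    refine ⟨by rw [ρ_ρ, tx H, ← ρ_ρ, hw], fun r hr => ?_⟩
    have h1 : x⁻¹ * r * x ∈ R := by
      have := H.nR _ (inv_mem H.xP) r hr
      rwa [inv_inv] at this
    have h2 : r * x = x * (x⁻¹ * r * x) := by group
    rw [ρ_ρ, h2, ← ρ_ρ, hw' _ h1]
  have hW : W ≤ Fx ρ t := fun w hw => hw.1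
  have h1 := xinv_A H hW (show z ∈ W from ⟨H.zt, Rz H⟩) hx ⟨a, ⟨ht, hR⟩, hcon.1, hcon.2⟩
  apply H.r01
  apply H.faith r0 H.r0R
  intro b hb
  have h2 : b ∈ W := by rw [h1]; exact hb
  exact h2.2 r0 H.r0R

theorem tt_θ (a : Θ) : ρ t (ρ t a) = a := by
  rw [ρ_ρ, H.tt, map_one]
  rfl

theorem mem_V {v : Θ} : v ∈ V ρ R ↔ v = 1 ∨ v = z ∨ v = n ∨ v = n * z := by
  constructor
  · intro hv
    have hv' : ∀ r ∈ R, ρ r v = v := hv
    -- `v * v^t` lies in `C_A(R)`
    have h1 : ρ t (v * ρ t v) = v * ρ t v := by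
      rw [map_mul, tt_θ H, mul_comm]
    have h2 : ∀ r ∈ R, ρ r (v * ρ t v) = v * ρ t v := by
      intro r hr
      rw [map_mul, ρ_ρ, ← tR H r hr, ← ρ_ρ, hv' r hr]
    rcases A_R H h1 h2 with h3 | h3
    · have h4 : ρ t v = v := by
        rw [mul_eq_one_iff_eq_inv, two' H] at h3
        exact h3.symm
      rcases A_R H h4 hv' with h5 | h5
      · exact Or.inl h5
      · exact Or.inr (Or.inl h5)
    · -- `v n` is fixed by `t`
      have h4 : ρ t v = v * z := by
        have : v * (v * ρ t v) = v * z := by rw [h3]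
        rw [← mul_assoc, H.two, one_mul] at this
        exact this
      have h5 : ρ t (v * n) = v * n := by
        rw [map_mul, h4, H.nt]
        calc v * z * (n * z) = v * n * (z * z) := by
              rw [mul_mul_mul_comm]
          _ = v * n := by rw [H.two, mul_one]
      have h6 : ∀ r ∈ R, ρ r (v * n) = v * n := by
        intro r hr
        rw [map_mul, hv' r hr, H.Rn r hr]
      have e : v = v * n * n := by rw [mul_assoc, H.two, mul_one]
      rcases A_R H h5 h6 with h7 | h7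
      · right; right; left
        rw [e, h7, one_mul]
      · right; right; right
        rw [e, h7, mul_comm]
  · rintro (rfl | rfl | rfl | rfl)
    · exact one_mem _
    · exact Rz H
    · exact H.Rn
    · intro r hr
      rw [map_mul, H.Rn r hr, Rz H r hr]

theorem z_V : z ∈ V ρ R := (mem_V H).2 (Or.inr (Or.inl rfl))

theorem n_V : n ∈ V ρ R := (mem_V H).2 (Or.inr (Or.inr (Or.inl rfl)))

theorem nz_ne : n * z ≠ n := fun h => H.z1 (mul_eq_left.1 h)

theorem n_ne : n ≠ 1 := by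
  intro h
  have := H.nt
  rw [h, map_one, one_mul] at this
  exact H.z1 this.symm

theorem n_ne_z : n ≠ z := by
  intro h
  have := H.nt
  rw [h, H.zt] at this
  exact H.z1 (mul_eq_left.1 this.symm)

theorem V_A {v : Θ} (hv : v ∈ V ρ R) (ht : ρ t v = v) : v = 1 ∨ v = z := by
  exact A_R H ht hv

theorem card_V : Nat.card ↥(V ρ R) = 4 := by
  have e : ((V ρ R : Subgroup Θ) : Set Θ) = {1, z, n, n * z} := by
    ext v
    exact mem_V H
  have h : Nat.card ↥(V ρ R) = ((V ρ R : Subgroup Θ) : Set Θ).ncard := rfl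
  rw [h, e]
  have h1 : n * z ≠ 1 := by
    intro h
    rw [mul_eq_one_iff_eq_inv, two' H] at h
    exact n_ne_z H h
  have h2 : n * z ≠ z := fun h => n_ne H (mul_eq_right.1 h)
  rw [Set.ncard_insert_of_notMem, Set.ncard_insert_of_notMem, Set.ncard_pair (nz_ne H).symm]
  · rintro (h | h)
    · exact n_ne_z H h.symm
    · exact h2 h.symm
  · rintro (h | h | h)
    · exact H.z1 h.symm
    · exact n_ne H h.symm
    · exact h1 h.symm

theorem index_V : (V ρ R).index = 2 ^ 8 := by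
  have h := (V ρ R).card_mul_index
  rw [card_V H, H.card] at h
  omega

/-! ### centralisers in `Θ` of conjugates of `t` -/

theorem card_Fx {τ h : Y} (hh : h * t * h⁻¹ = τ) : Nat.card ↥(Fx ρ τ) = 32 := by
  rw [← card_A H]
  symm
  apply Nat.card_congr
  refine
    { toFun := fun a => ⟨ρ h a, ?_⟩
      invFun := fun a => ⟨ρ h⁻¹ a, ?_⟩
      left_inv := ?_
      right_inv := ?_ }
  · have ha := mem_Fx.1 a.2
    rw [mem_Fx, ρ_ρ, ← hh]
    have e : h * t * h⁻¹ * h = h * t := by group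
    rw [e, ← ρ_ρ, ha]
  · have ha := mem_Fx.1 a.2
    rw [mem_Fx, ρ_ρ]
    have e : t * h⁻¹ = h⁻¹ * τ := by rw [← hh]; group
    rw [e, ← ρ_ρ, ha]
  · intro a
    apply Subtype.ext
    show ρ h⁻¹ (ρ h a) = a
    rw [ρ_ρ, inv_mul_cancel, map_one]
    rfl
  · intro a
    apply Subtype.ext
    show ρ h (ρ h⁻¹ a) = a
    rw [ρ_ρ, mul_inv_cancel, map_one]
    rfl

/-- `C_Θ(τ) = [Θ, τ]` -/
theorem Fx_comm {τ h : Y} (hh : h * t * h⁻¹ = τ) {a : Θ} (ha : ρ τ a = a) : ∃ θ, θ * ρ τ θ = a := by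
  have := H.finΘ
  have τ2 : τ * τ = 1 := by
    rw [← hh]
    calc h * t * h⁻¹ * (h * t * h⁻¹) = h * (t * t) * h⁻¹ := by group
      _ = 1 := by rw [H.tt]; group
  let f : Θ →* Θ :=
    { toFun := fun θ => θ * ρ τ θ
      map_one' := by simp
      map_mul' := by
        intro b c
        show b * c * ρ τ (b * c) = b * ρ τ b * (c * ρ τ c)
        rw [map_mul, mul_mul_mul_comm] }
  have hk : f.ker = Fx ρ τ := by
    ext b
    rw [MonoidHom.mem_ker, mem_Fx]
    show b * ρ τ b = 1 ↔ _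
    rw [mul_eq_one_iff_inv_eq, two' H, eq_comm]
  have h1 := card_ker_range f
  rw [hk, card_Fx H hh, H.card] at h1
  have h2 : f.range = Fx ρ τ := by
    apply Subgroup.eq_of_le_of_card_ge
    · rintro _ ⟨b, rfl⟩
      rw [mem_Fx]
      show ρ τ (b * ρ τ b) = b * ρ τ b
      rw [map_mul, ρ_ρ, τ2, map_one, mul_comm]
      rfl
    · rw [card_Fx H hh]
      omega
  have h3 : a ∈ f.range := by rw [h2]; exact ha
  obtain ⟨θ, hθ⟩ := h3
  exact ⟨θ, hθ⟩

/-- (a): a conjugate of `t` is not a square -/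
theorem not_sq {τ h g : Y} (hh : h * t * h⁻¹ = τ) (hg : g * g = τ) : False := by
  have := H.finΘ
  have hgτ : g * τ = τ * g := by rw [← hg, mul_assoc]
  have hgg : ∀ a : Θ, ρ g (ρ g a) = ρ τ a := fun a => by rw [ρ_ρ, hg]
  let f : ↥(Fx ρ τ) →* ↥(Fx ρ τ) :=
    { toFun := fun a => ⟨(a : Θ) * ρ g a, by
        have ha := mem_Fx.1 a.2
        rw [mem_Fx, map_mul, ha, ρ_ρ, ← hgτ, ← ρ_ρ, ha]⟩
      map_one' := Subtype.ext (by show (1 : Θ) * ρ g 1 = 1; simp)
      map_mul' := by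
        intro b c
        apply Subtype.ext
        show (b : Θ) * c * ρ g (b * c) = b * ρ g b * (c * ρ g c)
        rw [map_mul, mul_mul_mul_comm] }
  have h1 := sq_card f (by
    intro w
    constructor
    · intro hw
      have hw' : (w : Θ) * ρ g w = 1 := congrArg Subtype.val hw
      have h2 : ρ g (w : Θ) = w := by
        rw [mul_eq_one_iff_inv_eq, two' H] at hw'
        exact hw'.symm
      obtain ⟨θ, hθ⟩ := Fx_comm H hh (mem_Fx.1 w.2)
      have h3 : ρ g θ * ρ g (ρ τ θ) = θ * ρ τ θ := by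
        rw [← map_mul, hθ, h2]
      have h4 : ρ τ (θ * ρ g θ) = θ * ρ g θ := by
        rw [map_mul]
        have h5 : ρ τ (ρ g θ) = ρ g (ρ τ θ) := by rw [ρ_ρ, ρ_ρ, hgτ]
        rw [h5]
        -- `g³θ = gθ·θ·g²θ`
        have h6 : ρ g (ρ τ θ) = ρ g θ * (θ * ρ τ θ) := by
          rw [← h3, ← mul_assoc, H.two, one_mul]
        rw [h6]
        calc ρ τ θ * (ρ g θ * (θ * ρ τ θ)) = (θ * ρ g θ) * (ρ τ θ * ρ τ θ) := by
              rw [mul_comm θ (ρ τ θ), ← mul_assoc, ← mul_assoc]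
              rw [mul_comm (ρ τ θ * ρ g θ * ρ τ θ) θ, ← mul_assoc, ← mul_assoc]
              rw [mul_assoc θ (ρ τ θ) (ρ g θ), mul_comm (ρ τ θ) (ρ g θ), ← mul_assoc, mul_assoc (θ * ρ g θ)]
          _ = θ * ρ g θ := by rw [H.two, mul_one]
      refine ⟨⟨θ * ρ g θ, h4⟩, Subtype.ext ?_⟩
      show θ * ρ g θ * ρ g (θ * ρ g θ) = w
      rw [map_mul, hgg, mul_assoc, ← mul_assoc (ρ g θ) (ρ g θ), H.two, one_mul]
      exact hθ
    · rintro ⟨v, rfl⟩
      apply Subtype.ext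
      show (v : Θ) * ρ g v * ρ g (v * ρ g v) = 1
      have hv := mem_Fx.1 v.2
      rw [map_mul, hgg, hv, mul_assoc, ← mul_assoc (ρ g (v : Θ)) (ρ g v), H.two, one_mul, H.two])
  rw [card_Fx H hh] at h1
  generalize Nat.card f.ker = k at h1
  have h2 : k < 6 := by
    by_contra h3
    have : 6 * 6 ≤ k * k := Nat.mul_le_mul (by omega) (by omega)
    omega
  interval_cases k <;> omega

/-! ### `M` -/

theorem cR_conj {g : Y} (hg : ∀ r ∈ R, g * r = r * g) {r : Y} (hr : r ∈ R) : g * r * g⁻¹ = r := by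
  rw [hg r hr]
  group

end Main

/-- `M = {g ∈ C_Y(R) : g t g⁻¹ ∈ t R}` -/
def M {Y : Type*} [Group Y] (t : Y) (R : Subgroup Y) : Subgroup Y :=
  centralizer (R : Set Y) ⊓ normalizer (E5 t R : Set Y)

/-- `M₀ = C_M(n)` -/
def M0 {Y Θ : Type*} [Group Y] [CommGroup Θ] (ρ : Y →* MulAut Θ) (t : Y) (R : Subgroup Y) (n : Θ) :
    Subgroup Y where
  carrier := {g | g ∈ M t R ∧ ρ g n = n}
  one_mem' := ⟨one_mem _, by rw [map_one]; rfl⟩
  mul_mem' := by
    rintro g h ⟨hg, hg'⟩ ⟨hh, hh'⟩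
    exact ⟨mul_mem hg hh, by rw [← ρ_ρ, hh', hg']⟩
  inv_mem' := by
    rintro g ⟨hg, hg'⟩
    refine ⟨inv_mem hg, ?_⟩
    have h : ρ g⁻¹ (ρ g n) = n := by
      rw [ρ_ρ, inv_mul_cancel, map_one]
      rfl
    rwa [hg'] at h

section Main2

variable {Y Θ : Type*} [Group Y] [CommGroup Θ] {ρ : Y →* MulAut Θ} {t x s r0 : Y} {R Pb : Subgroup Y} {z n : Θ}
  (H : YH ρ t x s r0 R Pb z n)

include H

theorem ρ_inj {g h : Y} (e : ∀ a, ρ g a = ρ h a) : g = h := H.inj (MulEquiv.ext e)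

theorem M_R {g : Y} (hg : g ∈ M t R) : ∀ r ∈ R, g * r = r * g := fun r hr =>
  (mem_centralizer_iff.1 hg.1 r hr).symm

theorem M_t {g : Y} (hg : g ∈ M t R) : t * (g * t * g⁻¹) ∈ R := by
  have h1 : g * t * g⁻¹ ∈ E5 t R := (Subgroup.mem_normalizer_iff.1 hg.2 t).1 (t_mem_E5 H)
  rcases (mem_E5 H).1 h1 with h2 | h2
  · exfalso
    apply t_notR H
    have h3 := M_R H (inv_mem hg) _ h2
    have e : t = g⁻¹ * (g * t * g⁻¹) * g := by group
    rw [e, h3, mul_assoc, inv_mul_cancel, mul_one]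
    exact h2
  · exact h2

theorem mem_M {g : Y} (h1 : ∀ r ∈ R, g * r = r * g) (h2 : t * (g * t * g⁻¹) ∈ R) : g ∈ M t R := by
  have := H.fin
  refine ⟨mem_centralizer_iff.2 fun r hr => (h1 r hr).symm, mem_normalizer_fintype ?_⟩
  intro e he
  rcases (mem_E5 H).1 he with h3 | h3
  · rw [cR_conj H h1 h3]
    exact he
  · have e1 : g * e * g⁻¹ = g * t * g⁻¹ * (g * (t * e) * g⁻¹) := by
      calc g * e * g⁻¹ = g * (t * (t * e)) * g⁻¹ := by rw [t_t H]
        _ = _ := by group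
    show g * e * g⁻¹ ∈ E5 t R
    rw [e1, cR_conj H h1 h3]
    exact mul_mem (tmul_E5 H (R_le_E5 H h2)) (R_le_E5 H h3)

theorem R_le_M : R ≤ M t R := by
  intro r hr
  refine mem_M H (fun a ha => comm_of_sq H.twoR r hr a ha) ?_
  have e : t * (r * t * r⁻¹) = 1 := by
    rw [← tR H r hr]
    have : t * (t * r * r⁻¹) = t * t := by group
    rw [this, H.tt]
  rw [e]
  exact one_mem R

theorem t_mem_M : t ∈ M t R := by
  refine mem_M H (tR H) ?_
  have e : t * (t * t * t⁻¹) = 1 := by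
    have : t * (t * t * t⁻¹) = t * t := by group
    rw [this, H.tt]
  rw [e]
  exact one_mem R

theorem M_ct {g : Y} (hg : g ∈ M t R) (h : g * t = t * g) : g ∈ E5 t R := by
  apply cent_E5 H
  intro e he
  rcases (mem_E5 H).1 he with h3 | h3
  · exact M_R H hg e h3
  · have h4 := M_R H hg _ h3
    rw [← t_t H e, ← mul_assoc, h, mul_assoc, h4, mul_assoc, mul_assoc]
    rw [mul_assoc t e g, t_t H]

theorem E5_le_M : E5 t R ≤ M t R := by
  intro e he
  rcases (mem_E5 H).1 he with h3 | h3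
  · exact R_le_M H h3
  · rw [← t_t H e]
    exact mul_mem (t_mem_M H) (R_le_M H h3)

/-- `δ g = t g t g⁻¹` -/
def delta : ↥(M t R) →* ↥R where
  toFun g := ⟨t * (g * t * (g : Y)⁻¹), M_t H g.2⟩
  map_one' := Subtype.ext (by
    show t * ((1 : Y) * t * (1 : Y)⁻¹) = 1
    have e : t * (1 * t * 1⁻¹) = t * t := by group
    rw [e, H.tt])
  map_mul' := by
    intro g h
    apply Subtype.ext
    show t * ((g : Y) * h * t * ((g : Y) * h)⁻¹) = t * (g * t * (g : Y)⁻¹) * (t * (h * t * (h : Y)⁻¹))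
    have h1 := cR_conj H (M_R H g.2) (M_t H h.2)
    calc t * ((g : Y) * h * t * ((g : Y) * h)⁻¹) = t * (g * (t * (t * (h * t * (h : Y)⁻¹))) * (g : Y)⁻¹) := by
          rw [t_t H]
          group
      _ = t * (g * t * (g : Y)⁻¹) * (g * (t * (h * t * (h : Y)⁻¹)) * (g : Y)⁻¹) := by group
      _ = _ := by rw [h1]

theorem delta_one {g : ↥(M t R)} : delta H g = 1 ↔ (g : Y) ∈ E5 t R := by
  constructor
  · intro h
    have h1 : t * (g * t * (g : Y)⁻¹) = 1 := congrArg Subtype.val h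
    apply M_ct H g.2
    have h2 : (g : Y) * t * (g : Y)⁻¹ = t := by
      rw [← t_t H ((g : Y) * t * (g : Y)⁻¹), h1, mul_one]
    exact mul_inv_eq_iff_eq_mul.1 h2
  · intro h
    apply Subtype.ext
    show t * (g * t * (g : Y)⁻¹) = 1
    rw [E5_comm H _ h _ (t_mem_E5 H)]
    have : t * (t * g * (g : Y)⁻¹) = t * t := by group
    rw [this, H.tt]

theorem sq_E5 {g : Y} (hg : g ∈ M t R) : g * g ∈ E5 t R := by
  have h := (delta_one H (g := ⟨g, hg⟩ * ⟨g, hg⟩)).1 (by
    rw [map_mul]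
    exact Subtype.ext (H.twoR _ (delta H ⟨g, hg⟩).2))
  exact h

/-- every `t r` is conjugate to `t` under `C_Y(R)` -/
def HS {Y : Type*} [Group Y] (t : Y) (R : Subgroup Y) : Prop :=
  ∀ r ∈ R, ∃ g : Y, (∀ a ∈ R, g * a = a * g) ∧ g * t * g⁻¹ = t * r

theorem card_M (h16 : HS t R) : Nat.card ↥(M t R) = 2 ^ 9 := by
  have := H.fin
  have h1 : Nat.card (delta H).ker = 32 := by
    rw [← Subgroup.card_map_of_injective (K := (delta H).ker) (M t R).subtype_injective, ← card_E5 H]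
    congr 1
    have : (delta H).ker.map (M t R).subtype = E5 t R := by
      ext y
      constructor
      · rintro ⟨g, hg, rfl⟩
        exact (delta_one H).1 hg
      · intro hy
        exact ⟨⟨y, E5_le_M H hy⟩, (delta_one H).2 hy, rfl⟩
    rw [this]
  have h2 : (delta H).range = ⊤ := by
    rw [MonoidHom.range_eq_top]
    rintro ⟨r, hr⟩
    obtain ⟨g, hg, hg'⟩ := h16 r hr
    have h3 : t * (g * t * g⁻¹) = r := by rw [hg', t_t H]
    exact ⟨⟨g, mem_M H hg (by rw [h3]; exact hr)⟩, Subtype.ext h3⟩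
  rw [card_ker_range (delta H), h1, h2, Subgroup.card_top, H.cardR]
  norm_num

theorem sq_M (h16 : HS t R) {g : Y} (hg : g ∈ M t R) : g * g ∈ R := by
  rcases (mem_E5 H).1 (sq_E5 H hg) with h | h
  · exact h
  · exfalso
    obtain ⟨k, hk, hk'⟩ := h16 _ h
    rw [t_t H] at hk'
    exact not_sq H hk' rfl

/-! ### action on `V` -/

theorem cR_V {g : Y} (hg : ∀ r ∈ R, g * r = r * g) {v : Θ} (hv : v ∈ V ρ R) : ρ g v ∈ V ρ R := by
  intro r hr
  rw [ρ_ρ, ← hg r hr, ← ρ_ρ, hv r hr]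

theorem M_z {g : Y} (hg : g ∈ M t R) : ρ g z = z := by
  have h1 := M_t H (inv_mem hg)
  have h2 : ρ t (ρ g z) = ρ g z := by
    have e : t * g = g * (t * (t * (g⁻¹ * t * g⁻¹⁻¹))) := by
      rw [t_t H]
      group
    rw [ρ_ρ, e, ← ρ_ρ, ← ρ_ρ, Rz H _ h1, H.zt]
  rcases V_A H (cR_V H (M_R H hg) (z_V H)) h2 with h3 | h3
  · exfalso
    apply H.z1
    apply (ρ g).injective
    rw [h3, map_one]
  · exact h3

theorem perm_n {g : Y} (hV : ρ g n ∈ V ρ R) (hz : ρ g z = z) : ρ g n = n ∨ ρ g n = n * z := by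
  rcases (mem_V H).1 hV with h | h | h | h
  · exfalso
    apply n_ne H
    apply (ρ g).injective
    rw [h, map_one]
  · exfalso
    apply n_ne_z H
    apply (ρ g).injective
    rw [h, hz]
  · exact Or.inl h
  · exact Or.inr h

theorem M0_cases {g : Y} (hg : g ∈ M t R) : g ∈ M0 ρ t R n ∨ t * g ∈ M0 ρ t R n := by
  rcases perm_n H (cR_V H (M_R H hg) (n_V H)) (M_z H hg) with h | h
  · exact Or.inl ⟨hg, h⟩
  · refine Or.inr ⟨mul_mem (t_mem_M H) hg, ?_⟩
    rw [← ρ_ρ, h, map_mul, H.nt, H.zt, mul_assoc, H.two, mul_one]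

theorem t_notM0 : t ∉ M0 ρ t R n := by
  rintro ⟨-, h⟩
  rw [H.nt] at h
  exact nz_ne H h

theorem M0_V {g : Y} (hg : g ∈ M0 ρ t R n) {v : Θ} (hv : v ∈ V ρ R) : ρ g v = v := by
  rcases (mem_V H).1 hv with rfl | rfl | rfl | rfl
  · exact map_one _
  · exact M_z H hg.1
  · exact hg.2
  · rw [map_mul, hg.2, M_z H hg.1]

theorem R_le_M0 : R ≤ M0 ρ t R n := fun r hr => ⟨R_le_M H hr, H.Rn r hr⟩

theorem M0_le : M0 ρ t R n ≤ M t R := fun _ h => h.1

theorem card_M0 (h16 : HS t R) : Nat.card ↥(M0 ρ t R n) = 2 ^ 8 := by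
  have := H.fin
  have h1 := ncard_double (fun y hy => M0_cases H (g := y) hy)
  rw [card_M H h16] at h1
  have h2 := Subgroup.card_dvd_of_le (M0_le H)
  rw [card_M H h16] at h2
  obtain ⟨k, hk, hk'⟩ := (Nat.dvd_prime_pow Nat.prime_two).1 h2
  have h3 : k ≠ 9 := by
    intro h4
    apply t_notM0 H
    have h5 : M0 ρ t R n = M t R := by
      apply Subgroup.eq_of_le_of_card_ge (M0_le H)
      rw [card_M H h16, hk', h4]
    rw [h5]
    exact t_mem_M H
  have h4 : 8 ≤ k := by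
    by_contra h5
    have h6 : 2 ^ k ≤ 2 ^ 7 := Nat.pow_le_pow_right (by norm_num) (by omega)
    rw [hk'] at h1
    norm_num at h1 h6
    omega
  have h5 : k = 8 := by omega
  rw [hk', h5]

/-! ### `x` -/

theorem x_V {v : Θ} (hv : v ∈ V ρ R) : ρ x v ∈ V ρ R := by
  intro r hr
  have h1 : x⁻¹ * r * x ∈ R := by
    have := H.nR _ (inv_mem H.xP) r hr
    rwa [inv_inv] at this
  have e : r * x = x * (x⁻¹ * r * x) := by group
  rw [ρ_ρ, e, ← ρ_ρ, hv _ h1]

theorem xn : ρ x n = n := by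
  rcases perm_n H (x_V H (n_V H)) H.zx with h | h
  · exact h
  · exfalso
    have h2 : ρ x (n * z) = n := by
      rw [map_mul, h, H.zx, mul_assoc, H.two, mul_one]
    have h3 := xρ5 H n
    rw [h, h2, h, h2, h] at h3
    exact nz_ne H h3

/-- `Pb` normalises `M` -/
theorem Pb_M {p g : Y} (hp : p ∈ Pb) (hg : g ∈ M t R) : p * g * p⁻¹ ∈ M t R := by
  have hp' : ∀ r ∈ R, p⁻¹ * r * p ∈ R := by
    intro r hr
    have := H.nR _ (inv_mem hp) r hr
    rwa [inv_inv] at this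
  refine mem_M H ?_ ?_
  · intro r hr
    have h1 := M_R H hg _ (hp' r hr)
    calc p * g * p⁻¹ * r = p * (g * (p⁻¹ * r * p)) * p⁻¹ := by group
      _ = r * (p * g * p⁻¹) := by rw [h1]; group
  · have h1 := H.nR p hp _ (M_t H hg)
    have h2 := H.comm p hp
    have e : t * (p * g * p⁻¹ * t * (p * g * p⁻¹)⁻¹) = p * (t * (g * t * g⁻¹)) * p⁻¹ := by
      have h3 : p⁻¹ * t = t * p⁻¹ := by
        rw [inv_mul_eq_iff_eq_mul, ← mul_assoc, ← h2]
        group
      calc t * (p * g * p⁻¹ * t * (p * g * p⁻¹)⁻¹) = t * p * (g * (p⁻¹ * t * p) * g⁻¹) * p⁻¹ := by group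
        _ = p * t * (g * (t * p⁻¹ * p) * g⁻¹) * p⁻¹ := by rw [h2, h3]
        _ = _ := by group
    rw [e]
    exact h1

theorem x_M0 {p g : Y} (hp : p ∈ Pb) (hn : ρ p n = n) (hg : g ∈ M0 ρ t R n) : p * g * p⁻¹ ∈ M0 ρ t R n := by
  refine ⟨Pb_M H hp hg.1, ?_⟩
  have hn' : ρ p⁻¹ n = n := by
    have h : ρ p⁻¹ (ρ p n) = n := by
      rw [ρ_ρ, inv_mul_cancel, map_one]
      rfl
    rwa [hn] at h
  rw [← ρ_ρ, ← ρ_ρ, hn', hg.2, hn]

theorem xin : ρ x⁻¹ n = n := by
  have h : ρ x⁻¹ (ρ x n) = n := by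
    rw [ρ_ρ, inv_mul_cancel, map_one]
    rfl
  rwa [xn H] at h

/-- (b): `[A, M₀] ≤ V` -/
theorem A_M0 (h16 : HS t R) : ∀ a, ρ t a = a → ∀ g ∈ M0 ρ t R n, ρ g a * a⁻¹ ∈ V ρ R := by
  have := H.fin
  have := H.finΘ
  obtain ⟨θ, hθ, hfix⟩ := exists_fixed ρ (IsPGroup.of_card (card_M H h16)) (V := V ρ R)
    (fun g hg v hv => cR_V H (M_R H hg) hv) (by rw [index_V H]; norm_num)
  -- an element of `A ∖ V`
  have h1 : ∃ a : Θ, ρ t a = a ∧ a ∉ V ρ R ∧ ∀ g ∈ M0 ρ t R n, ρ g a * a⁻¹ ∈ V ρ R := by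
    have h2 := hfix t (t_mem_M H)
    have h3 : ρ t (ρ t θ * θ⁻¹) = ρ t θ * θ⁻¹ := by
      rw [map_mul, tt_θ H, map_inv, two' H, two' H, mul_comm]
    rcases V_A H h2 h3 with h4 | h4
    · refine ⟨θ, ?_, hθ, fun g hg => hfix g hg.1⟩
      exact mul_inv_eq_one.1 h4
    · have h5 : ρ t θ = θ * z := by
        rw [mul_inv_eq_iff_eq_mul] at h4
        rw [h4, mul_comm]
      refine ⟨θ * n, ?_, ?_, ?_⟩
      · rw [map_mul, h5, H.nt, mul_mul_mul_comm, H.two, mul_one]
      · intro h6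
        apply hθ
        have : θ = θ * n * n := by rw [mul_assoc, H.two, mul_one]
        rw [this]
        exact mul_mem h6 (n_V H)
      · intro g hg
        have : ρ g (θ * n) * (θ * n)⁻¹ = ρ g θ * θ⁻¹ := by
          rw [map_mul, hg.2, mul_inv, mul_mul_mul_comm, mul_inv_cancel, mul_one]
        rw [this]
        exact hfix g hg.1
  obtain ⟨a, ha, haV, hag⟩ := h1
  let W : Subgroup Θ :=
    { carrier := {b | ρ t b = b ∧ ∀ g ∈ M0 ρ t R n, ρ g b * b⁻¹ ∈ V ρ R}
      one_mem' := ⟨map_one _, fun g _ => by rw [map_one, inv_one, mul_one]; exact one_mem _⟩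
      mul_mem' := by
        rintro b c ⟨hb, hb'⟩ ⟨hc, hc'⟩
        refine ⟨by rw [map_mul, hb, hc], fun g hg => ?_⟩
        rw [map_mul, mul_inv, mul_mul_mul_comm]
        exact mul_mem (hb' g hg) (hc' g hg)
      inv_mem' := by
        rintro b ⟨hb, hb'⟩
        refine ⟨by rw [map_inv, hb], fun g hg => ?_⟩
        rw [map_inv, ← mul_inv]
        exact inv_mem (hb' g hg) }
  have hW : W ≤ Fx ρ t := fun w hw => hw.1
  have hz : z ∈ W := ⟨H.zt, fun g hg => by
    rw [M_z H hg.1, mul_inv_cancel]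
    exact one_mem _⟩
  have hx : ∀ w ∈ W, ρ x w ∈ W := by
    rintro w ⟨hw, hw'⟩
    refine ⟨by rw [ρ_ρ, tx H, ← ρ_ρ, hw], fun g hg => ?_⟩
    have h2 : x⁻¹ * g * x⁻¹⁻¹ ∈ M0 ρ t R n := x_M0 H (inv_mem H.xP) (xin H) hg
    have h3 := x_V H (hw' _ h2)
    have e : ρ g (ρ x w) * (ρ x w)⁻¹ = ρ x (ρ (x⁻¹ * g * x⁻¹⁻¹) w * w⁻¹) := by
      rw [map_mul, ρ_ρ, ρ_ρ, map_inv]
      congr 2
      group
    rw [e]
    exact h3
  have h2 := xinv_A H hW hz hx ⟨a, ⟨ha, hag⟩, fun h => haV (by rw [h]; exact one_mem _),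
    fun h => haV (by rw [h]; exact z_V H)⟩
  intro b hb
  have h3 : b ∈ W := by
    rw [h2]
    exact hb
  exact h3.2

/-- `M₀` is elementary abelian -/
theorem M0_sq (h16 : HS t R) : ∀ g ∈ M0 ρ t R n, g * g = 1 := by
  intro g hg
  apply H.faith _ (sq_M H h16 hg.1)
  intro a ha
  have h1 := A_M0 H h16 a ha g hg
  obtain ⟨v, hv⟩ : ∃ v, v = ρ g a * a⁻¹ := ⟨_, rfl⟩
  rw [← hv] at h1
  have h2 : ρ g a = v * a := by rw [hv]; group
  rw [← ρ_ρ, h2, map_mul, M0_V H hg h1, h2, ← mul_assoc, H.two, one_mul]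

/-! ### uniqueness of `M₀` -/

theorem card_Ctr (h16 : HS t R) {r : Y} (hr : r ∈ R) : Nat.card ↥(centralizer {t * r} : Subgroup Y) = 640 := by
  obtain ⟨g, -, hg⟩ := h16 r hr
  rw [← card_Ct H, ← hg]
  symm
  have e : (centralizer {g * t * g⁻¹} : Subgroup Y) = (centralizer {t} : Subgroup Y).map (MulAut.conj g).toMonoidHom := by
    ext y
    rw [mem_centralizer_singleton_iff]
    constructor
    · intro h
      refine ⟨g⁻¹ * y * g, ?_, ?_⟩
      · show g⁻¹ * y * g ∈ (centralizer {t} : Subgroup Y)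
        rw [mem_centralizer_singleton_iff]
        calc g⁻¹ * y * g * t = g⁻¹ * (y * (g * t * g⁻¹)) * g := by group
          _ = g⁻¹ * (g * t * g⁻¹ * y) * g := by rw [h]
          _ = t * (g⁻¹ * y * g) := by group
      · show g * (g⁻¹ * y * g) * g⁻¹ = y
        group
    · rintro ⟨c, hc, rfl⟩
      have hc' : c * t = t * c := mem_centralizer_singleton_iff.1 hc
      show g * c * g⁻¹ * (g * t * g⁻¹) = g * t * g⁻¹ * (g * c * g⁻¹)
      calc g * c * g⁻¹ * (g * t * g⁻¹) = g * (c * t) * g⁻¹ := by group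
        _ = g * t * g⁻¹ * (g * c * g⁻¹) := by rw [hc']; group
  rw [e]
  exact (Subgroup.card_map_of_injective (MulAut.conj g).injective).symm

theorem uniq (h16 : HS t R) {M' : Subgroup Y} (hc : Nat.card ↥M' = 2 ^ 8) (h2 : ∀ a ∈ M', a * a = 1)
    (hT : ∀ c ∈ Tb t s R, ∀ m ∈ M', c * m * c⁻¹ ∈ M') : M' = M0 ρ t R n := by
  have := H.fin
  have hab := comm_of_sq h2
  have ht : t ∉ M' := by
    intro h
    have h3 : M' ≤ centralizer {t} := fun m hm => mem_centralizer_singleton_iff.2 (hab m hm t h)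
    have h4 := Subgroup.card_dvd_of_le h3
    rw [hc, card_Ct H] at h4
    norm_num at h4
  -- `F = C_{M'}(t)`
  have hF16 : 16 ≤ Nat.card ↥(M' ⊓ centralizer {t} : Subgroup Y) := by
    have h3 := card_le_sq h2 H.tt (hT t (t_Tb H))
    rw [hc] at h3
    by_contra h4
    have h5 : Nat.card ↥(M' ⊓ centralizer {t} : Subgroup Y) ≤ 15 := by omega
    have h6 := Nat.pow_le_pow_left h5 2
    omega
  have hFt : ∀ f ∈ M' ⊓ centralizer {t}, f * t = t * f := fun f hf => mem_centralizer_singleton_iff.1 hf.2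
  have hFT : M' ⊓ centralizer {t} ≤ Tb t s R := by
    apply le_Tb H
    · have : IsPGroup 2 ↥M' := IsPGroup.of_card hc
      exact this.to_le inf_le_left
    · exact hFt
    · rintro c hc' f ⟨hf1, hf2⟩
      refine ⟨hT c hc' f hf1, ?_⟩
      have h3 := mem_centralizer_singleton_iff.1 hf2
      have h4 := Tb_comm H c hc'
      show c * f * c⁻¹ ∈ centralizer {t}
      rw [mem_centralizer_singleton_iff]
      have h5 : c⁻¹ * t = t * c⁻¹ := by
        rw [inv_mul_eq_iff_eq_mul, ← mul_assoc, h4]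
        group
      calc c * f * c⁻¹ * t = c * f * (c⁻¹ * t) := by group
        _ = c * (f * t) * c⁻¹ := by rw [h5]; group
        _ = (c * t) * f * c⁻¹ := by rw [h3]; group
        _ = t * (c * f * c⁻¹) := by rw [h4]; group
  have hFt' : ∀ f ∈ M' ⊓ centralizer {t}, t * f = f * t := fun f hf => (hFt f hf).symm
  have hF2 : ∀ f ∈ M' ⊓ centralizer {t}, f * f = 1 := fun f hf => h2 f hf.1
  have hE : dbl t H.tt (M' ⊓ centralizer {t}) hFt' = E5 t R := by
    apply E_eq H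
    · rintro y (hy | hy)
      · exact hFT hy
      · rw [← t_t H y]
        exact mul_mem (t_Tb H) (hFT hy)
    · exact dbl_sq hF2
    · rw [card_dbl (fun h => ht (Subgroup.mem_inf.1 h).1)]
      omega
  have hFR : M' ⊓ centralizer {t} ≤ R := by
    intro f hf
    have h3 : f ∈ E5 t R := by
      rw [← hE]
      exact le_dbl hf
    rcases (mem_E5 H).1 h3 with h4 | h4
    · exact h4
    · exfalso
      have h5 := card_Ctr H h16 h4
      rw [t_t H] at h5
      have h6 : M' ≤ centralizer {f} := fun m hm => mem_centralizer_singleton_iff.2 (hab m hm f hf.1)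
      have h7 := Subgroup.card_dvd_of_le h6
      rw [hc, h5] at h7
      norm_num at h7
  have hFeq : M' ⊓ centralizer {t} = R := by
    apply Subgroup.eq_of_le_of_card_ge hFR
    rw [H.cardR]
    exact hF16
  have hRM : ∀ r ∈ R, r ∈ M' := fun r hr => by
    rw [← hFeq] at hr
    exact hr.1
  have hM'M : M' ≤ M t R := by
    intro m hm
    refine mem_M H (fun r hr => hab m hm r (hRM r hr)) ?_
    have h3 : t * m * t⁻¹ ∈ M' := hT t (t_Tb H) m hm
    have e : t * (m * t * m⁻¹) = t * m * t⁻¹ * m⁻¹ := by rw [t_inv H]; group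
    rw [← hFeq, e]
    refine ⟨M'.mul_mem h3 (M'.inv_mem hm), ?_⟩
    show t * m * t⁻¹ * m⁻¹ ∈ centralizer {t}
    rw [mem_centralizer_singleton_iff]
    have h4 := hab _ h3 _ (inv_mem hm)
    have hm' : m⁻¹ = m := inv_eq_of_mul_eq_one_left (h2 m hm)
    calc t * m * t⁻¹ * m⁻¹ * t = m⁻¹ * (t * m * t⁻¹) * t := by rw [h4]
      _ = m * t * m := by rw [hm']; group
      _ = t * (t * m * t) * m := by
          rw [mul_assoc t m t, t_t H]
      _ = t * (t * m * t⁻¹ * m⁻¹) := by rw [t_inv H, hm']; group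
  have hle : M' ≤ M0 ρ t R n := by
    by_contra hne
    rw [SetLike.not_le_iff_exists] at hne
    obtain ⟨g, hg, hgn⟩ := hne
    have hg0 : t * g ∈ M0 ρ t R n := by
      rcases M0_cases H (hM'M hg) with h | h
      · exact absurd h hgn
      · exact h
    have hM02 := M0_sq H h16
    have hM0ab := comm_of_sq hM02
    have hD : M' ⊓ M0 ρ t R n ≤ R := by
      rintro d ⟨hd1, hd2⟩
      rw [← hFeq]
      refine ⟨hd1, ?_⟩
      show d ∈ centralizer {t}
      rw [mem_centralizer_singleton_iff]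
      have h3 := hM0ab d hd2 _ hg0
      have h4 := hab d hd1 _ (inv_mem hg)
      calc d * t = d * (t * g) * g⁻¹ := by group
        _ = t * g * (d * g⁻¹) := by rw [h3]; group
        _ = t * d := by rw [h4]; group
    have h3 := Subgroup.card_le_of_le hD
    rw [H.cardR] at h3
    have h4 : Nat.card ↥M' ≤ 2 * Nat.card ↥(M' ⊓ M0 ρ t R n : Subgroup Y) := by
      apply ncard_double (g := g⁻¹)
      intro m hm
      by_cases h5 : m ∈ M0 ρ t R n
      · exact Or.inl ⟨hm, h5⟩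
      · right
        refine ⟨M'.mul_mem (M'.inv_mem hg) hm, ?_⟩
        have h6 : t * m ∈ M0 ρ t R n := by
          rcases M0_cases H (hM'M hm) with h | h
          · exact absurd h h5
          · exact h
        have e : g⁻¹ * m = (t * g)⁻¹ * (t * m) := by group
        show g⁻¹ * m ∈ M0 ρ t R n
        rw [e]
        exact mul_mem (inv_mem hg0) h6
    omega
  apply Subgroup.eq_of_le_of_card_ge hle
  rw [hc, card_M0 H h16]

/-! ### the end -/

theorem nR_V {p : Y} (hp : ∀ r ∈ R, p⁻¹ * r * p ∈ R) {v : Θ} (hv : v ∈ V ρ R) : ρ p v ∈ V ρ R := by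
  intro r hr
  have e : r * p = p * (p⁻¹ * r * p) := by group
  rw [ρ_ρ, e, ← ρ_ρ, hv _ (hp r hr)]

theorem Pb_M0 {p g : Y} (hp : p ∈ Pb) (hg : g ∈ M0 ρ t R n) : p * g * p⁻¹ ∈ M0 ρ t R n := by
  refine ⟨Pb_M H hp hg.1, ?_⟩
  have h1 : ρ p⁻¹ n ∈ V ρ R := nR_V H (fun r hr => by
    rw [inv_inv]
    exact H.nR p hp r hr) (n_V H)
  rw [← ρ_ρ, ← ρ_ρ, M0_V H hg h1, ρ_ρ, mul_inv_cancel, map_one]
  rfl

theorem t_M0 {g : Y} (hg : g ∈ M0 ρ t R n) : t * g * t⁻¹ ∈ M0 ρ t R n := by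
  refine ⟨mul_mem (mul_mem (t_mem_M H) hg.1) (inv_mem (t_mem_M H)), ?_⟩
  have h1 : ρ t⁻¹ n ∈ V ρ R := by
    rw [t_inv H]
    exact cR_V H (tR H) (n_V H)
  rw [← ρ_ρ, ← ρ_ρ, M0_V H hg h1, ρ_ρ, mul_inv_cancel, map_one]
  rfl

theorem Tb_le_X : Tb t s R ≤ normalizer (M0 ρ t R n : Set Y) := by
  have := H.fin
  refine sup_le (sup_le ?_ ?_) ?_
  · rw [Subgroup.zpowers_le]
    exact mem_normalizer_fintype fun g hg => t_M0 H hg
  · exact (R_le_M0 H).trans Subgroup.le_normalizer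
  · rw [Subgroup.zpowers_le]
    exact mem_normalizer_fintype fun g hg => Pb_M0 H H.sP hg

theorem X_V {y : Y} (hy : y ∈ normalizer (M0 ρ t R n : Set Y)) {v : Θ} (hv : v ∈ V ρ R) : ρ y v ∈ V ρ R := by
  intro r hr
  have h1 : y⁻¹ * r * y ∈ M0 ρ t R n := (Subgroup.mem_normalizer_iff''.1 hy r).1 (R_le_M0 H hr)
  have e : r * y = y * (y⁻¹ * r * y) := by group
  rw [ρ_ρ, e, ← ρ_ρ, M0_V H h1 hv]

/-- the action of `X = N_Y(M₀)` on `V` -/
def act : ↥(normalizer (M0 ρ t R n : Set Y)) →* Equiv.Perm ↥(V ρ R) where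
  toFun y :=
    { toFun := fun v => ⟨ρ (y : Y) v, X_V H y.2 v.2⟩
      invFun := fun v => ⟨ρ (y : Y)⁻¹ v, X_V H (inv_mem y.2) v.2⟩
      left_inv := by
        intro v
        apply Subtype.ext
        show ρ (y : Y)⁻¹ (ρ (y : Y) v) = v
        rw [ρ_ρ, inv_mul_cancel, map_one]
        rfl
      right_inv := by
        intro v
        apply Subtype.ext
        show ρ (y : Y) (ρ (y : Y)⁻¹ v) = v
        rw [ρ_ρ, mul_inv_cancel, map_one]
        rfl }
  map_one' := by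
    apply Equiv.ext
    intro v
    apply Subtype.ext
    show ρ (1 : Y) v = v
    rw [map_one]
    rfl
  map_mul' := by
    intro y y'
    apply Equiv.ext
    intro v
    apply Subtype.ext
    show ρ ((y : Y) * y') v = ρ (y : Y) (ρ (y' : Y) v)
    rw [ρ_ρ]

omit [Group Y] [CommGroup Θ] H in
theorem exists_sg : ∃ f : ℤˣ →* Multiplicative (ZMod 2), f (-1) ≠ 1 :=
  ⟨{ toFun := fun u => if u = 1 then 1 else Multiplicative.ofAdd 1
     map_one' := by simp
     map_mul' := by decide }, by decide⟩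

theorem false_of_HS (h16 : HS t R) : False := by
  classical
  have := H.fin
  have := H.finΘ
  have : Fintype ↥(V ρ R) := Fintype.ofFinite _
  obtain ⟨f, hf⟩ := exists_sg
  have htX : t ∈ normalizer (M0 ρ t R n : Set Y) := Tb_le_X H (t_Tb H)
  have h1 := H.tfy (normalizer (M0 ρ t R n : Set Y)) (Tb_le_X H) ?_
    ⟨M0 ρ t R n, Subgroup.le_normalizer, ?_, M0_sq H h16, Or.inl (by rw [card_M0 H h16]; norm_num)⟩
    (f.comp (Equiv.Perm.sign.comp (act H))) htX
  · apply hf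
    have h2 : act H ⟨t, htX⟩ = Equiv.swap ⟨n, n_V H⟩ ⟨n * z, mul_mem (n_V H) (z_V H)⟩ := by
      apply Equiv.ext
      rintro ⟨v, hv⟩
      apply Subtype.ext
      show ρ t v = _
      rcases (mem_V H).1 hv with rfl | rfl | rfl | rfl
      · rw [Equiv.swap_apply_of_ne_of_ne, map_one]
        · intro h
          exact n_ne H (congrArg Subtype.val h).symm
        · intro h
          have h3 : (1 : Θ) = n * z := congrArg Subtype.val h
          rw [eq_comm, mul_eq_one_iff_eq_inv, two' H] at h3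
          exact n_ne_z H h3
      · rw [Equiv.swap_apply_of_ne_of_ne, H.zt]
        · intro h
          exact n_ne_z H (congrArg Subtype.val h).symm
        · intro h
          have h3 : v = n * v := congrArg Subtype.val h
          exact n_ne H (mul_eq_right.1 h3.symm)
      · rw [Equiv.swap_apply_left, H.nt]
      · rw [Equiv.swap_apply_right, map_mul, H.nt, H.zt, mul_assoc, H.two, mul_one]
    have h3 : Equiv.Perm.sign (act H ⟨t, htX⟩) = -1 := by
      rw [h2]
      apply Equiv.Perm.sign_swap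
      intro h
      exact nz_ne H (congrArg Subtype.val h).symm
    rw [← h3]
    exact h1
  · -- uniqueness
    intro g hg
    have h2 := uniq H h16 (M' := (M0 ρ t R n).map (MulAut.conj g).toMonoidHom) ?_ ?_ ?_
    · apply mem_normalizer_fintype
      intro m hm
      have h3 : g * m * g⁻¹ ∈ (M0 ρ t R n).map (MulAut.conj g).toMonoidHom := ⟨m, hm, rfl⟩
      rw [h2] at h3
      exact h3
    · rw [← card_M0 H h16]
      exact Subgroup.card_map_of_injective (MulAut.conj g).injective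
    · rintro _ ⟨m, hm, rfl⟩
      show g * m * g⁻¹ * (g * m * g⁻¹) = 1
      calc g * m * g⁻¹ * (g * m * g⁻¹) = g * (m * m) * g⁻¹ := by group
        _ = 1 := by rw [M0_sq H h16 m hm]; group
    · rintro c hc _ ⟨m, hm, rfl⟩
      refine ⟨g⁻¹ * c * g * m * (g⁻¹ * c * g)⁻¹, (Subgroup.mem_normalizer_iff.1 (hg c hc) m).1 hm, ?_⟩
      show g * (g⁻¹ * c * g * m * (g⁻¹ * c * g)⁻¹) * g⁻¹ = c * (g * m * g⁻¹) * c⁻¹
      group
  · intro g hg b hb
    exact (Subgroup.mem_normalizer_iff.1 hg b).1 hb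

/-! ### from `|N_Y(E5)| = 10240` -/

theorem x_notTb {m : ℕ} (h : x ^ m ∈ Tb t s R) : m % 5 = 0 := by
  obtain ⟨k, hk⟩ := (Tb_p H) ⟨x ^ m, h⟩
  have h1 : (x ^ m) ^ 2 ^ k = 1 := congrArg Subtype.val hk
  have h2 : x ^ (m * 2 ^ k) ∈ centralizer (R : Set Y) := by
    rw [pow_mul, h1]
    exact one_mem _
  have h3 : 5 ∣ m * 2 ^ k := Nat.dvd_of_mod_eq_zero (xC H h2)
  have h4 : 5 ∣ m := (Nat.Coprime.pow_right k (by norm_num : Nat.Coprime 5 2)).dvd_of_dvd_mul_right h3
  exact Nat.mod_eq_zero_of_dvd h4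

/-- a subgroup of `Tb` normalised by `x` lies in `E5` -/
theorem Tb_x {L : Subgroup Y} (hL : L ≤ Tb t s R) (hx : ∀ l ∈ L, x * l * x⁻¹ ∈ L) : L ≤ E5 t R := by
  intro l hl
  obtain ⟨e, he, k, rfl⟩ := (mem_Tb H).1 (hL hl)
  have h1 := hL (hx _ hl)
  have e1 : x ^ (4 * 2 ^ k) = (x ^ (2 ^ k))⁻¹ := by
    rw [eq_inv_iff_mul_eq_one, ← pow_add]
    have : 4 * 2 ^ k + 2 ^ k = 5 * 2 ^ k := by ring
    rw [this, pow_mul, H.x5, one_pow]
  have e2 : s ^ k * x⁻¹ = (x ^ (2 ^ k))⁻¹ * s ^ k := by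
    rw [eq_inv_mul_iff_mul_eq, ← mul_assoc, ← sp_x H]
    group
  have e3 : x * (e * s ^ k) * x⁻¹ = x * e * x⁻¹ * x ^ (1 + 4 * 2 ^ k) * s ^ k := by
    calc x * (e * s ^ k) * x⁻¹ = x * e * (s ^ k * x⁻¹) := by group
      _ = x * e * ((x ^ (2 ^ k))⁻¹ * s ^ k) := by rw [e2]
      _ = x * e * x⁻¹ * (x * (x ^ (2 ^ k))⁻¹) * s ^ k := by group
      _ = _ := by rw [pow_add, pow_one, e1]
  rw [e3] at h1
  have h2 : x * e * x⁻¹ ∈ Tb t s R := E5_Tb H (Pb_nE H H.xP he)
  have h3 : x ^ (1 + 4 * 2 ^ k) ∈ Tb t s R := by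
    have e4 : x ^ (1 + 4 * 2 ^ k) = (x * e * x⁻¹)⁻¹ * (x * e * x⁻¹ * x ^ (1 + 4 * 2 ^ k) * s ^ k) * (s ^ k)⁻¹ := by
      group
    rw [e4]
    exact mul_mem (mul_mem (inv_mem h2) h1) (inv_mem (pow_mem (s_Tb H) k))
  have h4 := pow2mod (x_notTb H h3)
  rw [s_mod H, h4, pow_zero, mul_one]
  exact he

/-- a 2-subgroup `L` of `N_Y(E5)`, normalised by `Tb` and `x`, of order more than 32, gives `HS` -/
theorem HS_of_normal {L : Subgroup Y} (hL : IsPGroup 2 ↥L) (hT : ∀ c ∈ Tb t s R, ∀ l ∈ L, c * l * c⁻¹ ∈ L)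
    (hx : ∀ l ∈ L, x * l * x⁻¹ ∈ L) (hLN : L ≤ normalizer (E5 t R : Set Y)) (h32 : 32 < Nat.card ↥L) :
    HS t R := by
  have := H.fin
  have : Fact (Nat.Prime 2) := ⟨Nat.prime_two⟩
  have hnle : ¬ L ≤ E5 t R := by
    intro h
    have := Subgroup.card_le_of_le h
    rw [card_E5 H] at this
    omega
  -- a fixed point of `L` on `E5`
  obtain ⟨b, hbE, hb1, hbL⟩ : ∃ b ∈ E5 t R, b ≠ 1 ∧ ∀ l ∈ L, l * b * l⁻¹ = b := by
    let actE : MulAction ↥L ↥(E5 t R) :=
      { smul := fun g e => ⟨(g : Y) * e * (g : Y)⁻¹, (Subgroup.mem_normalizer_iff.1 (hLN g.2) e).1 e.2⟩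
        one_smul := fun e => Subtype.ext (by show (1 : Y) * e * (1 : Y)⁻¹ = e; group)
        mul_smul := fun g h e => Subtype.ext (by
          show (g : Y) * h * e * ((g : Y) * h)⁻¹ = g * (h * e * (h : Y)⁻¹) * (g : Y)⁻¹
          group) }
    have h1 : (1 : ↥(E5 t R)) ∈ MulAction.fixedPoints ↥L ↥(E5 t R) := fun g => Subtype.ext (by
      show (g : Y) * 1 * (g : Y)⁻¹ = 1
      group)
    obtain ⟨b, hb, hne⟩ := hL.exists_fixed_point_of_prime_dvd_card_of_fixed_point ↥(E5 t R)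
      (by rw [card_E5 H]; norm_num) h1
    refine ⟨b, b.2, fun h => hne (Subtype.ext h.symm), fun l hl => ?_⟩
    exact congrArg Subtype.val (hb ⟨l, hl⟩)
  let C : Subgroup Y := E5 t R ⊓ centralizer (L : Set Y)
  have hbC : b ∈ C := ⟨hbE, mem_centralizer_iff.2 fun l hl => mul_inv_eq_iff_eq_mul.1 (hbL l hl)⟩
  have hCx : ∀ c ∈ C, x * c * x⁻¹ ∈ C := by
    rintro c ⟨hc, hc'⟩
    refine ⟨Pb_nE H H.xP hc, ?_⟩
    show x * c * x⁻¹ ∈ centralizer (L : Set Y)
    rw [mem_centralizer_iff]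
    intro l hl
    -- `x⁻¹ l x ∈ L`
    have hxn : x ∈ normalizer (L : Set Y) := mem_normalizer_fintype hx
    have h1 : x⁻¹ * l * x ∈ L := (Subgroup.mem_normalizer_iff''.1 hxn l).1 hl
    have h2 := mem_centralizer_iff.1 hc' _ h1
    calc l * (x * c * x⁻¹) = x * (x⁻¹ * l * x * c) * x⁻¹ := by group
      _ = x * c * x⁻¹ * l := by rw [h2]; group
  have htC : t ∉ C := by
    rintro ⟨-, h⟩
    apply hnle
    apply Tb_x H _ hx
    exact le_Tb H hL (fun l hl => mem_centralizer_iff.1 h l hl) hT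
  have hbR : ∃ r ∈ C ⊓ R, r ≠ 1 := by
    rcases (mem_E5 H).1 hbE with h | h
    · exact ⟨b, ⟨hbC, h⟩, hb1⟩
    · refine ⟨b * (x * b * x⁻¹), ⟨mul_mem hbC (hCx b hbC), ?_⟩, ?_⟩
      · show b * (x * b * x⁻¹) ∈ R
        have e : b * (x * b * x⁻¹) = t * b * (x * (t * b) * x⁻¹) := by
          have h1 : b * t = t * b := E5_comm H _ hbE _ (t_mem_E5 H)
          calc b * (x * b * x⁻¹) = t * (t * b) * (x * b * x⁻¹) := by rw [t_t H]
            _ = t * (b * t) * (x * b * x⁻¹) := by rw [h1]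
            _ = t * b * (t * x * b * x⁻¹) := by group
            _ = t * b * (x * (t * b) * x⁻¹) := by rw [tx H]; group
        rw [e]
        exact mul_mem h (H.nR x H.xP _ h)
      · intro h1
        have h2 : x * b * x⁻¹ = b := by
          rw [mul_eq_one_iff_inv_eq] at h1
          rw [← h1]
          exact inv_eq_of_mul_eq_one_left (E5_sq H b hbE)
        have h3 : x * (t * b) = t * b * x := by
          rw [mul_inv_eq_iff_eq_mul] at h2
          rw [← mul_assoc, ← tx H, mul_assoc, h2, mul_assoc]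
        have h4 := H.cx _ h h3
        apply htC
        have h5 : b = t := by
          rw [← t_t H b, h4, mul_one]
        rw [← h5]
        exact hbC
  have hCR : C ⊓ R = R := xinv_R H inf_le_right
    (fun w hw => ⟨hCx w hw.1, H.nR x H.xP w hw.2⟩) hbR
  have hLR : ∀ l ∈ L, ∀ r ∈ R, l * r = r * l := by
    intro l hl r hr
    rw [← hCR] at hr
    exact mem_centralizer_iff.1 hr.1.2 l hl
  have hLM : L ≤ M t R := fun l hl => ⟨mem_centralizer_iff.2 fun r hr => (hLR l hl r hr).symm, hLN hl⟩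
  -- the values of `δ` on `L`
  let R1 : Subgroup Y := ((L.subgroupOf (M t R)).map (delta H)).map R.subtype
  have hR1 : ∀ y, y ∈ R1 ↔ ∃ l ∈ L, t * (l * t * l⁻¹) = y := by
    intro y
    constructor
    · rintro ⟨_, ⟨l, hl, rfl⟩, rfl⟩
      exact ⟨l, hl, rfl⟩
    · rintro ⟨l, hl, rfl⟩
      exact ⟨_, ⟨⟨l, hLM hl⟩, hl, rfl⟩, rfl⟩
  have h1 : R1 = R := by
    apply xinv_R H
    · rintro _ ⟨r, -, rfl⟩
      exact r.2
    · intro w hw
      obtain ⟨l, hl, rfl⟩ := (hR1 w).1 hw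
      refine (hR1 _).2 ⟨x * l * x⁻¹, hx l hl, ?_⟩
      have h2 := tx H
      have h3 : x⁻¹ * t = t * x⁻¹ := by
        rw [inv_mul_eq_iff_eq_mul, ← mul_assoc, ← h2]
        group
      calc t * (x * l * x⁻¹ * t * (x * l * x⁻¹)⁻¹) = t * x * (l * (x⁻¹ * t * x) * l⁻¹) * x⁻¹ := by group
        _ = x * t * (l * (t * x⁻¹ * x) * l⁻¹) * x⁻¹ := by rw [h2, h3]
        _ = x * (t * (l * t * l⁻¹)) * x⁻¹ := by group
    · by_contra hcon
      push Not at hcon
      apply hnle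
      intro l hl
      have h2 := hcon _ ((hR1 _).2 ⟨l, hl, rfl⟩)
      apply M_ct H (hLM hl)
      have h3 : l * t * l⁻¹ = t := by
        rw [← t_t H (l * t * l⁻¹), h2, mul_one]
      exact mul_inv_eq_iff_eq_mul.1 h3
  intro r hr
  rw [← h1] at hr
  obtain ⟨l, hl, hl'⟩ := (hR1 r).1 hr
  exact ⟨l, hLR l hl, by rw [← hl', t_t H]⟩

/-- a group of order `10240` has a normal 2-subgroup of order more than 32 -/
theorem exists_normal {N : Type*} [Group N] (h : Nat.card N = 10240) :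
    ∃ L : Subgroup N, L.Normal ∧ IsPGroup 2 ↥L ∧ 32 < Nat.card ↥L := by
  have : Fact (Nat.Prime 2) := ⟨Nat.prime_two⟩
  have : Finite N := Nat.finite_of_card_ne_zero (by rw [h]; norm_num)
  obtain ⟨S⟩ : Nonempty (Sylow 2 N) := inferInstance
  have h1 : ¬ 2 ∣ (S : Subgroup N).index := S.not_dvd_index
  have h2 := (S : Subgroup N).card_mul_index
  have h3 : (S : Subgroup N).index ∣ 5 := by
    have h4 : (S : Subgroup N).index ∣ 2 ^ 11 * 5 := by
      rw [show 2 ^ 11 * 5 = 10240 by norm_num, ← h, ← h2]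
      exact Dvd.intro_left _ rfl
    apply Nat.Coprime.dvd_of_dvd_mul_left _ h4
    exact Nat.Coprime.pow_right _ ((Nat.Prime.coprime_iff_not_dvd Nat.prime_two).2 h1).symm
  have h4 : (S : Subgroup N).index ≤ 5 := Nat.le_of_dvd (by norm_num) h3
  refine ⟨(S : Subgroup N).normalCore, inferInstance, S.isPGroup'.to_le (Subgroup.normalCore_le _), ?_⟩
  have h5 : (S : Subgroup N).normalCore.index ≤ 120 := by
    rw [Subgroup.normalCore_eq_ker, Subgroup.index_ker]
    have h6 : Nat.card (Equiv.Perm (N ⧸ (S : Subgroup N))) ≤ 120 := by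
      rw [Nat.card_perm]
      exact Nat.le_of_dvd (by norm_num) (Nat.factorial_dvd_factorial h4)
    exact (Subgroup.card_le_card_group _).trans h6
  have h6 := (S : Subgroup N).normalCore.card_mul_index
  rw [h] at h6
  by_contra h7
  have h8 : Nat.card ↥((S : Subgroup N).normalCore) * (S : Subgroup N).normalCore.index ≤ 32 * 120 :=
    Nat.mul_le_mul (by omega) h5
  omega

/-- **`|N_Y(E5)| = 10240` is impossible** -/
theorem false_of_card (h : Nat.card ↥(normalizer (E5 t R : Set Y)) = 10240) : False := by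
  have := H.fin
  obtain ⟨L, hLn, hL, h32⟩ := exists_normal H h
  apply false_of_HS H
  have hnor : ∀ y ∈ normalizer (E5 t R : Set Y), ∀ l ∈ L.map (normalizer (E5 t R : Set Y)).subtype,
      y * l * y⁻¹ ∈ L.map (normalizer (E5 t R : Set Y)).subtype := by
    rintro y hy _ ⟨l, hl, rfl⟩
    exact ⟨⟨y, hy⟩ * l * ⟨y, hy⟩⁻¹, hLn.conj_mem l hl ⟨y, hy⟩, rfl⟩
  have hx : x ∈ normalizer (E5 t R : Set Y) := mem_normalizer_fintype fun e he => Pb_nE H H.xP he
  have hT : Tb t s R ≤ normalizer (E5 t R : Set Y) := by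
    refine sup_le (sup_le ?_ ?_) ?_
    · exact (Subgroup.zpowers_le.2 (t_mem_E5 H)).trans Subgroup.le_normalizer
    · exact (R_le_E5 H).trans Subgroup.le_normalizer
    · rw [Subgroup.zpowers_le]
      exact mem_normalizer_fintype fun e he => Pb_nE H H.sP he
  apply HS_of_normal H (L := L.map (normalizer (E5 t R : Set Y)).subtype)
  · exact hL.map _
  · exact fun c hc l hl => hnor c (hT hc) l hl
  · exact fun l hl => hnor x hx l hl
  · rintro _ ⟨l, -, rfl⟩
    exact l.2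
  · rw [Subgroup.card_map_of_injective (Subgroup.subtype_injective _)]
    exact h32

end Main2

end Cfsg.Agent.OddHalf.D7Tits.YSixteen

end

-- merged: Cfsg.Agent.OddHalf.D7Tits.YSix
section

/-!
# `K = ²F₄(2)'`: the case of 6 conjugates of `t` in `E5` (helper961; text: helper903, ODD #15617, 4.3)
-/

set_option autoImplicit false
set_option linter.unusedSectionVars false

namespace Cfsg.Agent.OddHalf.D7Tits.YSix

open Subgroup YBase YSixteen

theorem card_mul_le {G : Type*} [Group G] [Finite G] (A B : Subgroup G) :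
    Nat.card ↥A * Nat.card ↥B ≤ Nat.card ↥(A ⊔ B : Subgroup G) * Nat.card ↥(B ⊓ A : Subgroup G) := by
  have h1 : A.relIndex B ≤ A.relIndex (A ⊔ B) :=
    Subgroup.relIndex_le_of_le_right le_sup_right fun h => by
      have h0 : A.relIndex (A ⊔ B) ∣ Nat.card ↥(A ⊔ B : Subgroup G) := Subgroup.relIndex_dvd_card _ _
      rw [h, Nat.zero_dvd] at h0
      exact Nat.card_pos.ne' h0
  have h2 : Nat.card ↥(B ⊓ A : Subgroup G) * A.relIndex B = Nat.card ↥B := by
    have := Subgroup.relIndex_mul_relIndex ⊥ (B ⊓ A) B bot_le inf_le_left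
    rwa [Subgroup.relIndex_bot_left, Subgroup.relIndex_bot_left, Subgroup.inf_relIndex_left] at this
  have h3 : Nat.card ↥A * A.relIndex (A ⊔ B) = Nat.card ↥(A ⊔ B : Subgroup G) := by
    have := Subgroup.relIndex_mul_relIndex ⊥ A (A ⊔ B) bot_le le_sup_left
    rwa [Subgroup.relIndex_bot_left, Subgroup.relIndex_bot_left] at this
  calc Nat.card ↥A * Nat.card ↥B = Nat.card ↥A * (Nat.card ↥(B ⊓ A : Subgroup G) * A.relIndex B) := by rw [h2]
    _ ≤ Nat.card ↥A * (Nat.card ↥(B ⊓ A : Subgroup G) * A.relIndex (A ⊔ B)) :=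
      Nat.mul_le_mul le_rfl (Nat.mul_le_mul le_rfl h1)
    _ = Nat.card ↥A * A.relIndex (A ⊔ B) * Nat.card ↥(B ⊓ A : Subgroup G) := by ring
    _ = _ := by rw [h3]

/-- `N_Y(E5)` -/
abbrev N5 {Y : Type*} [Group Y] (t : Y) (R : Subgroup Y) : Subgroup Y := normalizer (E5 t R : Set Y)

/-- the conjugates of `t` under `N_Y(E5)` -/
def Om {Y : Type*} [Group Y] (t : Y) (R : Subgroup Y) : Set Y := {w | ∃ y ∈ N5 t R, y * t * y⁻¹ = w}

section Main

variable {Y Θ : Type*} [Group Y] [CommGroup Θ] {ρ : Y →* MulAut Θ} {t x s r0 : Y} {R Pb : Subgroup Y} {z n : Θ}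
  (H : YH ρ t x s r0 R Pb z n)

include H

theorem Pb_N5 : Pb ≤ N5 t R := fun p hp => by
  have := H.fin
  exact mem_normalizer_fintype fun e he => Pb_nE H hp he

theorem E5_N5 : E5 t R ≤ N5 t R := Subgroup.le_normalizer

theorem Ct_N5 : (centralizer {t} : Subgroup Y) ≤ N5 t R := by
  intro y hy
  rcases H.cent y (mem_centralizer_singleton_iff.1 hy) with h | h
  · exact Pb_N5 H h
  · rw [← t_t H y]
    exact mul_mem (E5_N5 H (t_mem_E5 H)) (Pb_N5 H h)

theorem Tb_N5 : Tb t s R ≤ N5 t R := fun c hc =>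
  Ct_N5 H (mem_centralizer_singleton_iff.2 (Tb_comm H c hc))

/-- `|N_Y(E5)| = 640 |t^N_Y(E5)|` -/
theorem card_N5 : Nat.card ↥(N5 t R) = 640 * (Om t R).ncard := by
  have := H.fin
  set K : Subgroup ↥(N5 t R) := (centralizer {t} : Subgroup Y).subgroupOf (N5 t R) with hK
  have hKc : Nat.card ↥K = 640 := by
    rw [← card_Ct H, ← Subgroup.card_map_of_injective (K := K) (N5 t R).subtype_injective]
    have : K.map (N5 t R).subtype = (centralizer {t} : Subgroup Y) := by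
      rw [hK, Subgroup.subgroupOf_map_subtype]
      exact inf_eq_left.2 (Ct_N5 H)
    rw [this]
  have hKm : ∀ y : ↥(N5 t R), y ∈ K ↔ (y : Y) * t = t * y := fun y => mem_centralizer_singleton_iff
  let f : ↥(N5 t R) ⧸ K → ↥(Om t R) := Quotient.lift (fun y : ↥(N5 t R) => (⟨(y : Y) * t * (y : Y)⁻¹, y, y.2, rfl⟩ : ↥(Om t R)))
    (by
      intro a b hab
      have h1 : a⁻¹ * b ∈ K := QuotientGroup.leftRel_apply.1 hab
      have h2 := (hKm _).1 h1
      apply Subtype.ext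
      show (a : Y) * t * (a : Y)⁻¹ = b * t * (b : Y)⁻¹
      have h3 : (a : Y)⁻¹ * b * t = t * ((a : Y)⁻¹ * b) := h2
      calc (a : Y) * t * (a : Y)⁻¹ = a * (t * ((a : Y)⁻¹ * b)) * (b : Y)⁻¹ := by group
        _ = b * t * (b : Y)⁻¹ := by rw [← h3]; group)
  have hf : Function.Bijective f := by
    constructor
    · intro a b
      refine Quotient.inductionOn₂ a b fun a b h => ?_
      have h1 : (a : Y) * t * (a : Y)⁻¹ = b * t * (b : Y)⁻¹ := congrArg Subtype.val h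
      refine Quotient.sound (QuotientGroup.leftRel_apply.2 ((hKm _).2 ?_))
      show (a : Y)⁻¹ * b * t = t * ((a : Y)⁻¹ * b)
      calc (a : Y)⁻¹ * b * t = (a : Y)⁻¹ * (b * t * (b : Y)⁻¹) * b := by group
        _ = t * ((a : Y)⁻¹ * b) := by rw [← h1]; group
    · rintro ⟨w, y, hy, rfl⟩
      exact ⟨Quotient.mk _ ⟨y, hy⟩, rfl⟩
  rw [Subgroup.card_eq_card_quotient_mul_card_subgroup K, hKc, Nat.card_congr (Equiv.ofBijective f hf), mul_comm]
  rfl

/-! ### the sign on `V` -/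

/-- the action of `X` on `V` -/
def actX (X : Subgroup Y) (hX : ∀ y ∈ X, ∀ v ∈ V ρ R, ρ y v ∈ V ρ R) : ↥X →* Equiv.Perm ↥(V ρ R) where
  toFun y :=
    { toFun := fun v => ⟨ρ (y : Y) v, hX y y.2 v v.2⟩
      invFun := fun v => ⟨ρ (y : Y)⁻¹ v, hX _ (inv_mem y.2) v v.2⟩
      left_inv := by
        intro v
        apply Subtype.ext
        show ρ (y : Y)⁻¹ (ρ (y : Y) v) = v
        rw [ρ_ρ, inv_mul_cancel, map_one]
        rfl
      right_inv := by
        intro v
        apply Subtype.ext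
        show ρ (y : Y) (ρ (y : Y)⁻¹ v) = v
        rw [ρ_ρ, mul_inv_cancel, map_one]
        rfl }
  map_one' := by
    apply Equiv.ext
    intro v
    apply Subtype.ext
    show ρ (1 : Y) v = v
    rw [map_one]
    rfl
  map_mul' := by
    intro y y'
    apply Equiv.ext
    intro v
    apply Subtype.ext
    show ρ ((y : Y) * y') v = ρ (y : Y) (ρ (y' : Y) v)
    rw [ρ_ρ]

/-- if `X` acts on `V`, the sign gives a homomorphism `μ` with `μ t ≠ 1` -/
theorem exists_mu (X : Subgroup Y) (hX : ∀ y ∈ X, ∀ v ∈ V ρ R, ρ y v ∈ V ρ R) (ht : t ∈ X) :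
    ∃ μ : ↥X →* Multiplicative (ZMod 2), μ ⟨t, ht⟩ ≠ 1 := by
  classical
  have := H.finΘ
  have : Fintype ↥(V ρ R) := Fintype.ofFinite _
  obtain ⟨f, hf⟩ := exists_sg
  refine ⟨f.comp (Equiv.Perm.sign.comp (actX X hX)), fun h1 => hf ?_⟩
  have h2 : actX X hX ⟨t, ht⟩ = Equiv.swap ⟨n, n_V H⟩ ⟨n * z, mul_mem (n_V H) (z_V H)⟩ := by
    apply Equiv.ext
    rintro ⟨v, hv⟩
    apply Subtype.ext
    show ρ t v = _
    rcases (mem_V H).1 hv with rfl | rfl | rfl | rfl
    · rw [Equiv.swap_apply_of_ne_of_ne, map_one]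
      · intro h
        exact n_ne H (congrArg Subtype.val h).symm
      · intro h
        have h3 : (1 : Θ) = n * z := congrArg Subtype.val h
        rw [eq_comm, mul_eq_one_iff_eq_inv, two' H] at h3
        exact n_ne_z H h3
    · rw [Equiv.swap_apply_of_ne_of_ne, H.zt]
      · intro h
        exact n_ne_z H (congrArg Subtype.val h).symm
      · intro h
        have h3 : v = n * v := congrArg Subtype.val h
        exact n_ne H (mul_eq_right.1 h3.symm)
    · rw [Equiv.swap_apply_left, H.nt]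
    · rw [Equiv.swap_apply_right, map_mul, H.nt, H.zt, mul_assoc, H.two, mul_one]
  have h3 : Equiv.Perm.sign (actX X hX ⟨t, ht⟩) = -1 := by
    rw [h2]
    apply Equiv.Perm.sign_swap
    intro h
    exact nz_ne H (congrArg Subtype.val h).symm
  rw [← h3]
  exact h1

/-! ### `M ≤ E5` in this case -/

/-- if `M` is not `E5`, all `t r` are conjugate to `t` -/
theorem HS_of_mem {τ : Y} (h : τ ∈ M t R) (hn : τ ∉ E5 t R) : HS t R := by
  have := H.fin
  let R1 : Subgroup Y := (delta H).range.map R.subtype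
  have hR1 : ∀ y, y ∈ R1 ↔ ∃ l ∈ M t R, t * (l * t * l⁻¹) = y := by
    intro y
    constructor
    · rintro ⟨_, ⟨l, rfl⟩, rfl⟩
      exact ⟨l, l.2, rfl⟩
    · rintro ⟨l, hl, rfl⟩
      exact ⟨_, ⟨⟨l, hl⟩, rfl⟩, rfl⟩
  have h1 : R1 = R := by
    apply xinv_R H
    · rintro _ ⟨r, -, rfl⟩
      exact r.2
    · intro w hw
      obtain ⟨l, hl, rfl⟩ := (hR1 w).1 hw
      refine (hR1 _).2 ⟨x * l * x⁻¹, Pb_M H H.xP hl, ?_⟩
      have h2 := tx H
      have h3 : x⁻¹ * t = t * x⁻¹ := by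
        rw [inv_mul_eq_iff_eq_mul, ← mul_assoc, ← h2]
        group
      calc t * (x * l * x⁻¹ * t * (x * l * x⁻¹)⁻¹) = t * x * (l * (x⁻¹ * t * x) * l⁻¹) * x⁻¹ := by group
        _ = x * t * (l * (t * x⁻¹ * x) * l⁻¹) * x⁻¹ := by rw [h2, h3]
        _ = x * (t * (l * t * l⁻¹)) * x⁻¹ := by group
    · refine ⟨_, (hR1 _).2 ⟨τ, h, rfl⟩, fun h2 => hn ?_⟩
      apply M_ct H h
      have h3 : τ * t * τ⁻¹ = t := by
        rw [← t_t H (τ * t * τ⁻¹), h2, mul_one]
      exact mul_inv_eq_iff_eq_mul.1 h3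
  intro r hr
  rw [← h1] at hr
  obtain ⟨l, hl, hl'⟩ := (hR1 r).1 hr
  exact ⟨l, M_R H hl, by rw [← hl', t_t H]⟩

theorem M_le_E5 (h6 : Nat.card ↥(N5 t R) = 3840) : M t R ≤ E5 t R := by
  have := H.fin
  intro τ hτ
  by_contra hn
  have h1 := card_M H (HS_of_mem H hτ hn)
  have h2 : M t R ≤ N5 t R := inf_le_right
  have h3 := Subgroup.card_dvd_of_le h2
  rw [h1, h6] at h3
  norm_num at h3

/-! ### centralisers of involutions of `Pb` -/

theorem xs_R {m l : ℕ} (h : x ^ m * s ^ l ∈ R) : m % 5 = 0 ∧ l % 4 = 0 := by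
  have h1 : x ^ m ∈ Tb t s R := by
    have e : x ^ m = x ^ m * s ^ l * (s ^ l)⁻¹ := by group
    rw [e]
    exact mul_mem (R_Tb H h) (inv_mem (pow_mem (s_Tb H) l))
  have h2 := x_notTb H h1
  refine ⟨h2, ?_⟩
  rw [x_mod H, h2, pow_zero, one_mul] at h
  exact s_pow H (R_le_E5 H h)

theorem sk_xp (k m : ℕ) : s ^ k * x ^ m = x ^ (2 ^ k * m) * s ^ k := by
  induction m with
  | zero => simp
  | succ m ih =>
    calc s ^ k * x ^ (m + 1) = s ^ k * x ^ m * x := by rw [pow_succ, mul_assoc]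
      _ = x ^ (2 ^ k * m) * (s ^ k * x) := by rw [ih, mul_assoc]
      _ = x ^ (2 ^ k * m) * x ^ (2 ^ k) * s ^ k := by rw [sp_x H, mul_assoc]
      _ = x ^ (2 ^ k * (m + 1)) * s ^ k := by rw [← pow_add, mul_add, mul_one]

/-- no involution of `Pb` acts on `E5` as a transvection -/
theorem no_transv {p : Y} (hp : p ∈ Pb) (h2 : p * p = 1) :
    Nat.card ↥(E5 t R ⊓ centralizer {p} : Subgroup Y) ≠ 16 := by
  have := H.fin
  obtain ⟨r, hr, j, k, hpe⟩ := H.gen p hp
  have hq : ∀ a ∈ E5 t R, p * a = a * p → x ^ j * s ^ k * a = a * (x ^ j * s ^ k) := by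
    intro a ha h
    rw [hpe] at h
    have h3 := E5_comm H _ (R_le_E5 H hr) _ ha
    have h4 : r * (x ^ j * s ^ k * a) = r * (a * (x ^ j * s ^ k)) := by
      calc r * (x ^ j * s ^ k * a) = r * x ^ j * s ^ k * a := by group
        _ = a * (r * x ^ j * s ^ k) := h
        _ = a * r * (x ^ j * s ^ k) := by group
        _ = r * (a * (x ^ j * s ^ k)) := by rw [← h3]; group
    exact mul_left_cancel h4
  have hqP : x ^ j * s ^ k ∈ Pb := mul_mem (pow_mem H.xP j) (pow_mem H.sP k)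
  -- `q² ∈ R`
  have hq2 : x ^ j * s ^ k * (x ^ j * s ^ k) ∈ R := by
    have e : x ^ j * s ^ k * (x ^ j * s ^ k) = (x ^ j * s ^ k * r * (x ^ j * s ^ k)⁻¹)⁻¹ * r⁻¹ * (p * p) := by
      rw [hpe]
      group
    rw [e, h2, mul_one]
    exact mul_mem (inv_mem (H.nR _ hqP r hr)) (inv_mem hr)
  have e2 : x ^ j * s ^ k * (x ^ j * s ^ k) = x ^ (j + 2 ^ k * j) * s ^ (k + k) := by
    calc x ^ j * s ^ k * (x ^ j * s ^ k) = x ^ j * (s ^ k * x ^ j) * s ^ k := by group
      _ = x ^ j * (x ^ (2 ^ k * j) * s ^ k) * s ^ k := by rw [sk_xp H]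
      _ = _ := by rw [pow_add, pow_add]; group
  rw [e2] at hq2
  obtain ⟨h3, h4⟩ := xs_R H hq2
  intro h16
  have hk : k % 4 = 0 ∨ k % 4 = 2 := by omega
  rcases hk with hk | hk
  · -- `q = 1`
    have h5 : 2 ^ k % 5 = 1 := by
      have h6 : 2 ^ k % 5 = 2 ^ (k % 4) % 5 := by
        conv_lhs => rw [← Nat.div_add_mod k 4, pow_add, pow_mul, Nat.mul_mod, Nat.pow_mod]
        norm_num
      rw [h6, hk]
      norm_num
    have h7 : j % 5 = 0 := by
      have h8 : (j + 2 ^ k * j) % 5 = (j + 1 * j) % 5 := by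
        rw [Nat.add_mod, Nat.mul_mod, h5, Nat.add_mod j (1 * j), Nat.mul_mod 1 j]
      rw [h8] at h3
      omega
    have hpR : p ∈ E5 t R := by
      rw [hpe, x_mod H, h7, s_mod H, hk, pow_zero, pow_zero, mul_one, mul_one]
      exact R_le_E5 H hr
    have h9 : (E5 t R ⊓ centralizer {p} : Subgroup Y) = E5 t R := by
      apply inf_eq_left.2
      intro a ha
      exact mem_centralizer_singleton_iff.2 (E5_comm H a ha p hpR)
    rw [h9, card_E5 H] at h16
    omega
  · -- `q = x^i s² x^-i`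
    have hsk : s ^ k = s ^ 2 := by rw [s_mod H, hk]
    obtain ⟨i, hi⟩ : ∃ i : ℕ, i = 3 * j := ⟨_, rfl⟩
    have e3 : x ^ i * s ^ 2 = x ^ j * s ^ 2 * x ^ i := by
      have h5 := sk_xp H 2 i
      have h6 : j + 2 ^ 2 * i ≡ i [MOD 5] := by
        unfold Nat.ModEq
        omega
      rw [mul_assoc, h5, ← mul_assoc, ← pow_add, x_mod H (j + 2 ^ 2 * i), h6, ← x_mod H]
    have hC : Nat.card ↥((E5 t R ⊓ centralizer {p} : Subgroup Y).map (MulAut.conj (x ^ i)⁻¹).toMonoidHom) ≤ 8 := by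
      apply card_C8 H
      · rintro _ ⟨a, ha, rfl⟩
        show (x ^ i)⁻¹ * a * (x ^ i)⁻¹⁻¹ ∈ E5 t R
        exact Pb_nE H (inv_mem (pow_mem H.xP i)) ha.1
      · rintro _ ⟨a, ha, rfl⟩
        show s ^ 2 * ((x ^ i)⁻¹ * a * (x ^ i)⁻¹⁻¹) = (x ^ i)⁻¹ * a * (x ^ i)⁻¹⁻¹ * s ^ 2
        have h5 := hq a ha.1 (mem_centralizer_singleton_iff.1 ha.2).symm
        rw [hsk] at h5
        have e4 : s ^ 2 * (x ^ i)⁻¹ = (x ^ i)⁻¹ * (x ^ j * s ^ 2) := by
          rw [eq_inv_mul_iff_mul_eq, ← mul_assoc, e3]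
          group
        rw [inv_inv]
        calc s ^ 2 * ((x ^ i)⁻¹ * a * x ^ i) = s ^ 2 * (x ^ i)⁻¹ * a * x ^ i := by group
          _ = (x ^ i)⁻¹ * (x ^ j * s ^ 2 * a) * x ^ i := by rw [e4]; group
          _ = (x ^ i)⁻¹ * a * (x ^ j * s ^ 2 * x ^ i) := by rw [h5]; group
          _ = (x ^ i)⁻¹ * a * x ^ i * s ^ 2 := by rw [← e3]; group
    rw [Subgroup.card_map_of_injective (MulAut.conj (x ^ i)⁻¹).injective, h16] at hC
    omega

/-! ### `R` is normal in `N_Y(E5)` -/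

theorem x_r0 {i j : ℕ} (hi : i < 5) (hj : j < 5) (hij : j ≤ i) (h : x ^ i * r0 * (x ^ i)⁻¹ = x ^ j * r0 * (x ^ j)⁻¹) :
    i = j := by
  have h1 : x ^ (i - j) * r0 = r0 * x ^ (i - j) := by
    rw [pow_sub x hij]
    calc x ^ i * (x ^ j)⁻¹ * r0 = (x ^ j)⁻¹ * (x ^ i * r0 * (x ^ i)⁻¹) * x ^ i := by
          have e : x ^ i * (x ^ j)⁻¹ = (x ^ j)⁻¹ * x ^ i := by
            rw [mul_inv_eq_iff_eq_mul, mul_assoc, ← pow_add, add_comm, pow_add]
            group
          rw [e]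
          group
      _ = r0 * ((x ^ j)⁻¹ * x ^ i) := by rw [h]; group
      _ = r0 * (x ^ i * (x ^ j)⁻¹) := by
          have e : x ^ i * (x ^ j)⁻¹ = (x ^ j)⁻¹ * x ^ i := by
            rw [mul_inv_eq_iff_eq_mul, mul_assoc, ← pow_add, add_comm, pow_add]
            group
          rw [e]
  by_contra hne
  have h2 : i - j < 5 := by omega
  have h3 : i - j ≠ 0 := by omega
  generalize i - j = l at h1 h2 h3
  have key : ∀ q : ℕ, (l * q) % 5 = 1 → False := by
    intro q hq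
    have h4 : Commute (x ^ l) r0 := h1
    have h5 := h4.pow_left q
    rw [← pow_mul, x_mod H, hq, pow_one] at h5
    exact H.r01 (H.cx r0 H.r0R h5)
  interval_cases l
  · exact h3 rfl
  · exact key 1 rfl
  · exact key 3 rfl
  · exact key 2 rfl
  · exact key 4 rfl

theorem Om_sub (h6 : Nat.card ↥(N5 t R) = 3840) (hh : ∃ y ∈ N5 t R, y * t * y⁻¹ = t * r0) :
    ∀ w ∈ Om t R, t * w ∈ R := by
  have := H.fin
  obtain ⟨y, hy, hyt⟩ := hh
  have h1 : (Om t R).ncard = 6 := by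
    have := card_N5 H
    rw [h6] at this
    omega
  -- the six elements
  let f : Fin 5 → Y := fun i => t * (x ^ (i : ℕ) * r0 * (x ^ (i : ℕ))⁻¹)
  have hfR : ∀ i, t * f i ∈ R := by
    intro i
    show t * (t * (x ^ (i : ℕ) * r0 * (x ^ (i : ℕ))⁻¹)) ∈ R
    rw [t_t H]
    exact H.nR _ (pow_mem H.xP _) _ H.r0R
  have hfi : Function.Injective f := by
    intro i j hij
    have h2 : x ^ (i : ℕ) * r0 * (x ^ (i : ℕ))⁻¹ = x ^ (j : ℕ) * r0 * (x ^ (j : ℕ))⁻¹ := mul_left_cancel hij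
    apply Fin.ext
    rcases le_total (j : ℕ) (i : ℕ) with h3 | h3
    · exact x_r0 H i.2 j.2 h3 h2
    · exact (x_r0 H j.2 i.2 h3 h2.symm).symm
  have htf : t ∉ Set.range f := by
    rintro ⟨i, hi⟩
    have h2 : x ^ (i : ℕ) * r0 * (x ^ (i : ℕ))⁻¹ = 1 := by
      have : t * (x ^ (i : ℕ) * r0 * (x ^ (i : ℕ))⁻¹) = t * 1 := by rw [mul_one]; exact hi
      exact mul_left_cancel this
    rw [mul_inv_eq_one] at h2
    exact H.r01 (mul_eq_left.1 h2)
  have hsub : insert t (Set.range f) ⊆ Om t R := by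
    rintro w (rfl | ⟨i, rfl⟩)
    · exact ⟨1, one_mem _, by group⟩
    · refine ⟨x ^ (i : ℕ) * y, mul_mem (Pb_N5 H (pow_mem H.xP _)) hy, ?_⟩
      have h2 := H.comm _ (pow_mem H.xP (i : ℕ))
      calc x ^ (i : ℕ) * y * t * (x ^ (i : ℕ) * y)⁻¹ = x ^ (i : ℕ) * (y * t * y⁻¹) * (x ^ (i : ℕ))⁻¹ := by group
        _ = x ^ (i : ℕ) * t * r0 * (x ^ (i : ℕ))⁻¹ := by rw [hyt]; group
        _ = t * (x ^ (i : ℕ) * r0 * (x ^ (i : ℕ))⁻¹) := by rw [← h2]; group
  have h2 : (insert t (Set.range f)).ncard = 6 := by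
    rw [Set.ncard_insert_of_notMem htf, ← Set.image_univ, Set.ncard_image_of_injective _ hfi, Set.ncard_univ,
      Nat.card_eq_fintype_card, Fintype.card_fin]
  have h3 : insert t (Set.range f) = Om t R := Set.eq_of_subset_of_ncard_le hsub (by rw [h1, h2]) (Set.toFinite _)
  intro w hw
  rw [← h3] at hw
  rcases hw with rfl | ⟨i, rfl⟩
  · rw [H.tt]
    exact one_mem R
  · exact hfR i

theorem N5_R (h6 : Nat.card ↥(N5 t R) = 3840) (hh : ∃ y ∈ N5 t R, y * t * y⁻¹ = t * r0) {g : Y}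
    (hg : g ∈ N5 t R) : ∀ r ∈ R, g * r * g⁻¹ ∈ R := by
  have hOm := Om_sub H h6 hh
  obtain ⟨y, hy, hyt⟩ := hh
  have hpair : ∀ w ∈ Om t R, ∀ w' ∈ Om t R, w * w' ∈ R := by
    intro w hw w' hw'
    have h1 := hOm w hw
    have h2 := hOm w' hw'
    have e : w * w' = t * w * (t * w') := by
      have h3 : t * w * t = t * (t * w) := by rw [← tR H _ h1]
      calc w * w' = t * (t * w) * w' := by rw [t_t H]
        _ = t * w * t * w' := by rw [h3]
        _ = t * w * (t * w') := by group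
    rw [e]
    exact mul_mem h1 h2
  let R' : Subgroup Y :=
    { carrier := {r | r ∈ R ∧ ∀ j : ℕ, g * (x ^ j * r * (x ^ j)⁻¹) * g⁻¹ ∈ R}
      one_mem' := ⟨one_mem _, fun j => by
        have : g * (x ^ j * 1 * (x ^ j)⁻¹) * g⁻¹ = 1 := by group
        rw [this]
        exact one_mem R⟩
      mul_mem' := by
        rintro a b ⟨ha, ha'⟩ ⟨hb, hb'⟩
        refine ⟨mul_mem ha hb, fun j => ?_⟩
        have : g * (x ^ j * (a * b) * (x ^ j)⁻¹) * g⁻¹ =
            g * (x ^ j * a * (x ^ j)⁻¹) * g⁻¹ * (g * (x ^ j * b * (x ^ j)⁻¹) * g⁻¹) := by group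
        rw [this]
        exact mul_mem (ha' j) (hb' j)
      inv_mem' := by
        rintro a ⟨ha, ha'⟩
        refine ⟨inv_mem ha, fun j => ?_⟩
        have : g * (x ^ j * a⁻¹ * (x ^ j)⁻¹) * g⁻¹ = (g * (x ^ j * a * (x ^ j)⁻¹) * g⁻¹)⁻¹ := by group
        rw [this]
        exact inv_mem (ha' j) }
  have h1 : R' = R := by
    refine xinv_R H (fun w (hw : w ∈ R ∧ _) => hw.1) ?_ ?_
    · rintro w ⟨hw, hw'⟩
      refine ⟨H.nR x H.xP w hw, fun j => ?_⟩
      have e : x ^ j * (x * w * x⁻¹) * (x ^ j)⁻¹ = x ^ (j + 1) * w * (x ^ (j + 1))⁻¹ := by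
        rw [pow_succ]
        group
      rw [e]
      exact hw' (j + 1)
    · refine ⟨r0, ⟨H.r0R, fun j => ?_⟩, H.r01⟩
      have h2 : g * t * g⁻¹ ∈ Om t R := ⟨g, hg, rfl⟩
      have h3 : g * (x ^ j * (t * r0) * (x ^ j)⁻¹) * g⁻¹ ∈ Om t R := by
        refine ⟨g * x ^ j * y, mul_mem (mul_mem hg (Pb_N5 H (pow_mem H.xP j))) hy, ?_⟩
        rw [← hyt]
        group
      have h4 := H.comm _ (pow_mem H.xP j)
      have e : g * (x ^ j * r0 * (x ^ j)⁻¹) * g⁻¹ = g * t * g⁻¹ * (g * (x ^ j * (t * r0) * (x ^ j)⁻¹) * g⁻¹) := by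
        calc g * (x ^ j * r0 * (x ^ j)⁻¹) * g⁻¹ = g * (t * (t * x ^ j) * r0 * (x ^ j)⁻¹) * g⁻¹ := by
              rw [t_t H]
          _ = g * (t * (x ^ j * t) * r0 * (x ^ j)⁻¹) * g⁻¹ := by rw [h4]
          _ = _ := by group
      rw [e]
      exact hpair _ h2 _ h3
  intro r hr
  rw [← h1] at hr
  have h2 := hr.2 0
  have e : g * (x ^ 0 * r * (x ^ 0)⁻¹) * g⁻¹ = g * r * g⁻¹ := by
    rw [pow_zero]
    group
  rwa [e] at h2

/-! ### transvections -/

/-- no conjugate `τ ∈ N_Y(E5)` of `t` acts on `E5` as a transvection -/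
theorem no_tau (h6 : Nat.card ↥(N5 t R) = 3840) (hh : ∃ y ∈ N5 t R, y * t * y⁻¹ = t * r0) {τ : Y}
    (hτ : τ ∈ N5 t R) (τ2 : τ * τ = 1) : Nat.card ↥(E5 t R ⊓ centralizer {τ} : Subgroup Y) ≠ 16 := by
  have := H.fin
  intro h16
  by_cases hB : ∃ y ∈ N5 t R, y * t * y⁻¹ ∈ centralizer {τ}
  · -- a fixed point
    obtain ⟨y, hy, hyc⟩ := hB
    rw [mem_centralizer_singleton_iff] at hyc
    obtain ⟨τ', hτ'⟩ : ∃ τ', τ' = y⁻¹ * τ * y := ⟨_, rfl⟩
    have h1 : τ' * t = t * τ' := by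
      rw [hτ']
      calc y⁻¹ * τ * y * t = y⁻¹ * (τ * (y * t * y⁻¹)) * y := by group
        _ = t * (y⁻¹ * τ * y) := by rw [← hyc]; group
    have h2 : τ' * τ' = 1 := by
      rw [hτ']
      calc y⁻¹ * τ * y * (y⁻¹ * τ * y) = y⁻¹ * (τ * τ) * y := by group
        _ = 1 := by rw [τ2]; group
    have h3 : Nat.card ↥(E5 t R ⊓ centralizer {τ'} : Subgroup Y) = 16 := by
      rw [← h16]
      have e : (E5 t R ⊓ centralizer {τ'} : Subgroup Y) =
          (E5 t R ⊓ centralizer {τ} : Subgroup Y).map (MulAut.conj y⁻¹).toMonoidHom := by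
        ext a
        constructor
        · rintro ⟨ha, ha'⟩
          have ha2 : a * τ' = τ' * a := mem_centralizer_singleton_iff.1 ha'
          refine ⟨y * a * y⁻¹, ⟨(Subgroup.mem_normalizer_iff.1 hy a).1 ha, ?_⟩, ?_⟩
          · show y * a * y⁻¹ ∈ centralizer {τ}
            rw [mem_centralizer_singleton_iff]
            calc y * a * y⁻¹ * τ = y * (a * (y⁻¹ * τ * y)) * y⁻¹ := by group
              _ = y * (y⁻¹ * τ * y * a) * y⁻¹ := by rw [← hτ', ha2]
              _ = τ * (y * a * y⁻¹) := by group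
          · show y⁻¹ * (y * a * y⁻¹) * y⁻¹⁻¹ = a
            group
        · rintro ⟨b, ⟨hb, hb'⟩, rfl⟩
          have hb2 : b * τ = τ * b := mem_centralizer_singleton_iff.1 hb'
          have hE : y⁻¹ * b * y⁻¹⁻¹ ∈ E5 t R := (Subgroup.mem_normalizer_iff.1 (inv_mem hy) b).1 hb
          refine ⟨hE, ?_⟩
          show y⁻¹ * b * y⁻¹⁻¹ ∈ centralizer {τ'}
          rw [mem_centralizer_singleton_iff, hτ']
          calc y⁻¹ * b * y⁻¹⁻¹ * (y⁻¹ * τ * y) = y⁻¹ * (b * τ) * y := by group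
            _ = y⁻¹ * τ * y * (y⁻¹ * b * y⁻¹⁻¹) := by rw [hb2]; group
      rw [e]
      exact Subgroup.card_map_of_injective (MulAut.conj y⁻¹).injective
    rcases H.cent τ' h1 with h4 | h4
    · exact no_transv H h4 h2 h3
    · apply no_transv H h4 _ _
      · calc t * τ' * (t * τ') = t * (τ' * t) * τ' := by group
          _ = t * t * (τ' * τ') := by rw [h1]; group
          _ = 1 := by rw [H.tt, h2, one_mul]
      · rw [← h3]
        have e : (E5 t R ⊓ centralizer {t * τ'} : Subgroup Y) = (E5 t R ⊓ centralizer {τ'} : Subgroup Y) := by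
          ext a
          rw [Subgroup.mem_inf, Subgroup.mem_inf, mem_centralizer_singleton_iff, mem_centralizer_singleton_iff]
          constructor
          · rintro ⟨ha, ha'⟩
            refine ⟨ha, ?_⟩
            have h5 := E5_comm H a ha t (t_mem_E5 H)
            have h6 : t * (a * τ') = t * (τ' * a) := by
              rw [← mul_assoc, ← h5, mul_assoc, ha', mul_assoc]
            exact mul_left_cancel h6
          · rintro ⟨ha, ha'⟩
            refine ⟨ha, ?_⟩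
            have h5 := E5_comm H a ha t (t_mem_E5 H)
            rw [← mul_assoc, h5, mul_assoc, ha', mul_assoc]
        rw [e]
  · -- no fixed point: `τ` centralises `R`
    push Not at hB
    set F : Subgroup ↥(E5 t R) := (centralizer {τ} : Subgroup Y).subgroupOf (E5 t R) with hF
    have hFc : Nat.card ↥F = 16 := by
      rw [← Subgroup.card_map_of_injective (K := F) (E5 t R).subtype_injective, hF, Subgroup.subgroupOf_map_subtype,
        inf_comm]
      exact h16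
    have hFi : F.index = 2 := by
      have h1 := F.card_mul_index
      rw [hFc, card_E5 H] at h1
      omega
    have hFm : ∀ a (ha : a ∈ E5 t R), (⟨a, ha⟩ : ↥(E5 t R)) ∈ F ↔ a ∈ centralizer {τ} := fun a ha => Iff.rfl
    have hprod : ∀ a ∈ E5 t R, ∀ b ∈ E5 t R, a ∉ centralizer {τ} → b ∉ centralizer {τ} → a * b ∈ centralizer {τ} := by
      intro a ha b hb ha' hb'
      have h1 := (Subgroup.mul_mem_iff_of_index_two hFi (a := ⟨a, ha⟩) (b := ⟨b, hb⟩)).2
        ⟨fun h => absurd ((hFm a ha).1 h) ha', fun h => absurd ((hFm b hb).1 h) hb'⟩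
      exact h1
    have hC : R ⊓ centralizer {τ} = R ⊓ centralizer {τ} := rfl
    let R' : Subgroup Y :=
      { carrier := {r | r ∈ R ∧ ∀ j : ℕ, x ^ j * r * (x ^ j)⁻¹ ∈ (centralizer {τ} : Subgroup Y)}
        one_mem' := ⟨one_mem _, fun j => by
          have : x ^ j * 1 * (x ^ j)⁻¹ = 1 := by group
          rw [this]
          exact one_mem _⟩
        mul_mem' := by
          rintro a b ⟨ha, ha'⟩ ⟨hb, hb'⟩
          refine ⟨mul_mem ha hb, fun j => ?_⟩
          have : x ^ j * (a * b) * (x ^ j)⁻¹ = x ^ j * a * (x ^ j)⁻¹ * (x ^ j * b * (x ^ j)⁻¹) := by group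
          rw [this]
          exact mul_mem (ha' j) (hb' j)
        inv_mem' := by
          rintro a ⟨ha, ha'⟩
          refine ⟨inv_mem ha, fun j => ?_⟩
          have : x ^ j * a⁻¹ * (x ^ j)⁻¹ = (x ^ j * a * (x ^ j)⁻¹)⁻¹ := by group
          rw [this]
          exact inv_mem (ha' j) }
    obtain ⟨y, hy, hyt⟩ := hh
    have h1 : R' = R := by
      refine xinv_R H (fun w (hw : w ∈ R ∧ _) => hw.1) ?_ ?_
      · rintro w ⟨hw, hw'⟩
        refine ⟨H.nR x H.xP w hw, fun j => ?_⟩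
        have e : x ^ j * (x * w * x⁻¹) * (x ^ j)⁻¹ = x ^ (j + 1) * w * (x ^ (j + 1))⁻¹ := by
          rw [pow_succ]
          group
        rw [e]
        exact hw' (j + 1)
      · refine ⟨r0, ⟨H.r0R, fun j => ?_⟩, H.r01⟩
        have h2 : t ∉ (centralizer {τ} : Subgroup Y) := by
          have := hB 1 (one_mem _)
          rwa [one_mul, inv_one, mul_one] at this
        have h3 := hB (x ^ j * y) (mul_mem (Pb_N5 H (pow_mem H.xP j)) hy)
        have h4 := H.comm _ (pow_mem H.xP j)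
        have e1 : x ^ j * y * t * (x ^ j * y)⁻¹ = t * (x ^ j * r0 * (x ^ j)⁻¹) := by
          calc x ^ j * y * t * (x ^ j * y)⁻¹ = x ^ j * (y * t * y⁻¹) * (x ^ j)⁻¹ := by group
            _ = x ^ j * t * r0 * (x ^ j)⁻¹ := by rw [hyt]; group
            _ = _ := by rw [← h4]; group
        rw [e1] at h3
        have h5 : t * (x ^ j * r0 * (x ^ j)⁻¹) ∈ E5 t R :=
          mul_mem (t_mem_E5 H) (R_le_E5 H (H.nR _ (pow_mem H.xP j) _ H.r0R))
        have h6 := hprod t (t_mem_E5 H) _ h5 h2 h3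
        rwa [t_t H] at h6
    have h2 : τ ∈ M t R := by
      refine ⟨mem_centralizer_iff.2 fun r hr => ?_, hτ⟩
      rw [← h1] at hr
      have h3 := hr.2 0
      have e : x ^ 0 * r * (x ^ 0)⁻¹ = r := by
        rw [pow_zero]
        group
      rw [e] at h3
      exact mem_centralizer_singleton_iff.1 h3
    have h3 := M_le_E5 H h6 h2
    have h4 : (E5 t R ⊓ centralizer {τ} : Subgroup Y) = E5 t R :=
      inf_eq_left.2 fun a ha => mem_centralizer_singleton_iff.2 (E5_comm H a ha τ h3)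
    rw [h4, card_E5 H] at h16
    omega

/-! ### the end -/

/-- `E5` is the only `Tb`-invariant conjugate of `E5` -/
theorem uniq_E5 (h6 : Nat.card ↥(N5 t R) = 3840) (hh : ∃ y ∈ N5 t R, y * t * y⁻¹ = t * r0) {g : Y}
    (hg : ∀ a ∈ Tb t s R, g⁻¹ * a * g ∈ N5 t R) : g ∈ N5 t R := by
  have := H.fin
  set E' : Subgroup Y := (E5 t R).map (MulAut.conj g).toMonoidHom with hE'
  have hmE' : ∀ y, y ∈ E' ↔ g⁻¹ * y * g ∈ E5 t R := by
    intro y
    constructor
    · rintro ⟨a, ha, rfl⟩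
      show g⁻¹ * (g * a * g⁻¹) * g ∈ E5 t R
      have : g⁻¹ * (g * a * g⁻¹) * g = a := by group
      rw [this]
      exact ha
    · intro h
      refine ⟨_, h, ?_⟩
      show g * (g⁻¹ * y * g) * g⁻¹ = y
      group
  have hcE' : Nat.card ↥E' = 32 := by
    rw [hE', Subgroup.card_map_of_injective (MulAut.conj g).injective, card_E5 H]
  have hE'sq : ∀ a ∈ E', a * a = 1 := by
    rintro _ ⟨a, ha, rfl⟩
    show g * a * g⁻¹ * (g * a * g⁻¹) = 1
    calc g * a * g⁻¹ * (g * a * g⁻¹) = g * (a * a) * g⁻¹ := by group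
      _ = 1 := by rw [E5_sq H a ha]; group
  have hTE' : ∀ c ∈ Tb t s R, ∀ a ∈ E', c * a * c⁻¹ ∈ E' := by
    intro c hc a ha
    rw [hmE'] at ha ⊢
    have h1 := (Subgroup.mem_normalizer_iff.1 (hg c hc) _).1 ha
    have e : g⁻¹ * (c * a * c⁻¹) * g = g⁻¹ * c * g * (g⁻¹ * a * g) * (g⁻¹ * c * g)⁻¹ := by group
    rw [e]
    exact h1
  -- if `E' = E5`, done
  have hend : E' = E5 t R → g ∈ N5 t R := by
    intro h
    apply mem_normalizer_fintype
    intro a ha
    show g * a * g⁻¹ ∈ E5 t R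
    rw [← h, hmE']
    have : g⁻¹ * (g * a * g⁻¹) * g = a := by group
    rw [this]
    exact ha
  by_cases hle : E' ≤ Tb t s R
  · exact hend (E_eq H hle hE'sq (by rw [hcE']))
  exfalso
  have ht : t ∉ E' := by
    intro h
    apply hle
    apply le_Tb H (IsPGroup.of_card (n := 5) (by rw [hcE']; norm_num)) _ hTE'
    intro f hf
    exact comm_of_sq hE'sq f hf t h
  -- `|E' ⊓ Tb| ≥ 16`
  have h1 : 16 ≤ Nat.card ↥(E' ⊓ Tb t s R : Subgroup Y) := by
    have h2 : IsPGroup 2 ↥(Tb t s R ⊔ E') := by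
      apply (Tb_p H).to_sup_of_normal_right' (IsPGroup.of_card (n := 5) (by rw [hcE']; norm_num))
      intro c hc
      exact mem_normalizer_fintype (hTE' c hc)
    have h3 : Nat.card ↥(Tb t s R ⊔ E' : Subgroup Y) ≤ 2 ^ 8 := by
      have h4 : (Tb t s R ⊔ E' : Subgroup Y).map (MulAut.conj g⁻¹).toMonoidHom ≤ N5 t R := by
        rw [Subgroup.map_sup]
        apply sup_le
        · rintro _ ⟨c, hc, rfl⟩
          show g⁻¹ * c * g⁻¹⁻¹ ∈ N5 t R
          rw [inv_inv]
          exact hg c hc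
        · rintro _ ⟨a, ha, rfl⟩
          show g⁻¹ * a * g⁻¹⁻¹ ∈ N5 t R
          rw [inv_inv]
          exact E5_N5 H ((hmE' a).1 ha)
      have h5 := Subgroup.card_dvd_of_le h4
      rw [Subgroup.card_map_of_injective (MulAut.conj g⁻¹).injective, h6] at h5
      obtain ⟨k, hk⟩ := (IsPGroup.iff_card).1 h2
      rw [hk] at h5 ⊢
      by_contra h6
      have h7 : 9 ≤ k := by
        by_contra h8
        exact h6 (Nat.pow_le_pow_right (by norm_num) (by omega))
      have h8 : 2 ^ 9 ∣ 3840 := (pow_dvd_pow 2 h7).trans h5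
      norm_num at h8
    have h4 : Nat.card ↥(Tb t s R) * Nat.card ↥E' ≤
        Nat.card ↥(Tb t s R ⊔ E' : Subgroup Y) * Nat.card ↥(E' ⊓ Tb t s R : Subgroup Y) := card_mul_le _ _
    rw [card_Tb H, hcE'] at h4
    by_contra h5
    have h6 : Nat.card ↥(Tb t s R ⊔ E' : Subgroup Y) * Nat.card ↥(E' ⊓ Tb t s R : Subgroup Y) ≤ 2 ^ 8 * 15 :=
      Nat.mul_le_mul h3 (by omega)
    norm_num at h4 h6
    omega
  -- `C_{E'}(t) = E' ⊓ Tb` has order 16
  have h2 : E' ⊓ centralizer {t} = E' ⊓ Tb t s R := by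
    apply le_antisymm
    · apply le_inf inf_le_left
      apply le_Tb H
      · exact (IsPGroup.of_card (n := 5) (by rw [hcE']; norm_num) : IsPGroup 2 ↥E').to_le inf_le_left
      · exact fun f hf => mem_centralizer_singleton_iff.1 hf.2
      · rintro c hc f ⟨hf1, hf2⟩
        refine ⟨hTE' c hc f hf1, ?_⟩
        have hCt : Tb t s R ≤ centralizer {t} := fun c hc => mem_centralizer_singleton_iff.2 (Tb_comm H c hc)
        have hf3 : f ∈ (centralizer {t} : Subgroup Y) := hf2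
        have h4 : c * f * c⁻¹ ∈ (centralizer {t} : Subgroup Y) := mul_mem (mul_mem (hCt hc) hf3) (inv_mem (hCt hc))
        exact h4
    · apply le_inf inf_le_left
      exact inf_le_right.trans fun c hc => mem_centralizer_singleton_iff.2 (Tb_comm H c hc)
  have h3 : Nat.card ↥(E' ⊓ Tb t s R : Subgroup Y) = 16 := by
    have h4 : E' ⊓ Tb t s R ≤ E' := inf_le_left
    have h5 := Subgroup.card_dvd_of_le h4
    rw [hcE'] at h5
    have h6 : Nat.card ↥(E' ⊓ Tb t s R : Subgroup Y) ≠ 32 := by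
      intro h7
      apply hle
      have h8 : E' ⊓ Tb t s R = E' := Subgroup.eq_of_le_of_card_ge h4 (by rw [h7, hcE'])
      rw [← h8]
      exact inf_le_right
    have h7 : Nat.card ↥(E' ⊓ Tb t s R : Subgroup Y) ∣ 2 ^ 5 := by
      norm_num
      exact h5
    obtain ⟨k, hk, hk'⟩ := (Nat.dvd_prime_pow Nat.prime_two).1 h7
    rw [hk'] at h1 h6 ⊢
    interval_cases k <;> omega
  -- translate to `τ = g⁻¹ t g`
  apply no_tau H h6 hh (hg t (t_Tb H))
  · calc g⁻¹ * t * g * (g⁻¹ * t * g) = g⁻¹ * (t * t) * g := by group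
      _ = 1 := by rw [H.tt]; group
  · rw [← h3, ← h2]
    have e : (E5 t R ⊓ centralizer {g⁻¹ * t * g} : Subgroup Y) =
        (E' ⊓ centralizer {t} : Subgroup Y).map (MulAut.conj g⁻¹).toMonoidHom := by
      ext a
      constructor
      · rintro ⟨ha, ha'⟩
        have ha2 : a * (g⁻¹ * t * g) = g⁻¹ * t * g * a := mem_centralizer_singleton_iff.1 ha'
        refine ⟨g * a * g⁻¹, ⟨(hmE' _).2 ?_, ?_⟩, ?_⟩
        · have : g⁻¹ * (g * a * g⁻¹) * g = a := by group
          rw [this]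
          exact ha
        · show g * a * g⁻¹ ∈ centralizer {t}
          rw [mem_centralizer_singleton_iff]
          calc g * a * g⁻¹ * t = g * (a * (g⁻¹ * t * g)) * g⁻¹ := by group
            _ = t * (g * a * g⁻¹) := by rw [ha2]; group
        · show g⁻¹ * (g * a * g⁻¹) * g⁻¹⁻¹ = a
          group
      · rintro ⟨b, ⟨hb, hb'⟩, rfl⟩
        have hb2 : b * t = t * b := mem_centralizer_singleton_iff.1 hb'
        have hE : g⁻¹ * b * g⁻¹⁻¹ ∈ E5 t R := by
          rw [inv_inv]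
          exact (hmE' b).1 hb
        refine ⟨hE, ?_⟩
        show g⁻¹ * b * g⁻¹⁻¹ ∈ centralizer {g⁻¹ * t * g}
        rw [mem_centralizer_singleton_iff]
        calc g⁻¹ * b * g⁻¹⁻¹ * (g⁻¹ * t * g) = g⁻¹ * (b * t) * g := by group
          _ = g⁻¹ * t * g * (g⁻¹ * b * g⁻¹⁻¹) := by rw [hb2]; group
    rw [e]
    exact Subgroup.card_map_of_injective (MulAut.conj g⁻¹).injective

/-- **`|N_Y(E5)| = 3840` is impossible** -/
theorem false_of_card (h6 : Nat.card ↥(normalizer (E5 t R : Set Y)) = 3840)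
    (hh : ∃ y ∈ normalizer (E5 t R : Set Y), y * t * y⁻¹ = t * r0) : False := by
  have := H.fin
  have ht : t ∈ N5 t R := Tb_N5 H (t_Tb H)
  obtain ⟨μ, hμ⟩ := exists_mu H (N5 t R) (fun y hy v hv => by
    apply nR_V H _ hv
    intro r hr
    have := N5_R H h6 hh (inv_mem hy) r hr
    rwa [inv_inv] at this) ht
  apply hμ
  apply H.tfy (N5 t R) (Tb_N5 H)
  · intro g hg
    exact uniq_E5 H h6 hh hg
  · refine ⟨E5 t R, E5_N5 H, fun g hg b hb => (Subgroup.mem_normalizer_iff.1 hg b).1 hb, E5_sq H, Or.inr ⟨?_, ?_⟩⟩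
    · rw [card_E5 H]
      norm_num
    · intro S hS hSp
      have h5 := Subgroup.card_dvd_of_le hS
      rw [h6] at h5
      obtain ⟨k, hk⟩ := (IsPGroup.iff_card).1 hSp
      rw [hk] at h5 ⊢
      by_contra h6
      have h7 : 9 ≤ k := by
        by_contra h8
        exact h6 (Nat.pow_le_pow_right (by norm_num) (by omega))
      have h8 : 2 ^ 9 ∣ 3840 := (pow_dvd_pow 2 h7).trans h5
      norm_num at h8

end Main

end Cfsg.Agent.OddHalf.D7Tits.YSix

end
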