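import Cfsg.Agent.OddHalf.D7Tits.Defs
import Cfsg.Agent.OddHalf.D7Tits.Theta
import Cfsg.Agent.OddHalf.D7Tits.ThetaPos
import Cfsg.Agent.StdLThreeFour.Syl
import Cfsg.Agent.OddHalf.D7Tits.YAbs
import Cfsg.Agent.OddHalf.D7Tits.YSix
import Cfsg.Agent.OddHalf.D7Tits.SOne
import Cfsg.Agent.OddHalf.D7Tits.WDefs
import Cfsg.Agent.OddHalf.D7Tits.XZero
import Cfsg.Agent.OddHalf.D7.Cases
import Cfsg.Agent.OddHalf.D7Tits.WKill
import Cfsg.Agent.TitsK.PairInst
import Cfsg.Agent.TitsK.KtWB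
import Cfsg.Agent.TitsK.KFive

-- merged: Cfsg.Agent.OddHalf.D7Tits.ThOf
section

/-!
# ODD D7, `K = ²F₄(2)'`: from `Pos` and `[n_v, n_w] = 1` to `Th` (helper583; text: bb ODD 15617, 1.3 and the end of section 2)

* `comm_A`, `comm_j` : `n_v = (i g)⁻¹ n (i g)` (`v = g⁻¹ z g ∈ A`) centralises `i A` and `i j`;
* `exists_Th` : `Pos`, `[n_v, n_w] = 1` for the points `v, w` of `A` ⟹ `∃ Θ, Th K i t n Θ`.
-/

set_option autoImplicit false
set_option linter.unusedSectionVars false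

namespace Cfsg.Agent.OddHalf.D7Tits.ThOf

open Defs

universe u v

variable {Y : Type u} [Group Y] {G : Type v} [Group G] {K : KT Y} {i : Y →* G} {t n : G}

section KT

/-- `A` is abelian -/
theorem A_comm {a b : Y} (ha : a ∈ K.A) (hb : b ∈ K.A) : a * b = b * a := by
  have h1 := K.sq_A _ (mul_mem ha hb)
  have h2 := K.sq_A _ ha
  have h3 := K.sq_A _ hb
  have e1 : a⁻¹ = a := inv_eq_of_mul_eq_one_left h2
  have e2 : b⁻¹ = b := inv_eq_of_mul_eq_one_left h3
  have e3 : (a * b)⁻¹ = a * b := inv_eq_of_mul_eq_one_left h1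
  rw [mul_inv_rev, e1, e2] at e3
  exact e3.symm

/-- `j` centralises `A` -/
theorem j_comm {a : Y} (ha : a ∈ K.A) : K.j * a = a * K.j := by
  rcases K.j_or with h | ⟨-, h⟩
  · rw [h, one_mul, mul_one]
  · have h1 := h a
    rw [K.τA a ha] at h1
    have h2 : a * K.j = K.j * a * K.j⁻¹ * K.j := by rw [← h1]
    rw [inv_mul_cancel_right] at h2
    exact h2.symm

theorem A_le_E {a : Y} (ha : a ∈ K.A) : a ∈ K.E := K.Q_le_E (K.A_le_Q ha)

/-- a conjugate of an element of `C(A)` into `C(z)` -/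
theorem conj_mem_P {g a : Y} (hg : g⁻¹ * K.z * g ∈ K.A) (ha : ∀ b ∈ K.A, a * b = b * a) : g * a * g⁻¹ ∈ K.P := by
  rw [K.mem_P]
  have h1 := ha _ hg
  calc g * a * g⁻¹ * K.z = g * (a * (g⁻¹ * K.z * g)) * g⁻¹ := by group
    _ = K.z * (g * a * g⁻¹) := by rw [h1]; group

end KT

variable (H : Pos K i t n)

include H

/-- if `p = g a g⁻¹ ∈ P` commutes with `n` then `n_v` commutes with `i a` -/
theorem comm_of {g a : Y} (h : n * i (g * a * g⁻¹) = i (g * a * g⁻¹) * n) :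
    (i g)⁻¹ * n * i g * i a = i a * ((i g)⁻¹ * n * i g) := by
  rw [map_mul, map_mul, map_inv] at h
  calc (i g)⁻¹ * n * i g * i a = (i g)⁻¹ * (n * (i g * i a * (i g)⁻¹)) * i g := by group
    _ = i a * ((i g)⁻¹ * n * i g) := by rw [h]; group

/-- **`n_v` centralises `A`.** -/
theorem comm_A {g a : Y} (hg : g⁻¹ * K.z * g ∈ K.A) (ha : a ∈ K.A) :
    (i g)⁻¹ * n * i g * i a = i a * ((i g)⁻¹ * n * i g) := by
  refine comm_of H (H.nP' _ (conj_mem_P hg fun b hb => A_comm ha hb) ?_)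
  have e : g * a * g⁻¹ * (g * a * g⁻¹) = g * (a * a) * g⁻¹ := by group
  rw [e, K.sq_A a ha, mul_one, mul_inv_cancel]
  exact one_mem _

/-- **`n_v` centralises `j`.** -/
theorem comm_j {g : Y} (hg : g⁻¹ * K.z * g ∈ K.A) :
    (i g)⁻¹ * n * i g * i K.j = i K.j * ((i g)⁻¹ * n * i g) := by
  refine comm_of H (H.nP' _ (conj_mem_P hg fun b hb => j_comm hb) ?_)
  have e : g * K.j * g⁻¹ * (g * K.j * g⁻¹) = g * (K.j * K.j) * g⁻¹ := by group
  rw [e]
  rcases K.j_or with h | ⟨h, -⟩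
  · rw [h, mul_one, mul_one, mul_inv_cancel]
    exact one_mem _
  · rw [h]
    exact A_le_E (K.sym g hg)

/-- `n_v` centralises `C_Y(A)` -/
theorem comm_C {g y : Y} (hg : g⁻¹ * K.z * g ∈ K.A) (hy : ∀ a ∈ K.A, y * a = a * y) :
    (i g)⁻¹ * n * i g * i y = i y * ((i g)⁻¹ * n * i g) := by
  obtain ⟨a, ha, l, rfl⟩ := K.cent_A y hy
  have h1 : Commute ((i g)⁻¹ * n * i g) (i a) := comm_A H hg ha
  have h2 : Commute ((i g)⁻¹ * n * i g) (i K.j) := comm_j H hg
  rw [map_mul, map_pow]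
  exact h1.mul_right (h2.pow_right l)

/-- `t n_v t = n_v v` -/
theorem t_conj (g : Y) : t * ((i g)⁻¹ * n * i g) * t = (i g)⁻¹ * n * i g * i (g⁻¹ * K.z * g) := by
  have h1 := H.tmap g
  have h2 := H.ti g
  calc t * ((i g)⁻¹ * n * i g) * t = (t * (i g)⁻¹) * n * (i g * t) := by group
    _ = (i g)⁻¹ * (t * n * t) * i g := by rw [h1, ← h2]; group
    _ = (i g)⁻¹ * n * i g * i (g⁻¹ * K.z * g) := by rw [H.nt, map_mul, map_mul, map_inv]; group

theorem sq_conj (g : Y) : (i g)⁻¹ * n * i g * ((i g)⁻¹ * n * i g) = 1 := by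
  calc (i g)⁻¹ * n * i g * ((i g)⁻¹ * n * i g) = (i g)⁻¹ * (n * n) * i g := by group
    _ = 1 := by rw [H.nn]; group

/-- `n_v` is defined up to `v` -/
theorem n_unique {g g' : Y} (h : g'⁻¹ * K.z * g' = g⁻¹ * K.z * g) :
    (i g')⁻¹ * n * i g' = (i g)⁻¹ * n * i g ∨ (i g')⁻¹ * n * i g' = (i g)⁻¹ * n * i g * i (g⁻¹ * K.z * g) := by
  have hp : g' * g⁻¹ ∈ K.P := by
    rw [K.mem_P]
    calc g' * g⁻¹ * K.z = g' * (g⁻¹ * K.z * g) * g⁻¹ := by group
      _ = K.z * (g' * g⁻¹) := by rw [← h]; group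
  have e : (i g')⁻¹ * n * i g' = (i g)⁻¹ * ((i (g' * g⁻¹))⁻¹ * n * i (g' * g⁻¹)) * i g := by
    rw [map_mul, map_inv]; group
  rw [e]
  rcases H.nP _ hp with h1 | h1
  · left; rw [h1]
  · right
    rw [h1, map_mul, map_mul, map_inv]; group

theorem iz1 : i K.z ≠ 1 := fun h => K.z1 (H.inj (by rw [h, map_one]))

/-- the points of `A` -/
def Vp (K : KT Y) (i : Y →* G) : Set G := {v | ∃ g : Y, g⁻¹ * K.z * g ∈ K.A ∧ v = i (g⁻¹ * K.z * g)}

open Classical in
/-- the involution `n_v` -/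
noncomputable def nv (K : KT Y) (i : Y →* G) (n : G) (v : G) : G :=
  if h : v ∈ Vp K i then (i h.choose)⁻¹ * n * i h.choose else 1

omit H in
theorem nv_spec {v : G} (hv : v ∈ Vp K i) :
    ∃ g : Y, g⁻¹ * K.z * g ∈ K.A ∧ v = i (g⁻¹ * K.z * g) ∧ nv K i n v = (i g)⁻¹ * n * i g := by
  refine ⟨hv.choose, hv.choose_spec.1, hv.choose_spec.2, ?_⟩
  rw [nv, dif_pos hv]

/-- Input of section 2 (end). -/
theorem th (hnn : ∀ g h : Y, g⁻¹ * K.z * g ∈ K.A → h⁻¹ * K.z * h ∈ K.A →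
      (i g)⁻¹ * n * i g * ((i h)⁻¹ * n * i h) = (i h)⁻¹ * n * i h * ((i g)⁻¹ * n * i g)) :
    Theta.Th t (K.A.map i) ((Subgroup.centralizer (K.A : Set Y)).map i) (Vp K i) (nv K i n) where
  tt := H.tt
  tJ := by
    rintro _ ⟨y, -, rfl⟩
    exact H.ti y
  tnJ := by
    rintro ⟨y, -, hy⟩
    exact H.tY y hy
  AJ := by
    apply Subgroup.map_mono
    intro a ha
    rw [Subgroup.mem_centralizer_iff]
    intro b hb
    exact A_comm hb ha
  Asq := by
    rintro _ ⟨a, ha, rfl⟩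
    rw [← map_mul, K.sq_A a ha, map_one]
  JA := by
    rintro _ ⟨y, hy, rfl⟩ _ ⟨a, ha, rfl⟩
    have h1 : a * y = y * a := Subgroup.mem_centralizer_iff.1 hy a ha
    rw [← map_mul, ← map_mul, h1]
  Jsq := by
    rintro _ ⟨y, hy, rfl⟩ h
    have hy' : ∀ a ∈ K.A, y * a = a * y := fun a ha => (Subgroup.mem_centralizer_iff.1 hy a ha).symm
    have h2 : y * y = 1 := H.inj (by rw [map_mul, h, map_one])
    obtain ⟨a, ha, l, rfl⟩ := K.cent_A y hy'
    refine ⟨_, ?_, rfl⟩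
    rcases K.j_or with hj | ⟨hj, -⟩
    · rw [hj, one_pow, mul_one]; exact ha
    · have hc : Commute (K.j ^ l) a := (show Commute K.j a from j_comm ha).pow_left l
      have e : a * K.j ^ l * (a * K.j ^ l) = K.z ^ l := by
        calc a * K.j ^ l * (a * K.j ^ l) = a * (K.j ^ l * a) * K.j ^ l := by group
          _ = (a * a) * (K.j ^ l * K.j ^ l) := by rw [hc.eq]; group
          _ = K.z ^ l := by
            rw [K.sq_A a ha, one_mul, ← pow_add, ← two_mul, pow_mul, pow_two, hj]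
      rw [e] at h2
      rcases Nat.even_or_odd' l with ⟨m, rfl | rfl⟩
      · rw [pow_mul, pow_two, hj]
        exact mul_mem ha (pow_mem K.z_A m)
      · exfalso
        rw [pow_succ, pow_mul, pow_two, K.zz, one_pow, one_mul] at h2
        exact K.z1 h2
  cent := by
    intro c hc hcA
    obtain ⟨y, hy⟩ := H.cen c hc.symm
    have key : ∀ a ∈ K.A, i y * i a = i a * i y := by
      intro a ha
      have h1 := hcA (i a) ⟨a, ha, rfl⟩
      rcases hy with rfl | rfl
      · exact h1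
      · have h2 : t * (i y * i a) = t * (i a * i y) := by
          calc t * (i y * i a) = t * i y * i a := by group
            _ = i a * (t * i y) := h1
            _ = (i a * t) * i y := by group
            _ = t * (i a * i y) := by rw [← H.ti]; group
        exact mul_left_cancel h2
    refine ⟨i y, ⟨y, ?_, rfl⟩, hy⟩
    show y ∈ Subgroup.centralizer (K.A : Set Y)
    rw [Subgroup.mem_centralizer_iff]
    intro a ha
    apply H.inj
    rw [map_mul, map_mul]
    exact (key a ha).symm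
  VA := by
    rintro _ ⟨g, hg, rfl⟩
    exact ⟨_, hg, rfl⟩
  gen := by
    have h1 : K.A.map i ≤ (Subgroup.closure ({K.z} ∪ Set.range K.q)).map i := Subgroup.map_mono K.A_gen
    refine h1.trans ?_
    rw [MonoidHom.map_closure, Subgroup.closure_le]
    rintro _ ⟨v, hv | ⟨k, rfl⟩, rfl⟩
    · rw [Set.mem_singleton_iff] at hv
      subst hv
      refine Subgroup.subset_closure ⟨1, ?_, ?_⟩
      · rw [inv_one, one_mul, mul_one]; exact K.z_A
      · rw [inv_one, one_mul, mul_one]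
    · obtain ⟨g, hg⟩ := K.pt k
      refine Subgroup.subset_closure ⟨g, ?_, ?_⟩
      · rw [hg]; exact K.q_A k
      · rw [hg]
  nsq := by
    intro v hv
    obtain ⟨g, -, -, h⟩ := nv_spec (n := n) hv
    rw [h]
    exact sq_conj H g
  nt := by
    intro v hv
    obtain ⟨g, -, h1, h⟩ := nv_spec (n := n) hv
    rw [h, h1]
    exact t_conj H g
  nJ := by
    rintro v hv _ ⟨y, hy, rfl⟩
    obtain ⟨g, hg, -, h⟩ := nv_spec (n := n) hv
    rw [h]
    exact comm_C H hg fun a ha => (Subgroup.mem_centralizer_iff.1 hy a ha).symm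
  nn := by
    intro v hv w hw
    obtain ⟨g, hg, -, h⟩ := nv_spec (n := n) hv
    obtain ⟨g', hg', -, h'⟩ := nv_spec (n := n) hw
    rw [h, h']
    exact hnn g g' hg hg'

/-- **`Pos` and `[n_v, n_w] = 1` ⟹ `Θ`.** -/
theorem exists_Th (hnn : ∀ g h : Y, g⁻¹ * K.z * g ∈ K.A → h⁻¹ * K.z * h ∈ K.A →
      (i g)⁻¹ * n * i g * ((i h)⁻¹ * n * i h) = (i h)⁻¹ * n * i h * ((i g)⁻¹ * n * i g)) :
    ∃ Θ : Subgroup G, Defs.Th K i t n Θ := by
  have h := th H hnn
  have : Finite G := H.finG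
  set Θ : Subgroup G := Theta.TH (K.A.map i) (Vp K i) (nv K i n) with hΘ
  have hz : i K.z ∈ Vp K i := ⟨1, by rw [inv_one, one_mul, mul_one]; exact K.z_A, by rw [inv_one, one_mul, mul_one]⟩
  have htΘ : t ∉ Θ := h.t_notMem hz (iz1 H)
  -- the points
  have hpt : ∀ g : Y, g⁻¹ * K.z * g ∈ K.A → (i g)⁻¹ * n * i g ∈ Θ := by
    intro g hg
    have hv : i (g⁻¹ * K.z * g) ∈ Vp K i := ⟨g, hg, rfl⟩
    obtain ⟨g', hg', e1, e2⟩ := nv_spec (n := n) hv
    have h1 : nv K i n (i (g⁻¹ * K.z * g)) ∈ Θ := Theta.n_mem hv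
    rw [e2] at h1
    have hA : i (g'⁻¹ * K.z * g') ∈ Θ := Theta.le_TH ⟨_, hg', rfl⟩
    rcases n_unique H (H.inj e1) with h2 | h2
    · rw [h2]; exact h1
    · rw [h2]; exact mul_mem h1 hA
  refine ⟨Θ, ?_⟩
  exact
    { ab := fun a ha b hb => h.comm ha hb
      sq := fun a ha => h.sq ha
      card := by
        rw [hΘ, h.card htΘ, Subgroup.card_map_of_injective H.inj, K.card_A]
        norm_num
      A_le := Theta.le_TH
      n_mem := by
        have := hpt 1 (by rw [inv_one, one_mul, mul_one]; exact K.z_A)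
        rwa [map_one, inv_one, one_mul, mul_one] at this
      fix := fun a ha hat => h.fix htΘ ha hat.symm
      tau := by
        intro a ha
        have h1 := h.brk htΘ ha
        rwa [h.comm ha (h.t_mem ha)] at h1
      sur := by
        intro a ha
        obtain ⟨x, hx, e⟩ := h.sur (a := i a) ⟨a, ha, rfl⟩
        refine ⟨x, hx, ?_⟩
        rw [← e, ← mul_assoc, h.sq hx, one_mul]
      nt := fun a ha => h.t_mem ha
      nP := by
        intro p hp a ha
        refine h.norm_of ?_ ?_ a ha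
        · rintro _ ⟨b, hb, rfl⟩
          exact ⟨p * b * p⁻¹, K.nor_A p hp b hb, by rw [map_mul, map_mul, map_inv]⟩
        · intro v hv
          obtain ⟨g, hg, -, e⟩ := nv_spec (n := n) hv
          rw [e]
          have e2 : i p * ((i g)⁻¹ * n * i g) * (i p)⁻¹ = (i (g * p⁻¹))⁻¹ * n * i (g * p⁻¹) := by
            rw [map_mul, map_inv]; group
          rw [e2]
          apply hpt
          have e3 : (g * p⁻¹)⁻¹ * K.z * (g * p⁻¹) = p * (g⁻¹ * K.z * g) * p⁻¹ := by group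
          rw [e3]
          exact K.nor_A p hp _ hg
      nj := by
        intro a ha
        refine h.J_comm ha ⟨K.j, ?_, rfl⟩
        show K.j ∈ Subgroup.centralizer (K.A : Set Y)
        rw [Subgroup.mem_centralizer_iff]
        intro b hb
        exact (j_comm hb).symm
      pt := hpt }

end Cfsg.Agent.OddHalf.D7Tits.ThOf

end

-- merged: Cfsg.Agent.OddHalf.D7Tits.ThMain
section

/-!
# ODD D7, `K = ²F₄(2)'`: section 2, final form (helper583 from helper927's `ThetaPos`)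
-/

set_option autoImplicit false

namespace Cfsg.Agent.OddHalf.D7Tits.ThMain

open Defs

universe u v

variable {Y : Type u} [Group Y] {G : Type v} [Group G] {K : KT Y} {i : Y →* G} {t n : G}

/-- **Section 2 of #15617.** `pts` : `z ^ Y ∩ A` are the 11 points. -/
theorem exists_Th (H : Pos K i t n) (pts : ∀ g : Y, g⁻¹ * K.z * g ∈ K.A → ThetaHyp.IsPt K.z K.q (g⁻¹ * K.z * g)) :
    ∃ Θ : Subgroup G, Th K i t n Θ :=
  ThOf.exists_Th H fun _ _ hg hh => ThetaPos.nn_comm H (pts _ hg) (pts _ hh)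

end Cfsg.Agent.OddHalf.D7Tits.ThMain

end

-- merged: Cfsg.Agent.OddHalf.D7Tits.AltBase
section

/-!
# ODD D7, `K = ²F₄(2)'`: the `T`-invariant conjugates of `Θ` (helper381; text: bb ODD 16131)

The Sylow 2-subgroup `U` of the Tits group has TWO normal elementary abelian subgroups of order `2⁵`: `A` and `A₁`
(`A₁` is normal in the line stabiliser). So a `T`-invariant conjugate `Θ₁` of `Θ` is `Θ` or has `C_Θ₁(t) = A₁` (type `A₁`).

* `adj` : `t` fixes a coset `yΘ` iff it centralises an element of it.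
* `odd_cent` : `C_G(Θ₁)/Θ₁` has odd order.
* `dich` : the two types.
* `core` : type `A₁` is impossible if `Θ` has a suitable `2`-local overgroup (clean case).
* `uniq_out` : no type `A₁` in the outer case.
* `tfy`, `tfy_out` : the T-formula in `Y = N_G(Θ)/C_G(Θ)`.
-/

set_option autoImplicit false
set_option linter.unusedSectionVars false
set_option linter.unusedVariables false

namespace Cfsg.Agent.OddHalf.D7Tits.AltType

open Subgroup

variable {G : Type*} [Group G]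

/-- `Θ ^ g` -/
def cj (g : G) (H : Subgroup G) : Subgroup G := H.map (MulAut.conj g).toMonoidHom

theorem mem_cj {g x : G} {H : Subgroup G} : x ∈ cj g H ↔ g⁻¹ * x * g ∈ H := by
  constructor
  · rintro ⟨y, hy, rfl⟩
    show g⁻¹ * (g * y * g⁻¹) * g ∈ H
    have e : g⁻¹ * (g * y * g⁻¹) * g = y := by group
    rwa [e]
  · intro h
    exact ⟨_, h, by show g * (g⁻¹ * x * g) * g⁻¹ = x; group⟩

theorem card_cj (g : G) (H : Subgroup G) : Nat.card (cj g H) = Nat.card H :=
  (Nat.card_congr (H.equivMapOfInjective _ (MulAut.conj g).injective).toEquiv).symm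

/-- elementary abelian -/
structure EA (H : Subgroup G) : Prop where
  ab : ∀ x ∈ H, ∀ y ∈ H, x * y = y * x
  sq : ∀ x ∈ H, x * x = 1

theorem EA.inv {H : Subgroup G} (h : EA H) {x : G} (hx : x ∈ H) : x⁻¹ = x := inv_eq_of_mul_eq_one_left (h.sq x hx)

theorem EA.cj {H : Subgroup G} (h : EA H) (g : G) : EA (cj g H) where
  ab := by
    intro x hx y hy
    rw [mem_cj] at hx hy
    have h1 := h.ab _ hx _ hy
    calc x * y = g * ((g⁻¹ * x * g) * (g⁻¹ * y * g)) * g⁻¹ := by group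
      _ = g * ((g⁻¹ * y * g) * (g⁻¹ * x * g)) * g⁻¹ := by rw [h1]
      _ = y * x := by group
  sq := by
    intro x hx
    rw [mem_cj] at hx
    have h1 := h.sq _ hx
    calc x * x = g * ((g⁻¹ * x * g) * (g⁻¹ * x * g)) * g⁻¹ := by group
      _ = 1 := by rw [h1]; group

/-! ### The free action of `t` -/

section Adj

variable {t : G} (tt : t * t = 1) {Θ : Subgroup G} (ea : EA Θ) (tΘ : ∀ x ∈ Θ, t * x * t ∈ Θ)

include tt

theorem t_inv : t⁻¹ = t := inv_eq_of_mul_eq_one_left tt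

theorem conj_mul (a b : G) : t * (a * b) * t = (t * a * t) * (t * b * t) := by
  calc t * (a * b) * t = t * a * 1 * b * t := by group
    _ = t * a * (t * t) * b * t := by rw [tt]
    _ = (t * a * t) * (t * b * t) := by group

theorem conj_conj (a : G) : t * (t * a * t) * t = a := by
  calc t * (t * a * t) * t = (t * t) * a * (t * t) := by group
    _ = a := by rw [tt, one_mul, mul_one]

theorem conj_inv (a : G) : t * a⁻¹ * t = (t * a * t)⁻¹ := by
  rw [mul_inv_rev, mul_inv_rev, t_inv tt, mul_assoc]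

theorem conj_of_comm {a : G} (ha : a * t = t * a) : t * a * t = a := by
  rw [← ha, mul_assoc, tt, mul_one]

theorem comm_of_conj {a : G} (ha : t * a * t = a) : a * t = t * a := by
  have h1 : t * a * t * t = a * t := by rw [ha]
  rw [mul_assoc (t * a), tt, mul_one] at h1
  exact h1.symm

include ea tΘ

/-- if `|C_Θ(t)|² ≤ |Θ|`, then `C_Θ(t) = [Θ, t]` -/
theorem adj₁ [Finite G] {m : ℕ} (hm : Nat.card Θ = m * m) (hC : Nat.card (Θ ⊓ centralizer {t} : Subgroup G) ≤ m)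
    {a : G} (ha : a ∈ Θ) (hat : a * t = t * a) : ∃ b ∈ Θ, b * (t * b * t) = a := by
  set C : Subgroup G := Θ ⊓ centralizer {t} with hCdef
  have hbr : ∀ b ∈ Θ, b * (t * b * t) ∈ C := fun b hb => by
    refine mem_inf.2 ⟨mul_mem hb (tΘ b hb), ?_⟩
    rw [mem_centralizer_singleton_iff]
    apply comm_of_conj tt
    rw [conj_mul tt, conj_conj tt, ea.ab _ (tΘ b hb) _ hb]
  let f : Θ →* C :=
    { toFun := fun b => ⟨b * (t * b * t), hbr b b.2⟩
      map_one' := Subtype.ext (by show (1 : G) * (t * 1 * t) = 1; rw [mul_one, tt, one_mul])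
      map_mul' := fun x y => Subtype.ext (by
        show (x : G) * y * (t * (x * y) * t) = x * (t * x * t) * (y * (t * y * t))
        rw [conj_mul tt]
        calc (x : G) * y * (t * x * t * (t * y * t)) = x * (y * (t * x * t)) * (t * y * t) := by group
          _ = _ := by rw [ea.ab _ y.2 _ (tΘ x x.2)]; group) }
  have hk : Nat.card f.ker ≤ Nat.card C := by
    refine Nat.card_le_card_of_injective (fun x => (⟨((x : Θ) : G), mem_inf.2 ⟨(x : Θ).2, ?_⟩⟩ : C)) ?_
    · have h1 : (((x : Θ)) : G) * (t * ((x : Θ) : G) * t) = 1 := congrArg Subtype.val x.2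
      rw [mem_centralizer_singleton_iff]
      apply comm_of_conj tt
      rw [← inv_eq_of_mul_eq_one_right h1, ea.inv (x : Θ).2]
    · intro x y hxy
      exact Subtype.ext (Subtype.ext (congrArg (fun b : C => (b : G)) hxy))
  have h1 := Subgroup.card_mul_index f.ker
  rw [Subgroup.index_ker, hm] at h1
  have hr : Nat.card f.range ≤ Nat.card C := Nat.card_le_card_of_injective _ f.range.subtype_injective
  have hm0 : 0 < m := by
    rcases Nat.eq_zero_or_pos m with h0 | h0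
    · exfalso
      rw [h0] at hm
      exact (Nat.card_pos (α := Θ)).ne' (by simpa using hm)
    · exact h0
  have h2 : Nat.card C ≤ Nat.card f.range := by
    by_contra hlt
    rw [not_le] at hlt
    have h3 : Nat.card f.ker * Nat.card f.range < m * m :=
      calc Nat.card f.ker * Nat.card f.range ≤ m * Nat.card f.range := Nat.mul_le_mul_right _ (hk.trans hC)
        _ < m * m := Nat.mul_lt_mul_of_pos_left (lt_of_lt_of_le hlt hC) hm0
    omega
  have h3 : f.range = ⊤ := by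
    apply Subgroup.eq_top_of_le_card
    exact h2
  obtain ⟨b, hb⟩ := (MonoidHom.range_eq_top.1 h3) ⟨a, mem_inf.2 ⟨ha, mem_centralizer_singleton_iff.2 hat⟩⟩
  exact ⟨b, b.2, congrArg Subtype.val hb⟩

/-- if `t` fixes the coset `y Θ`, then it centralises an element of it -/
theorem adj [Finite G] {m : ℕ} (hm : Nat.card Θ = m * m) (hC : Nat.card (Θ ⊓ centralizer {t} : Subgroup G) ≤ m)
    {y : G} (hy : y⁻¹ * (t * y * t) ∈ Θ) : ∃ b ∈ Θ, (y * b) * t = t * (y * b) := by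
  have h1 : (y⁻¹ * (t * y * t)) * t = t * (y⁻¹ * (t * y * t)) := by
    apply comm_of_conj tt
    rw [conj_mul tt, conj_conj tt, conj_inv tt]
    rw [← ea.inv hy]
    group
  obtain ⟨b, hb, e⟩ := adj₁ tt ea tΘ hm hC hy h1
  refine ⟨b, hb, comm_of_conj tt ?_⟩
  have e1 : t * y * t = y * (b * (t * b * t)) := by rw [e]; group
  rw [conj_mul tt, e1]
  calc y * (b * (t * b * t)) * (t * b * t) = y * b * ((t * b * t) * (t * b * t)) := by group
    _ = y * b := by rw [ea.sq _ (tΘ b hb), mul_one]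

end Adj

/-! ### Fixed involutions of a quotient -/

/-- a 2-group `T` normalising `Θ ⊴ D` centralises an involution of `D / Θ`, if there is one -/
theorem exists_fix_mod [Finite G] {T Θ D : Subgroup G} (hT : IsPGroup 2 T) (hTΘ : ∀ s ∈ T, ∀ x ∈ Θ, s * x * s⁻¹ ∈ Θ)
    (hTD : ∀ s ∈ T, ∀ x ∈ D, s * x * s⁻¹ ∈ D) (hDΘ : ∀ s ∈ D, ∀ x ∈ Θ, s * x * s⁻¹ ∈ Θ) (hΘD : Θ ≤ D)
    (h : ∃ c ∈ D, c ∉ Θ ∧ c * c ∈ Θ) : ∃ c ∈ D, c ∉ Θ ∧ c * c ∈ Θ ∧ ∀ s ∈ T, s * c * s⁻¹ * c⁻¹ ∈ Θ := by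
  classical
  have key : ∀ W : Subgroup G, (∀ s ∈ W, ∀ x ∈ Θ, s * x * s⁻¹ ∈ Θ) → W ≤ normalizer (Θ : Set G) := by
    intro W hW s hs
    rw [mem_normalizer_iff]
    intro x
    constructor
    · exact hW s hs x
    · intro hx
      have := hW s⁻¹ (inv_mem hs) _ hx
      have e : s⁻¹ * (s * x * s⁻¹) * s⁻¹⁻¹ = x := by group
      rwa [e] at this
  have hTN := key T hTΘ
  have hDN := key D hDΘ
  let N : Subgroup G := normalizer (Θ : Set G)
  let Θ' : Subgroup N := Θ.subgroupOf N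
  have hn : Θ'.Normal := by
    constructor
    rintro ⟨x, hx⟩ hx' ⟨g, hg⟩
    rw [mem_subgroupOf] at hx' ⊢
    exact (mem_normalizer_iff.1 hg x).1 hx'
  let π : N →* N ⧸ Θ' := QuotientGroup.mk' Θ'
  have hπ : ∀ x : N, π x = 1 ↔ (x : G) ∈ Θ := fun x => by
    rw [QuotientGroup.mk'_apply, QuotientGroup.eq_one_iff, mem_subgroupOf]
  let T' : Subgroup (N ⧸ Θ') := (T.subgroupOf N).map π
  let D' : Subgroup (N ⧸ Θ') := (D.subgroupOf N).map π
  have hT' : IsPGroup 2 T' := (IsPGroup.comap_of_injective hT N.subtype N.subtype_injective).map π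
  have hnor : ∀ q ∈ T', ∀ x ∈ D', q * x * q⁻¹ ∈ D' := by
    rintro _ ⟨⟨s, hsN⟩, hs, rfl⟩ _ ⟨⟨x, hxN⟩, hx, rfl⟩
    refine ⟨⟨s, hsN⟩ * ⟨x, hxN⟩ * ⟨s, hsN⟩⁻¹, hTD s hs x hx, ?_⟩
    rw [map_mul, map_mul, map_inv]
  obtain ⟨c, hc, hcΘ, hcc⟩ := h
  have h2 : 2 ∣ Nat.card D' := by
    let c' : D' := ⟨π ⟨c, hDN hc⟩, ⟨c, hDN hc⟩, hc, rfl⟩
    have h1 : c' ≠ 1 := by
      intro h1
      have h3 : π ⟨c, hDN hc⟩ = 1 := congrArg Subtype.val h1
      exact hcΘ ((hπ _).1 h3)
    have h3 : c' ^ 2 = 1 := by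
      apply Subtype.ext
      show (π ⟨c, hDN hc⟩) ^ 2 = 1
      rw [← map_pow, hπ, pow_two]
      exact hcc
    rw [← orderOf_eq_prime h3 h1]
    exact orderOf_dvd_natCard c'
  obtain ⟨x, hx, hx1, hxx, hcom⟩ := StdLThreeFour.Syl.exists_invol_commute hT' hnor h2
  obtain ⟨⟨y, hyN⟩, hy, rfl⟩ := hx
  refine ⟨y, hy, fun h1 => hx1 ((hπ _).2 h1), ?_, fun s hs => ?_⟩
  · rw [← map_mul, hπ] at hxx
    exact hxx
  · have h1 : π ⟨s, hTN hs⟩ * π ⟨y, hyN⟩ = π ⟨y, hyN⟩ * π ⟨s, hTN hs⟩ := hcom _ ⟨⟨s, hTN hs⟩, hs, rfl⟩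
    have h2 : π (⟨s, hTN hs⟩ * ⟨y, hyN⟩ * ⟨s, hTN hs⟩⁻¹ * ⟨y, hyN⟩⁻¹) = 1 := by
      rw [map_mul, map_mul, map_mul, h1, map_inv, map_inv]
      group
    exact (hπ _).1 h2

/-- `|Θ| ≤ |C_Θ(t)|²` -/
theorem card_fix [Finite G] {t : G} (tt : t * t = 1) {Θ : Subgroup G} (ea : EA Θ) (tΘ : ∀ x ∈ Θ, t * x * t ∈ Θ) {m : ℕ}
    (hm : Nat.card Θ = m * m) : m ≤ Nat.card (Θ ⊓ centralizer {t} : Subgroup G) := by
  by_contra hlt
  rw [not_le] at hlt
  -- apply `adj₁`: `C_Θ(t) = [Θ, t]`, so `|Θ| = |C_Θ(t)|²`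
  set C : Subgroup G := Θ ⊓ centralizer {t} with hCdef
  have hbr : ∀ b ∈ Θ, b * (t * b * t) ∈ C := fun b hb => by
    refine mem_inf.2 ⟨mul_mem hb (tΘ b hb), ?_⟩
    rw [mem_centralizer_singleton_iff]
    apply comm_of_conj tt
    rw [conj_mul tt, conj_conj tt, ea.ab _ (tΘ b hb) _ hb]
  let f : Θ →* C :=
    { toFun := fun b => ⟨b * (t * b * t), hbr b b.2⟩
      map_one' := Subtype.ext (by show (1 : G) * (t * 1 * t) = 1; rw [mul_one, tt, one_mul])
      map_mul' := fun x y => Subtype.ext (by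
        show (x : G) * y * (t * (x * y) * t) = x * (t * x * t) * (y * (t * y * t))
        rw [conj_mul tt]
        calc (x : G) * y * (t * x * t * (t * y * t)) = x * (y * (t * x * t)) * (t * y * t) := by group
          _ = _ := by rw [ea.ab _ y.2 _ (tΘ x x.2)]; group) }
  have hk : Nat.card f.ker ≤ Nat.card C := by
    refine Nat.card_le_card_of_injective (fun x => (⟨((x : Θ) : G), mem_inf.2 ⟨(x : Θ).2, ?_⟩⟩ : C)) ?_
    · have h1 : (((x : Θ)) : G) * (t * ((x : Θ) : G) * t) = 1 := congrArg Subtype.val x.2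
      rw [mem_centralizer_singleton_iff]
      apply comm_of_conj tt
      rw [← inv_eq_of_mul_eq_one_right h1, ea.inv (x : Θ).2]
    · intro x y hxy
      exact Subtype.ext (Subtype.ext (congrArg (fun b : C => (b : G)) hxy))
  have h1 := Subgroup.card_mul_index f.ker
  rw [Subgroup.index_ker, hm] at h1
  have hr : Nat.card f.range ≤ Nat.card C := Nat.card_le_card_of_injective _ f.range.subtype_injective
  have h3 : Nat.card f.ker * Nat.card f.range ≤ Nat.card C * Nat.card C := Nat.mul_le_mul hk hr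
  have h4 : Nat.card C * Nat.card C < m * m := Nat.mul_lt_mul'' hlt hlt
  omega

/-! ### The situation -/

/-- `T = ⟨t⟩ × U` is a Sylow 2-subgroup of `C_G(t)`; `A₁ = C_U(A₁)` is elementary abelian of order `2⁵`. -/
structure Sit (t : G) (T U A₁ : Subgroup G) : Prop where
  tt : t * t = 1
  tU : t ∉ U
  mem_T : ∀ x, x ∈ T ↔ x ∈ U ∨ t * x ∈ U
  cU : ∀ u ∈ U, u * t = t * u
  pT : IsPGroup 2 T
  /-- `T` is a Sylow 2-subgroup of `C_G(t)` -/
  syl : ∀ S : Subgroup G, IsPGroup 2 S → T ≤ S → (∀ a ∈ S, a * t = t * a) → S ≤ T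
  /-- (K3) -/
  rank : ∀ E : Subgroup G, EA E → t ∈ E → Nat.card E ≠ 2 ^ 10
  cardA₁ : Nat.card A₁ = 2 ^ 5
  A₁U : A₁ ≤ U
  /-- `C_U(A₁) = A₁` -/
  cA₁ : ∀ u ∈ U, (∀ a ∈ A₁, u * a = a * u) → u ∈ A₁

namespace Sit

variable {t : G} {T U A₁ : Subgroup G} (H : Sit t T U A₁)

include H

theorem UT : U ≤ T := fun x hx => (H.mem_T x).2 (Or.inl hx)

theorem tT : t ∈ T := (H.mem_T t).2 (Or.inr (by rw [H.tt]; exact one_mem _))

theorem tu {u : G} (hu : u ∈ U) : t * u ∈ T := (H.mem_T _).2 (Or.inr (by rw [← mul_assoc, H.tt, one_mul]; exact hu))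

theorem cT {a : G} (ha : a ∈ T) : a * t = t * a := by
  rcases (H.mem_T a).1 ha with h | h
  · exact H.cU a h
  · have h1 := H.cU _ h
    calc a * t = (t * t) * a * t := by rw [H.tt, one_mul]
      _ = t * (t * a * t) := by group
      _ = t * (t * (t * a)) := by rw [h1]
      _ = (t * t) * (t * a) := by group
      _ = t * a := by rw [H.tt, one_mul]

/-- a `T`-invariant 2-group in `C_G(t)` is contained in `T` -/
theorem inT {B : Subgroup G} (hB : IsPGroup 2 B) (hBt : ∀ b ∈ B, b * t = t * b) (hn : ∀ s ∈ T, ∀ b ∈ B, s * b * s⁻¹ ∈ B) :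
    B ≤ T := by
  have h1 : T ≤ normalizer (B : Set G) := by
    intro s hs
    rw [mem_normalizer_iff]
    intro x
    constructor
    · exact hn s hs x
    · intro hx
      have := hn s⁻¹ (inv_mem hs) _ hx
      have e : s⁻¹ * (s * x * s⁻¹) * s⁻¹⁻¹ = x := by group
      rwa [e] at this
  have h2 : IsPGroup 2 (B ⊔ T : Subgroup G) := IsPGroup.to_sup_of_normal_left' hB H.pT h1
  have h3 : B ⊔ T ≤ centralizer {t} := sup_le (fun b hb => mem_centralizer_singleton_iff.2 (hBt b hb))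
    fun b hb => mem_centralizer_singleton_iff.2 (H.cT hb)
  exact le_sup_left.trans (H.syl _ h2 le_sup_right fun a ha => mem_centralizer_singleton_iff.1 (h3 ha))

/-- the projection of `B ≤ T = ⟨t⟩ × U` to `U` -/
theorem exists_pr [Finite G] {B : Subgroup G} (hBT : B ≤ T) :
    ∃ P : Subgroup G, P ≤ U ∧ (∀ u, u ∈ P ↔ u ∈ U ∧ (u ∈ B ∨ t * u ∈ B)) ∧ Nat.card B ≤ 2 * Nat.card P ∧
      (t ∉ B → Nat.card B = Nat.card P) := by
  classical
  have ti : t⁻¹ = t := inv_eq_of_mul_eq_one_left H.tt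
  let P : Subgroup G :=
    { carrier := {u | u ∈ U ∧ (u ∈ B ∨ t * u ∈ B)}
      one_mem' := ⟨one_mem _, Or.inl (one_mem _)⟩
      mul_mem' := by
        rintro u v ⟨hu, h1⟩ ⟨hv, h2⟩
        refine ⟨mul_mem hu hv, ?_⟩
        have e1 := H.cU u hu
        rcases h1 with h1 | h1 <;> rcases h2 with h2 | h2
        · exact Or.inl (mul_mem h1 h2)
        · right
          have := mul_mem h1 h2
          have e : u * (t * v) = t * (u * v) := by rw [← mul_assoc, e1, mul_assoc]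
          rwa [e] at this
        · right
          have := mul_mem h1 h2
          rwa [mul_assoc] at this
        · left
          have := mul_mem h1 h2
          have e : t * u * (t * v) = u * v := by
            calc t * u * (t * v) = t * (u * t) * v := by group
              _ = (t * t) * (u * v) := by rw [e1]; group
              _ = u * v := by rw [H.tt, one_mul]
          rwa [e] at this
      inv_mem' := by
        rintro u ⟨hu, h1⟩
        refine ⟨inv_mem hu, ?_⟩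
        rcases h1 with h1 | h1
        · exact Or.inl (inv_mem h1)
        · right
          have := inv_mem h1
          have e1 := H.cU _ (inv_mem hu)
          have e : (t * u)⁻¹ = t * u⁻¹ := by rw [mul_inv_rev, ti, e1]
          rwa [e] at this }
  have hP : ∀ u, u ∈ P ↔ u ∈ U ∧ (u ∈ B ∨ t * u ∈ B) := fun u => Iff.rfl
  have hcase : ∀ x ∈ B, x ∈ P ∨ t * x ∈ P := by
    intro x hx
    rcases (H.mem_T x).1 (hBT hx) with h | h
    · exact Or.inl ⟨h, Or.inl hx⟩
    · exact Or.inr ⟨h, Or.inr (by rw [← mul_assoc, H.tt, one_mul]; exact hx)⟩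
  refine ⟨P, fun u hu => hu.1, hP, ?_, fun htB => ?_⟩
  · -- `B ⊆ P ∪ t P`
    have h2 : (B : Set G) ⊆ (P : Set G) ∪ (fun w => t * w) '' (P : Set G) := by
      intro x hx
      rcases hcase x hx with h | h
      · exact Or.inl h
      · exact Or.inr ⟨t * x, h, by show t * (t * x) = x; rw [← mul_assoc, H.tt, one_mul]⟩
    have h5 : (B : Set G).ncard ≤ _ := Set.ncard_le_ncard h2 (Set.toFinite _)
    have h6 := Set.ncard_union_le (P : Set G) ((fun w => t * w) '' (P : Set G))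
    have h7 : ((fun w => t * w) '' (P : Set G)).ncard ≤ (P : Set G).ncard := Set.ncard_image_le (Set.toFinite _)
    have h8 : (P : Set G).ncard = Nat.card P := rfl
    have h9 : (B : Set G).ncard = Nat.card B := rfl
    omega
  · apply le_antisymm
    · let φ : B → P := fun x => if hx : (x : G) ∈ P then ⟨x, hx⟩ else ⟨t * x, (hcase x x.2).resolve_left hx⟩
      refine Nat.card_le_card_of_injective φ ?_
      intro x y hxy
      simp only [φ] at hxy
      split_ifs at hxy with h1 h2 h2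
      · exact Subtype.ext (congrArg (fun a : P => (a : G)) hxy)
      · exfalso
        have e : (x : G) = t * y := congrArg (fun a : P => (a : G)) hxy
        apply htB
        have e2 : t = x * (y : G)⁻¹ := by rw [e]; group
        rw [e2]
        exact mul_mem x.2 (inv_mem y.2)
      · exfalso
        have e : t * (x : G) = y := congrArg (fun a : P => (a : G)) hxy
        apply htB
        have e2 : t = y * (x : G)⁻¹ := by rw [← e]; group
        rw [e2]
        exact mul_mem y.2 (inv_mem x.2)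
      · exact Subtype.ext (mul_left_cancel (congrArg (fun a : P => (a : G)) hxy))
    · let ψ : P → B := fun u => if hu : (u : G) ∈ B then ⟨u, hu⟩ else ⟨t * u, u.2.2.resolve_left hu⟩
      refine Nat.card_le_card_of_injective ψ ?_
      intro x y hxy
      simp only [ψ] at hxy
      split_ifs at hxy with h1 h2 h2
      · exact Subtype.ext (congrArg (fun a : B => (a : G)) hxy)
      · exfalso
        have e : (x : G) = t * y := congrArg (fun a : B => (a : G)) hxy
        apply H.tU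
        have e2 : t = x * (y : G)⁻¹ := by rw [e]; group
        rw [e2]
        exact mul_mem x.2.1 (inv_mem y.2.1)
      · exfalso
        have e : t * (x : G) = y := congrArg (fun a : B => (a : G)) hxy
        apply H.tU
        have e2 : t = y * (x : G)⁻¹ := by rw [← e]; group
        rw [e2]
        exact mul_mem y.2.1 (inv_mem x.2.1)
      · exact Subtype.ext (mul_left_cancel (congrArg (fun a : B => (a : G)) hxy))

end Sit

/-- a 2-group, from squares -/
theorem EA.p {H : Subgroup G} (h : EA H) : IsPGroup 2 H := fun x => ⟨1, Subtype.ext (by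
  show (x : G) ^ 2 ^ 1 = 1
  rw [pow_one, pow_two]; exact h.sq x x.2)⟩

/-- `Θ₁` is elementary abelian of order `2¹⁰`, `T`-invariant, with `C_Θ₁(t)` of type `A₁`. -/
structure Ty (t : G) (T A₁ Θ₁ : Subgroup G) : Prop where
  ea : EA Θ₁
  card : Nat.card Θ₁ = 2 ^ 10
  nT : ∀ s ∈ T, ∀ x ∈ Θ₁, s * x * s⁻¹ ∈ Θ₁
  tn : t ∉ Θ₁
  cardB : Nat.card (Θ₁ ⊓ centralizer {t} : Subgroup G) = 2 ^ 5
  typ : ∀ a ∈ A₁, a ∈ Θ₁ ∨ t * a ∈ Θ₁

namespace Sit

variable {t : G} {T U A₁ : Subgroup G} (H : Sit t T U A₁)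

include H

theorem tΘ {Θ : Subgroup G} (hn : ∀ s ∈ T, ∀ x ∈ Θ, s * x * s⁻¹ ∈ Θ) : ∀ x ∈ Θ, t * x * t ∈ Θ := by
  intro x hx
  have := hn t H.tT x hx
  rwa [inv_eq_of_mul_eq_one_left H.tt] at this

/-- `C_Θ(t) ≤ T` -/
theorem fixT {Θ : Subgroup G} (ea : EA Θ) (hn : ∀ s ∈ T, ∀ x ∈ Θ, s * x * s⁻¹ ∈ Θ) : Θ ⊓ centralizer {t} ≤ T := by
  refine H.inT (ea.p.to_le inf_le_left) (fun b hb => mem_centralizer_singleton_iff.1 hb.2) ?_
  intro s hs b hb
  refine mem_inf.2 ⟨hn s hs b hb.1, mem_centralizer_singleton_iff.2 ?_⟩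
  have e1 := H.cT hs
  have e2 := mem_centralizer_singleton_iff.1 hb.2
  have e3 := H.cT (inv_mem hs)
  calc s * b * s⁻¹ * t = s * b * (s⁻¹ * t) := by group
    _ = s * (b * t) * s⁻¹ := by rw [e3]; group
    _ = (s * t) * b * s⁻¹ := by rw [e2]; group
    _ = t * (s * b * s⁻¹) := by rw [e1]; group

/-- `C_T(Θ₁) ≤ Θ₁` -/
theorem ker_T [Finite G] {Θ₁ : Subgroup G} (h : Ty t T A₁ Θ₁) {c : G} (hc : c ∈ T) (hcΘ : ∀ x ∈ Θ₁, c * x = x * c) :
    c ∈ Θ₁ := by
  set B : Subgroup G := Θ₁ ⊓ centralizer {t} with hB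
  have hBT : B ≤ T := H.fixT h.ea h.nT
  let K : Subgroup G := T ⊓ centralizer (Θ₁ : Set G)
  have hK : ∀ x, x ∈ K ↔ x ∈ T ∧ ∀ y ∈ Θ₁, x * y = y * x := by
    intro x
    refine ⟨fun hx => ⟨hx.1, fun y hy => (mem_centralizer_iff.1 hx.2 y hy).symm⟩, fun hx => mem_inf.2 ⟨hx.1, ?_⟩⟩
    rw [mem_centralizer_iff]
    exact fun y hy => (hx.2 y hy).symm
  have htK : t ∉ K := by
    intro htK
    have h1 : B = Θ₁ := by
      refine le_antisymm inf_le_left fun x hx => mem_inf.2 ⟨hx, mem_centralizer_singleton_iff.2 ?_⟩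
      exact (((hK t).1 htK).2 x hx).symm
    have h2 := h.cardB
    rw [← hB, h1, h.card] at h2
    norm_num at h2
  obtain ⟨P, hPU, hP, -, hc2⟩ := H.exists_pr (B := K) inf_le_left
  have hPA : P ≤ A₁ := by
    intro u hu
    obtain ⟨huU, h1⟩ := (hP u).1 hu
    refine H.cA₁ u huU fun a ha => ?_
    have ea : a * t = t * a := H.cU a (H.A₁U ha)
    have eu : u * t = t * u := H.cU u huU
    have key : ∀ y ∈ Θ₁, u * y = y * u ∨ t * u * y = y * (t * u) := fun y hy => by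
      rcases h1 with h1 | h1
      · exact Or.inl (((hK u).1 h1).2 y hy)
      · exact Or.inr (((hK _).1 h1).2 y hy)
    rcases h.typ a ha with h2 | h2
    · rcases key a h2 with h3 | h3
      · exact h3
      · have h4 : t * (u * a) = t * (a * u) := by
          calc t * (u * a) = t * u * a := by group
            _ = (a * t) * u := by rw [h3]; group
            _ = t * (a * u) := by rw [ea]; group
        exact mul_left_cancel h4
    · rcases key _ h2 with h3 | h3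
      · have h4 : t * (u * a) = t * (a * u) := by
          calc t * (u * a) = (t * u) * a := by group
            _ = u * (t * a) := by rw [← eu]; group
            _ = t * (a * u) := by rw [h3]; group
        exact mul_left_cancel h4
      · have h4 : (t * t) * (u * a) = (t * t) * (a * u) := by
          have h5 : t * (t * u) * a = t * (u * t) * a := by rw [eu]
          calc (t * t) * (u * a) = t * (t * u) * a := by group
            _ = t * u * (t * a) := by rw [h5]; group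
            _ = t * a * (t * u) := h3
            _ = t * (a * t) * u := by group
            _ = (t * t) * (a * u) := by rw [ea]; group
        rwa [H.tt, one_mul, one_mul] at h4
  have h1 : Nat.card K ≤ 2 ^ 5 := by
    rw [hc2 htK, ← H.cardA₁]
    exact Subgroup.card_le_of_le hPA
  have h2 : B ≤ K := fun x hx => (hK x).2 ⟨hBT hx, fun y hy => h.ea.ab x hx.1 y hy⟩
  have h3 : B = K := Subgroup.eq_of_le_of_card_ge h2 (by rw [hB, h.cardB]; exact h1)
  have h4 : c ∈ B := by rw [h3]; exact (hK c).2 ⟨hc, hcΘ⟩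
  exact h4.1

/-- `C_G(Θ₁) / Θ₁` has odd order -/
theorem odd_cent [Finite G] {Θ₁ : Subgroup G} (h : Ty t T A₁ Θ₁) {c : G} (hcc : c * c ∈ Θ₁)
    (hcΘ : ∀ x ∈ Θ₁, c * x = x * c) : c ∈ Θ₁ := by
  by_contra hcn
  have tΘ := H.tΘ h.nT
  have hD : ∀ x, x ∈ centralizer (Θ₁ : Set G) ↔ ∀ y ∈ Θ₁, x * y = y * x := fun x => by
    rw [mem_centralizer_iff]
    exact ⟨fun hx y hy => (hx y hy).symm, fun hx y hy => (hx y hy).symm⟩
  obtain ⟨c, hc, hcn, hcc, hcT⟩ := exists_fix_mod (T := T) (Θ := Θ₁) (D := centralizer (Θ₁ : Set G)) H.pT h.nT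
    (by
      intro s hs x hx
      rw [hD] at hx ⊢
      intro y hy
      have h1 := hx _ (h.nT s⁻¹ (inv_mem hs) y hy)
      rw [inv_inv] at h1
      calc s * x * s⁻¹ * y = s * (x * (s⁻¹ * y * s)) * s⁻¹ := by group
        _ = y * (s * x * s⁻¹) := by rw [h1]; group)
    (by
      intro s hs x hx
      rw [(hD s).1 hs x hx, mul_inv_cancel_right]
      exact hx)
    (fun x hx => (hD x).2 fun y hy => h.ea.ab x hx y hy) ⟨c, (hD c).2 hcΘ, hcn, hcc⟩
  have hc' := (hD c).1 hc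
  have ti : t⁻¹ = t := inv_eq_of_mul_eq_one_left H.tt
  have h1 : c⁻¹ * (t * c * t) ∈ Θ₁ := by
    have h2 := hcT t H.tT
    rw [ti] at h2
    have h3 := hc' _ h2
    have e : c⁻¹ * (t * c * t) = t * c * t * c⁻¹ := by
      calc c⁻¹ * (t * c * t) = c⁻¹ * ((t * c * t * c⁻¹) * c) := by group
        _ = c⁻¹ * (c * (t * c * t * c⁻¹)) := by rw [← h3]
        _ = t * c * t * c⁻¹ := by group
    rw [e]; exact h2
  obtain ⟨b, hb, hbt⟩ := adj H.tt h.ea tΘ (m := 2 ^ 5) (by rw [h.card]; norm_num) h.cardB.le h1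
  -- the 2-group `Θ₁ ⟨c⟩ T`
  have hcp : IsPGroup 2 (zpowers c) := by
    apply StdLThreeFour.Syl.isPGroup_zpowers (n := 2)
    have h2 := h.ea.sq _ hcc
    rw [show (2 : ℕ) ^ 2 = 2 + 2 from rfl, pow_add, pow_two]
    exact h2
  have hM : IsPGroup 2 (Θ₁ ⊔ zpowers c : Subgroup G) := by
    refine IsPGroup.to_sup_of_normal_left' h.ea.p hcp ?_
    rw [zpowers_le, mem_normalizer_iff]
    intro x
    constructor
    · intro hx
      rw [hc' x hx, mul_inv_cancel_right]
      exact hx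
    · intro hx
      have h2 := hc' _ hx
      have e : x = c * x * c⁻¹ := by
        have h3 : c * (c * x * c⁻¹) = (c * x * c⁻¹) * c := h2
        have h4 : c * (c * x * c⁻¹) = c * x := by rw [h3]; group
        exact (mul_left_cancel h4).symm
      rw [e]; exact hx
  have hTM : T ≤ normalizer ((Θ₁ ⊔ zpowers c : Subgroup G) : Set G) := by
    have hn : ∀ s ∈ T, ∀ x ∈ (Θ₁ ⊔ zpowers c : Subgroup G), s * x * s⁻¹ ∈ (Θ₁ ⊔ zpowers c : Subgroup G) := by
      intro s hs
      have h2 : (Θ₁ ⊔ zpowers c : Subgroup G) ≤ (Θ₁ ⊔ zpowers c : Subgroup G).comap (MulAut.conj s).toMonoidHom := by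
        refine sup_le ?_ ?_
        · intro x hx
          exact mem_sup_left (h.nT s hs x hx)
        · rw [zpowers_le]
          change s * c * s⁻¹ ∈ (Θ₁ ⊔ zpowers c : Subgroup G)
          have e : s * c * s⁻¹ = (s * c * s⁻¹ * c⁻¹) * c := by group
          rw [e]
          exact mul_mem (mem_sup_left (hcT s hs)) (mem_sup_right (mem_zpowers c))
      exact fun x hx => h2 hx
    intro s hs
    rw [mem_normalizer_iff]
    intro x
    constructor
    · exact hn s hs x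
    · intro hx
      have := hn s⁻¹ (inv_mem hs) _ hx
      have e : s⁻¹ * (s * x * s⁻¹) * s⁻¹⁻¹ = x := by group
      rwa [e] at this
  have hS : IsPGroup 2 ((Θ₁ ⊔ zpowers c) ⊔ T : Subgroup G) := IsPGroup.to_sup_of_normal_left' hM H.pT hTM
  have hST : ((Θ₁ ⊔ zpowers c) ⊔ T) ⊓ centralizer {t} ≤ T :=
    H.syl _ (hS.to_le inf_le_left) (le_inf le_sup_right fun a ha => mem_centralizer_singleton_iff.2 (H.cT ha))
      fun a ha => mem_centralizer_singleton_iff.1 ha.2
  have hcb : c * b ∈ T := hST (mem_inf.2 ⟨mem_sup_left (mul_mem (mem_sup_right (mem_zpowers c)) (mem_sup_left hb)),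
    mem_centralizer_singleton_iff.2 hbt⟩)
  have h5 : c * b ∈ Θ₁ := H.ker_T h hcb fun x hx => by
    calc c * b * x = c * (b * x) := by group
      _ = (c * x) * b := by rw [h.ea.ab b hb x hx]; group
      _ = x * (c * b) := by rw [hc' x hx]; group
  exact hcn (by
    have h6 := mul_mem h5 (inv_mem hb)
    rwa [mul_inv_cancel_right] at h6)

end Sit

end Cfsg.Agent.OddHalf.D7Tits.AltType

end

-- merged: Cfsg.Agent.OddHalf.D7Tits.AltType
section

/-!
# ODD D7, `K = ²F₄(2)'`: the `T`-invariant conjugates of `Θ`, part 2 (helper381; text: bb ODD 16131, 16338)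

* `dich` : a `T`-invariant conjugate of `Θ` is of type `A` or `A₁`; `eq_of_A` : type `A` is `Θ` itself.
* `Bad`, `bad_of` : type `A₁` gives a bad pair `(T₁, t₁)` in `Y = N_G(Θ)/C_G(Θ)`; `Bad.not_le` : a bad `T₁` is not contained
  in `X ≤ Y` if `X` has a suitable normal elementary abelian subgroup.
* `no_ty_out` : there is no type `A₁` in the outer case.
* `tfy` : the field `YH.tfy`.
-/

set_option autoImplicit false
set_option linter.unusedSectionVars false
set_option linter.unusedVariables false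

namespace Cfsg.Agent.OddHalf.D7Tits.AltType

open Subgroup

variable {G : Type*} [Group G]

namespace Sit

variable {t : G} {T U A₁ : Subgroup G} (H : Sit t T U A₁)

include H

/-- **Two types.** -/
theorem dich [Finite G] {A : Subgroup G} (cardA : Nat.card A = 2 ^ 5)
    (K2 : ∀ B : Subgroup G, B ≤ U → EA B → (∀ u ∈ U, ∀ a ∈ B, u * a * u⁻¹ ∈ B) → 2 ^ 5 ≤ Nat.card B → B = A ∨ B = A₁)
    {Θ : Subgroup G} (ea : EA Θ) (card : Nat.card Θ = 2 ^ 10) (nT : ∀ s ∈ T, ∀ x ∈ Θ, s * x * s⁻¹ ∈ Θ) :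
    (t ∉ Θ ∧ Nat.card (Θ ⊓ centralizer {t} : Subgroup G) = 2 ^ 5 ∧ ∀ a ∈ A, a ∈ Θ ∨ t * a ∈ Θ) ∨ Ty t T A₁ Θ := by
  have tn : t ∉ Θ := fun h => H.rank Θ ea h card
  have tΘ := H.tΘ nT
  set B : Subgroup G := Θ ⊓ centralizer {t} with hB
  have hBT : B ≤ T := H.fixT ea nT
  have hBc : 2 ^ 5 ≤ Nat.card B := card_fix H.tt ea tΘ (m := 2 ^ 5) (by rw [card]; norm_num)
  have htB : t ∉ B := fun h => tn h.1
  obtain ⟨P, hPU, hP, -, hc2⟩ := H.exists_pr hBT
  have hcP := hc2 htB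
  -- commuting with `t`
  have hc : ∀ u ∈ P, u * t = t * u := fun u hu => H.cU u (hPU hu)
  have hsq : ∀ u ∈ P, u * u = 1 := by
    intro u hu
    rcases ((hP u).1 hu).2 with h1 | h1
    · exact ea.sq u h1.1
    · have h2 := ea.sq _ h1.1
      have e : t * u * (t * u) = u * u := by
        calc t * u * (t * u) = t * (u * t) * u := by group
          _ = (t * t) * (u * u) := by rw [hc u hu]; group
          _ = u * u := by rw [H.tt, one_mul]
      rwa [e] at h2
  have hcomm1 : ∀ u v : G, u * t = t * u → v * t = t * v → t * u * v = v * (t * u) → u * v = v * u := by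
    intro u v h1 h2 h3
    have h4 : t * (u * v) = t * (v * u) := by
      calc t * (u * v) = t * u * v := by group
        _ = v * t * u := by rw [h3]; group
        _ = t * (v * u) := by rw [h2]; group
    exact mul_left_cancel h4
  have hab : ∀ u ∈ P, ∀ v ∈ P, u * v = v * u := by
    intro u hu v hv
    have e1 := hc u hu
    have e2 := hc v hv
    rcases ((hP u).1 hu).2 with h1 | h1 <;> rcases ((hP v).1 hv).2 with h2 | h2
    · exact ea.ab u h1.1 v h2.1
    · exact (hcomm1 v u e2 e1 (ea.ab _ h2.1 _ h1.1)).symm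
    · exact hcomm1 u v e1 e2 (ea.ab _ h1.1 _ h2.1)
    · have h3 := ea.ab _ h1.1 _ h2.1
      have h5 : ∀ a b : G, a * t = t * a → t * a * (t * b) = a * b := fun a b hab => by
        calc t * a * (t * b) = t * (a * t) * b := by group
          _ = (t * t) * (a * b) := by rw [hab]; group
          _ = a * b := by rw [H.tt, one_mul]
      rwa [h5 u v e1, h5 v u e2] at h3
  have hnor : ∀ u ∈ U, ∀ a ∈ P, u * a * u⁻¹ ∈ P := by
    intro u hu a ha
    obtain ⟨haU, h1⟩ := (hP a).1 ha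
    refine (hP _).2 ⟨mul_mem (mul_mem hu haU) (inv_mem hu), ?_⟩
    have e1 := H.cU u hu
    have hBn : ∀ b ∈ B, u * b * u⁻¹ ∈ B := by
      intro b hb
      refine mem_inf.2 ⟨nT u (H.UT hu) b hb.1, mem_centralizer_singleton_iff.2 ?_⟩
      have e2 := mem_centralizer_singleton_iff.1 hb.2
      have e3 := H.cU _ (inv_mem hu)
      calc u * b * u⁻¹ * t = u * b * (u⁻¹ * t) := by group
        _ = u * (b * t) * u⁻¹ := by rw [e3]; group
        _ = (u * t) * b * u⁻¹ := by rw [e2]; group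
        _ = t * (u * b * u⁻¹) := by rw [e1]; group
    rcases h1 with h1 | h1
    · exact Or.inl (hBn a h1)
    · right
      have h2 := hBn _ h1
      have e : u * (t * a) * u⁻¹ = t * (u * a * u⁻¹) := by rw [← mul_assoc, e1]; group
      rwa [e] at h2
  have htyp : ∀ a ∈ P, a ∈ Θ ∨ t * a ∈ Θ := by
    intro a ha
    rcases ((hP a).1 ha).2 with h1 | h1
    · exact Or.inl h1.1
    · exact Or.inr h1.1
  rcases K2 P hPU ⟨hab, hsq⟩ hnor (by rw [← hcP]; exact hBc) with h | h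
  · left
    refine ⟨tn, ?_, by rw [← h]; exact htyp⟩
    rw [hcP, h, cardA]
  · right
    exact ⟨ea, card, nT, tn, by rw [← hB, hcP, h, H.cardA₁], by rw [← h]; exact htyp⟩

/-- **Type `A` is `Θ`.** -/
theorem eq_of_A [Finite G] {A J Θ Θ₁ : Subgroup G} {V : Set G} (cardA : Nat.card A = 2 ^ 5) (AU : A ≤ U)
    (ea : EA Θ) (card : Nat.card Θ = 2 ^ 10) (nT : ∀ s ∈ T, ∀ x ∈ Θ, s * x * s⁻¹ ∈ Θ) (AΘ : A ≤ Θ)
    (fix : ∀ a ∈ Θ, a * t = t * a → a ∈ A) (gen : A ≤ closure V) (VA : V ⊆ A) (fus : ∀ v ∈ V, ∃ m : G, m⁻¹ * t * m = t * v)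
    (cJ : ∀ c : G, c * t = t * c → (∀ a ∈ A, c * a = a * c) → ∃ j ∈ J, c = j ∨ c = t * j)
    (JΘ : ∀ j ∈ J, ∀ x ∈ Θ, j * x = x * j) (Jt : ∀ j ∈ J, j * t = t * j) (Jsq : ∀ j ∈ J, j * j = 1 → j ∈ A)
    {g : G} (hg : Θ₁ = cj g Θ) (nT₁ : ∀ s ∈ T, ∀ x ∈ Θ₁, s * x * s⁻¹ ∈ Θ₁)
    (hB : Nat.card (Θ₁ ⊓ centralizer {t} : Subgroup G) = 2 ^ 5) (hA : ∀ a ∈ A, a ∈ Θ₁ ∨ t * a ∈ Θ₁) : Θ₁ = Θ := by
  have ea₁ : EA Θ₁ := hg ▸ ea.cj g
  have card₁ : Nat.card Θ₁ = 2 ^ 10 := by rw [hg, card_cj, card]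
  -- `t` is in no conjugate of `Θ`
  have hno : ∀ k : G, t ∉ cj k Θ := fun k hk => H.rank _ (ea.cj k) hk (by rw [card_cj, card])
  have tn : t ∉ Θ₁ := hg ▸ hno g
  have tΘ := H.tΘ nT
  have hAR : A ≤ Θ₁ := by
    refine gen.trans ((Subgroup.closure_le _).2 fun v hv => ?_)
    rcases hA v (VA hv) with h1 | h1
    · exact h1
    · exfalso
      obtain ⟨m, hm⟩ := fus v hv
      apply hno (m * g)
      rw [mem_cj]
      rw [hg, mem_cj, ← hm] at h1
      have e : (m * g)⁻¹ * t * (m * g) = g⁻¹ * (m⁻¹ * t * m) * g := by group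
      rw [e]
      exact h1
  have hBA : A = Θ₁ ⊓ centralizer {t} := by
    apply Subgroup.eq_of_le_of_card_ge
    · exact fun a ha => mem_inf.2 ⟨hAR ha, mem_centralizer_singleton_iff.2 (H.cU a (AU ha))⟩
    · rw [hB, cardA]
  have hfixA : Nat.card (Θ ⊓ centralizer {t} : Subgroup G) ≤ 2 ^ 5 := by
    rw [← cardA]
    exact Subgroup.card_le_of_le fun a ha => fix a ha.1 (mem_centralizer_singleton_iff.1 ha.2)
  have tΘ₁ := H.tΘ nT₁
  -- the elements of `Θ₁`
  have hform : ∀ y ∈ Θ₁, ∃ x ∈ Θ, ∃ j ∈ J, y = x * j ∨ y = x * (t * j) := by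
    intro y hy
    have h1 : y⁻¹ * (t * y * t) ∈ Θ := by
      apply AΘ
      rw [hBA]
      refine mem_inf.2 ⟨mul_mem (inv_mem hy) (tΘ₁ y hy), mem_centralizer_singleton_iff.2 ?_⟩
      apply comm_of_conj H.tt
      rw [conj_mul H.tt, ea₁.inv hy, conj_conj H.tt]
      exact ea₁.ab _ (tΘ₁ y hy) _ hy
    obtain ⟨b, hb, hbt⟩ := adj H.tt ea tΘ (m := 2 ^ 5) (by rw [card]; norm_num) hfixA h1
    obtain ⟨j, hj, h2⟩ := cJ (y * b) hbt fun a ha => by
      calc y * b * a = y * (b * a) := by group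
        _ = (y * a) * b := by rw [ea.ab b hb a (AΘ ha)]; group
        _ = a * (y * b) := by rw [ea₁.ab y hy a (hAR ha)]; group
    have h3 : y = b * (y * b)⁻¹ := by
      rw [mul_inv_rev, ea₁.inv hy, ← mul_assoc, mul_inv_cancel, one_mul]
    refine ⟨b, hb, j⁻¹, inv_mem hj, ?_⟩
    rcases h2 with h2 | h2
    · left
      rw [h2] at h3
      exact h3
    · right
      have h4 : (y * b)⁻¹ = t * j⁻¹ := by
        rw [h2, mul_inv_rev, inv_eq_of_mul_eq_one_left H.tt, Jt _ (inv_mem hj)]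
      rw [h4] at h3
      exact h3
  have h0 : ∀ x ∈ Θ, ∀ j ∈ J, x * j ∈ Θ₁ → x * j ∈ Θ := by
    intro x hx j hj hR
    have h1 := ea₁.sq _ hR
    have h2 : x * j * (x * j) = (x * x) * (j * j) := by
      calc x * j * (x * j) = x * (j * x) * j := by group
        _ = (x * x) * (j * j) := by rw [JΘ j hj x hx]; group
    rw [h2, ea.sq x hx, one_mul] at h1
    exact mul_mem hx (AΘ (Jsq j hj h1))
  have hle : Θ₁ ≤ Θ := by
    intro y hy
    obtain ⟨x, hx, j, hj, e | e⟩ := hform y hy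
    · rw [e]
      exact h0 x hx j hj (e ▸ hy)
    · exfalso
      -- `Θ₁ ∩ Θ ≤ A`
      have h1 : Θ₁ ⊓ Θ ≤ A := by
        intro w hw
        refine fix w hw.2 ?_
        have h2 := ea₁.ab y hy w hw.1
        have h3 := ea.ab x hx w hw.2
        have h4 := JΘ j hj w hw.2
        rw [e] at h2
        have h5 : x * (t * w * j) = x * (w * t * j) := by
          calc x * (t * w * j) = x * t * (w * j) := by group
            _ = x * (t * j) * w := by rw [← h4]; group
            _ = w * (x * (t * j)) := h2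
            _ = (w * x) * t * j := by group
            _ = x * (w * t * j) := by rw [← h3]; group
        exact (mul_right_cancel (mul_left_cancel h5)).symm
      -- index at most two
      have h2 : (Θ₁ : Set G) ⊆ (Θ₁ ⊓ Θ : Subgroup G) ∪ (fun w => y * w) '' (Θ₁ ⊓ Θ : Subgroup G) := by
        intro w hw
        obtain ⟨x', hx', j', hj', e' | e'⟩ := hform w hw
        · left
          exact ⟨hw, by rw [e']; exact h0 x' hx' j' hj' (e' ▸ hw)⟩
        · right
          refine ⟨y⁻¹ * w, ?_, by group⟩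
          have hyw : y * w ∈ Θ₁ := mul_mem hy hw
          have e3 : y * w = (x * (t * x' * t)) * (j * j') := by
            rw [e, e']
            have h6 := JΘ j hj x' hx'
            have h7 := Jt j hj
            calc x * (t * j) * (x' * (t * j')) = x * t * (j * x') * t * j' := by group
              _ = x * t * x' * (j * t) * j' := by rw [h6]; group
              _ = (x * (t * x' * t)) * (j * j') := by rw [h7]; group
          refine mem_inf.2 ⟨mul_mem (inv_mem hy) hw, ?_⟩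
          rw [ea₁.inv hy]
          have h8 : (x * (t * x' * t)) * (j * j') ∈ Θ₁ := by rw [← e3]; exact hyw
          rw [e3]
          exact h0 _ (mul_mem hx (tΘ x' hx')) _ (mul_mem hj hj') h8
      have h3 : Nat.card Θ₁ ≤ 2 ^ 5 + 2 ^ 5 := by
        have h4 : Nat.card (Θ₁ ⊓ Θ : Subgroup G) ≤ 2 ^ 5 := by
          rw [← cardA]
          exact Subgroup.card_le_of_le h1
        have h5 : (Θ₁ : Set G).ncard ≤ _ := Set.ncard_le_ncard h2 (Set.toFinite _)
        have h6 := Set.ncard_union_le ((Θ₁ ⊓ Θ : Subgroup G) : Set G)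
          ((fun w => y * w) '' (Θ₁ ⊓ Θ : Subgroup G))
        have h7 : ((fun w => y * w) '' ((Θ₁ ⊓ Θ : Subgroup G) : Set G)).ncard ≤
          ((Θ₁ ⊓ Θ : Subgroup G) : Set G).ncard := Set.ncard_image_le (Set.toFinite _)
        have h8 : ((Θ₁ ⊓ Θ : Subgroup G) : Set G).ncard = Nat.card (Θ₁ ⊓ Θ : Subgroup G) := rfl
        have h9 : (Θ₁ : Set G).ncard = Nat.card Θ₁ := rfl
        omega
      rw [card₁] at h3
      norm_num at h3
  exact Subgroup.eq_of_le_of_card_ge hle (by rw [card, card₁])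

end Sit

/-! ### Bad pairs -/

/-- A bad pair in `Y` (helper961, ODD #16338). -/
structure Bad {Y : Type*} [Group Y] (T₁ : Subgroup Y) (t₁ : Y) : Prop where
  mem : t₁ ∈ T₁
  tt : t₁ * t₁ = 1
  cen : ∀ c ∈ T₁, c * t₁ = t₁ * c
  card : 2 ^ 7 ≤ Nat.card T₁
  pT : IsPGroup 2 T₁
  syl : ∀ P : Subgroup Y, IsPGroup 2 P → T₁ ≤ P → (∀ p ∈ P, p * t₁ = t₁ * p) → P = T₁
  rank : ∀ E : Subgroup Y, E ≤ T₁ → (∀ s ∈ T₁, ∀ e ∈ E, s * e * s⁻¹ ∈ E) → (∀ e ∈ E, e * e = 1) → Nat.card E ≤ 16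

theorem card_comap {A B : Type*} [Group A] [Group B] [Finite A] [Finite B] (f : A →* B) {E : Subgroup B}
    (hE : E ≤ f.range) : Nat.card (E.comap f) = Nat.card E * Nat.card f.ker := by
  have h1 := Subgroup.card_mul_index (E.comap f)
  rw [Subgroup.index_comap] at h1
  have h2 := Subgroup.card_mul_index f.ker
  rw [Subgroup.index_ker] at h2
  have h3 : Nat.card E * E.relIndex f.range = Nat.card f.range := by
    rw [← Subgroup.relIndex_bot_left E, ← Subgroup.relIndex_bot_left f.range]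
    exact Subgroup.relIndex_mul_relIndex _ _ _ bot_le hE
  have h4 : E.relIndex f.range ≠ 0 := by
    intro h0
    rw [h0, mul_zero] at h3
    exact (Nat.card_pos (α := f.range)).ne h3
  have h5 : Nat.card (E.comap f) * E.relIndex f.range = Nat.card E * Nat.card f.ker * E.relIndex f.range := by
    rw [h1, ← h2, ← h3]; ring
  exact Nat.eq_of_mul_eq_mul_right (Nat.pos_of_ne_zero h4) h5

/-- `|B| ≤ |C_B(t)|²` -/
theorem card_le_sq [Finite G] {t : G} (tt : t * t = 1) {B : Subgroup G} (ea : EA B) (tB : ∀ x ∈ B, t * x * t ∈ B) :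
    Nat.card B ≤ Nat.card (B ⊓ centralizer {t} : Subgroup G) * Nat.card (B ⊓ centralizer {t} : Subgroup G) := by
  set C : Subgroup G := B ⊓ centralizer {t} with hCdef
  have hbr : ∀ b ∈ B, b * (t * b * t) ∈ C := fun b hb => by
    refine mem_inf.2 ⟨mul_mem hb (tB b hb), ?_⟩
    rw [mem_centralizer_singleton_iff]
    apply comm_of_conj tt
    rw [conj_mul tt, conj_conj tt, ea.ab _ (tB b hb) _ hb]
  let f : B →* C :=
    { toFun := fun b => ⟨b * (t * b * t), hbr b b.2⟩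
      map_one' := Subtype.ext (by show (1 : G) * (t * 1 * t) = 1; rw [mul_one, tt, one_mul])
      map_mul' := fun x y => Subtype.ext (by
        show (x : G) * y * (t * (x * y) * t) = x * (t * x * t) * (y * (t * y * t))
        rw [conj_mul tt]
        calc (x : G) * y * (t * x * t * (t * y * t)) = x * (y * (t * x * t)) * (t * y * t) := by group
          _ = _ := by rw [ea.ab _ y.2 _ (tB x x.2)]; group) }
  have hk : Nat.card f.ker ≤ Nat.card C := by
    refine Nat.card_le_card_of_injective (fun x => (⟨((x : B) : G), mem_inf.2 ⟨(x : B).2, ?_⟩⟩ : C)) ?_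
    · have h1 : (((x : B)) : G) * (t * ((x : B) : G) * t) = 1 := congrArg Subtype.val x.2
      rw [mem_centralizer_singleton_iff]
      apply comm_of_conj tt
      rw [← inv_eq_of_mul_eq_one_right h1, ea.inv (x : B).2]
    · intro x y hxy
      exact Subtype.ext (Subtype.ext (congrArg (fun b : C => (b : G)) hxy))
  have h1 := Subgroup.card_mul_index f.ker
  rw [Subgroup.index_ker] at h1
  have hr : Nat.card f.range ≤ Nat.card C := Nat.card_le_card_of_injective _ f.range.subtype_injective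
  rw [← h1]
  exact Nat.mul_le_mul hk hr

namespace Bad

variable {Y : Type*} [Group Y] [Finite Y] {T₁ : Subgroup Y} {t₁ : Y} (H : Bad T₁ t₁)

include H

/-- a 2-group in `C(t₁)` normalised by `T₁` is contained in `T₁` -/
theorem inT {B : Subgroup Y} (hB : IsPGroup 2 B) (hBt : ∀ b ∈ B, b * t₁ = t₁ * b)
    (hn : ∀ s ∈ T₁, ∀ b ∈ B, s * b * s⁻¹ ∈ B) : B ≤ T₁ := by
  have h1 : T₁ ≤ normalizer (B : Set Y) := by
    intro s hs
    rw [mem_normalizer_iff]
    intro x
    constructor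
    · exact hn s hs x
    · intro hx
      have := hn s⁻¹ (inv_mem hs) _ hx
      have e : s⁻¹ * (s * x * s⁻¹) * s⁻¹⁻¹ = x := by group
      rwa [e] at this
  have h2 : IsPGroup 2 (B ⊔ T₁ : Subgroup Y) := IsPGroup.to_sup_of_normal_left' hB H.pT h1
  have h3 : B ⊔ T₁ ≤ centralizer {t₁} := sup_le (fun b hb => mem_centralizer_singleton_iff.2 (hBt b hb))
    fun b hb => mem_centralizer_singleton_iff.2 (H.cen b hb)
  have h4 := H.syl _ h2 le_sup_right fun a ha => mem_centralizer_singleton_iff.1 (h3 ha)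
  exact h4 ▸ le_sup_left

/-- **A bad `T₁` is in no `X` with a suitable normal elementary abelian subgroup.** -/
theorem not_le {X B : Subgroup Y} (hBX : B ≤ X) (hn : ∀ g ∈ X, ∀ b ∈ B, g * b * g⁻¹ ∈ B) (hsq : ∀ b ∈ B, b * b = 1)
    (hc : 2 ^ 7 ≤ Nat.card B ∨ 2 ^ 5 ≤ Nat.card B ∧ ∀ S : Subgroup Y, S ≤ X → IsPGroup 2 S → Nat.card S ≤ 2 ^ 8) :
    ¬ T₁ ≤ X := by
  intro hTX
  have ea : EA B := by
    refine ⟨fun x hx y hy => ?_, hsq⟩
    have h1 := hsq _ (mul_mem hx hy)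
    have e1 : x⁻¹ = x := inv_eq_of_mul_eq_one_left (hsq x hx)
    have e2 : y⁻¹ = y := inv_eq_of_mul_eq_one_left (hsq y hy)
    have h2 : x * y = (x * y)⁻¹ := (inv_eq_of_mul_eq_one_left h1).symm
    rw [mul_inv_rev, e1, e2] at h2
    exact h2
  have hB5 : 2 ^ 5 ≤ Nat.card B := by
    rcases hc with h | h
    · exact le_trans (by norm_num) h
    · exact h.1
  have ti : t₁⁻¹ = t₁ := inv_eq_of_mul_eq_one_left H.tt
  have htX : t₁ ∈ X := hTX H.mem
  have tB : ∀ x ∈ B, t₁ * x * t₁ ∈ B := fun x hx => by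
    have := hn t₁ htX x hx
    rwa [ti] at this
  set C : Subgroup Y := B ⊓ centralizer {t₁} with hC
  have hCp : IsPGroup 2 C := ea.p.to_le inf_le_left
  have hCn : ∀ s ∈ T₁, ∀ b ∈ C, s * b * s⁻¹ ∈ C := by
    intro s hs b hb
    refine mem_inf.2 ⟨hn s (hTX hs) b hb.1, mem_centralizer_singleton_iff.2 ?_⟩
    have e1 := H.cen s hs
    have e2 := mem_centralizer_singleton_iff.1 hb.2
    have e3 := H.cen _ (inv_mem hs)
    calc s * b * s⁻¹ * t₁ = s * b * (s⁻¹ * t₁) := by group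
      _ = s * (b * t₁) * s⁻¹ := by rw [e3]; group
      _ = (s * t₁) * b * s⁻¹ := by rw [e2]; group
      _ = t₁ * (s * b * s⁻¹) := by rw [e1]; group
  have hCT : C ≤ T₁ := H.inT hCp (fun b hb => mem_centralizer_singleton_iff.1 hb.2) hCn
  -- `t₁ ∉ B`
  have htB : t₁ ∉ B := by
    intro h
    have h1 : B ≤ C := fun b hb => mem_inf.2 ⟨hb, mem_centralizer_singleton_iff.2 (ea.ab b hb t₁ h)⟩
    have h2 := H.rank B (h1.trans hCT) (fun s hs b hb => hn s (hTX hs) b hb) hsq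
    omega
  -- `C ⟨t₁⟩` is elementary abelian of order `2 |C|`
  have hC8 : Nat.card C ≤ 8 := by
    have hct : ∀ c ∈ C, c * t₁ = t₁ * c := fun c hc => mem_centralizer_singleton_iff.1 hc.2
    let E : Subgroup Y :=
      { carrier := {x | x ∈ C ∨ t₁ * x ∈ C}
        one_mem' := Or.inl (one_mem _)
        mul_mem' := by
          rintro u v h1 h2
          rcases h1 with h1 | h1 <;> rcases h2 with h2 | h2
          · exact Or.inl (mul_mem h1 h2)
          · right
            have := mul_mem h1 h2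
            have e : u * (t₁ * v) = t₁ * (u * v) := by rw [← mul_assoc, hct u h1, mul_assoc]
            rwa [e] at this
          · right
            have := mul_mem h1 h2
            rwa [mul_assoc] at this
          · left
            have := mul_mem h1 h2
            have e : t₁ * u * (t₁ * v) = u * v := by
              have e1 := hct _ h1
              calc t₁ * u * (t₁ * v) = (t₁ * u * t₁) * v := by group
                _ = (t₁ * t₁) * (u * v) := by rw [e1]; group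
                _ = u * v := by rw [H.tt, one_mul]
            rwa [e] at this
        inv_mem' := by
          rintro u h1
          rcases h1 with h1 | h1
          · exact Or.inl (inv_mem h1)
          · right
            have := inv_mem h1
            have e : (t₁ * u)⁻¹ = t₁ * u⁻¹ := by
              have e1 := hct _ this
              have e2 : (t₁ * u)⁻¹ = u⁻¹ * t₁ := by rw [mul_inv_rev, ti]
              rw [e2] at e1 ⊢
              calc u⁻¹ * t₁ = (t₁ * t₁) * (u⁻¹ * t₁) := by rw [H.tt, one_mul]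
                _ = t₁ * (t₁ * (u⁻¹ * t₁)) := by group
                _ = t₁ * (u⁻¹ * t₁ * t₁) := by rw [← e1]
                _ = t₁ * (u⁻¹ * (t₁ * t₁)) := by group
                _ = t₁ * u⁻¹ := by rw [H.tt, mul_one]
            rwa [e] at this }
    have hE : ∀ x, x ∈ E ↔ x ∈ C ∨ t₁ * x ∈ C := fun x => Iff.rfl
    have hET : E ≤ T₁ := by
      intro x hx
      rcases hx with h | h
      · exact hCT h
      · have := mul_mem H.mem (hCT h)
        rwa [← mul_assoc, H.tt, one_mul] at this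
    have hEsq : ∀ e ∈ E, e * e = 1 := by
      intro x hx
      rcases hx with h | h
      · exact hsq x h.1
      · have h1 := hsq _ h.1
        have e1 := hct _ h
        -- `(t₁ x)(t₁ x) = 1`, `t₁ x` commutes with `t₁`
        have e2 : x = t₁ * (t₁ * x) := by rw [← mul_assoc, H.tt, one_mul]
        calc x * x = t₁ * (t₁ * x) * (t₁ * (t₁ * x)) := by rw [← e2]
          _ = t₁ * ((t₁ * x) * t₁) * (t₁ * x) := by group
          _ = (t₁ * t₁) * ((t₁ * x) * (t₁ * x)) := by rw [e1]; group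
          _ = 1 := by rw [H.tt, h1, one_mul]
    have hEn : ∀ s ∈ T₁, ∀ e ∈ E, s * e * s⁻¹ ∈ E := by
      intro s hs e he
      rcases he with h | h
      · exact Or.inl (hCn s hs e h)
      · right
        have h1 := hCn s hs _ h
        have e1 : s * (t₁ * e) * s⁻¹ = t₁ * (s * e * s⁻¹) := by
          have := H.cen s hs
          calc s * (t₁ * e) * s⁻¹ = (s * t₁) * e * s⁻¹ := by group
            _ = t₁ * (s * e * s⁻¹) := by rw [this]; group
        rwa [e1] at h1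
    have h1 := H.rank E hET hEn hEsq
    -- `|E| = 2 |C|`
    have hCE : C ≤ E := fun x hx => Or.inl hx
    have h2 : 2 * Nat.card C ≤ Nat.card E := by
      have h3 := Subgroup.card_mul_index (C.subgroupOf E)
      have h4 : Nat.card (C.subgroupOf E) = Nat.card C := Nat.card_congr (Subgroup.subgroupOfEquivOfLe hCE).toEquiv
      rw [h4] at h3
      have h5 : (C.subgroupOf E).index ≠ 1 := by
        rw [Ne, Subgroup.index_eq_one]
        intro h6
        have h7 : (⟨t₁, Or.inr (by rw [H.tt]; exact one_mem _)⟩ : E) ∈ C.subgroupOf E := by rw [h6]; exact mem_top _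
        exact htB (mem_subgroupOf.1 h7).1
      have h6 : (C.subgroupOf E).index ≠ 0 := Subgroup.index_ne_zero_of_finite
      have h7 : 2 ≤ (C.subgroupOf E).index := by omega
      rw [← h3, mul_comm]
      exact Nat.mul_le_mul_left _ h7
    omega
  have hB64 : Nat.card B ≤ 64 := by
    have h1 := card_le_sq H.tt ea tB
    rw [← hC] at h1
    exact h1.trans (le_trans (Nat.mul_le_mul hC8 hC8) (by norm_num))
  rcases hc with h | ⟨h, h'⟩
  · have : (2 : ℕ) ^ 7 = 128 := by norm_num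
    omega
  · -- the 2-group `B T₁`
    have h1 : T₁ ≤ normalizer (B : Set Y) := by
      intro s hs
      rw [mem_normalizer_iff]
      intro x
      constructor
      · exact hn s (hTX hs) x
      · intro hx
        have := hn s⁻¹ (inv_mem (hTX hs)) _ hx
        have e : s⁻¹ * (s * x * s⁻¹) * s⁻¹⁻¹ = x := by group
        rwa [e] at this
    have h2 : IsPGroup 2 (B ⊔ T₁ : Subgroup Y) := IsPGroup.to_sup_of_normal_left' ea.p H.pT h1
    have h3 := h' _ (sup_le hBX hTX) h2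
    -- `|B T₁| |B ∩ T₁| = |B| |T₁|`
    have h4 : Nat.card B * Nat.card T₁ ≤ Nat.card (B ⊔ T₁ : Subgroup Y) * Nat.card (B ⊓ T₁ : Subgroup Y) := by
      have h5 : T₁.relIndex B = (T₁ ⊓ B).relIndex B := (Subgroup.inf_relIndex_right T₁ B).symm
      have h6 : Nat.card (T₁ ⊓ B : Subgroup Y) * (T₁ ⊓ B).relIndex B = Nat.card B := by
        rw [← Subgroup.relIndex_bot_left (T₁ ⊓ B), ← Subgroup.relIndex_bot_left B]
        exact Subgroup.relIndex_mul_relIndex _ _ _ bot_le inf_le_right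
      have h7 : Nat.card T₁ * T₁.relIndex (B ⊔ T₁) = Nat.card (B ⊔ T₁ : Subgroup Y) := by
        rw [← Subgroup.relIndex_bot_left T₁, ← Subgroup.relIndex_bot_left (B ⊔ T₁)]
        exact Subgroup.relIndex_mul_relIndex _ _ _ bot_le le_sup_right
      have h8 : T₁.relIndex B ≤ T₁.relIndex (B ⊔ T₁) := Subgroup.relIndex_le_of_le_right le_sup_left
        (by
          intro h0
          rw [h0, mul_zero] at h7
          exact (Nat.card_pos (α := (B ⊔ T₁ : Subgroup Y))).ne h7)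
      rw [inf_comm B T₁, ← h6, ← h7, ← h5]
      calc Nat.card (T₁ ⊓ B : Subgroup Y) * T₁.relIndex B * Nat.card T₁
          = Nat.card T₁ * T₁.relIndex B * Nat.card (T₁ ⊓ B : Subgroup Y) := by ring
        _ ≤ _ := Nat.mul_le_mul_right _ (Nat.mul_le_mul_left _ h8)
    have h5 : Nat.card (B ⊓ T₁ : Subgroup Y) ≤ 8 := by
      refine le_trans (Subgroup.card_le_of_le ?_) hC8
      exact fun x hx => mem_inf.2 ⟨hx.1, mem_centralizer_singleton_iff.2 (H.cen x hx.2)⟩
    have h6 : Nat.card (B ⊔ T₁ : Subgroup Y) * Nat.card (B ⊓ T₁ : Subgroup Y) ≤ 2 ^ 8 * 8 := Nat.mul_le_mul h3 h5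
    have h7 : 2 ^ 5 * 2 ^ 7 ≤ Nat.card B * Nat.card T₁ := Nat.mul_le_mul h H.card
    norm_num at h6 h7 h4
    omega

end Bad

namespace Sit

variable {t : G} {T U A₁ : Subgroup G} (H : Sit t T U A₁)

include H

/-- a 2-element of `C_G(Θ₁)` is in `Θ₁` -/
theorem two_elt [Finite G] {Θ₁ : Subgroup G} (h : Ty t T A₁ Θ₁) {k : ℕ} : ∀ {c : G}, c ^ 2 ^ k = 1 →
    (∀ x ∈ Θ₁, c * x = x * c) → c ∈ Θ₁ := by
  induction k with
  | zero =>
    intro c hc _
    rw [pow_zero, pow_one] at hc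
    rw [hc]; exact one_mem _
  | succ k ih =>
    intro c hc hcc
    refine H.odd_cent h (ih (c := c * c) ?_ ?_) hcc
    · rw [← pow_two, ← pow_mul, ← pow_succ']
      exact hc
    · intro x hx
      have h1 := hcc x hx
      calc c * c * x = c * (c * x) := by group
        _ = (c * x) * c := by rw [h1]; group; rw [← h1]
        _ = x * (c * c) := by rw [h1]; group

/-- **Type `A₁` gives a bad pair.** -/
theorem bad_of [Finite G] (cardT : 2 ^ 12 ≤ Nat.card T)
    (KA : ∀ N : Subgroup G, N ≤ U → A₁ ≤ N → (∀ x ∈ N, x * x ∈ A₁) → (∀ u ∈ U, ∀ x ∈ N, u * x * u⁻¹ ∈ N) →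
      Nat.card N < 2 ^ 9)
    {Θ₁ : Subgroup G} (h : Ty t T A₁ Θ₁) {N₁ : Subgroup G} (hTN : T ≤ N₁) (hΘN : Θ₁ ≤ N₁) {Y : Type*} [Group Y] [Finite Y]
    (f : N₁ →* Y) (hf : Function.Surjective f) (hker : ∀ y : N₁, f y = 1 ↔ ∀ x ∈ Θ₁, (y : G) * x = x * y) :
    Bad ((T.subgroupOf N₁).map f) (f ⟨t, hTN H.tT⟩) := by
  classical
  have tΘ := H.tΘ h.nT
  have ti : t⁻¹ = t := inv_eq_of_mul_eq_one_left H.tt
  set B : Subgroup G := Θ₁ ⊓ centralizer {t} with hB
  have hBT : B ≤ T := H.fixT h.ea h.nT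
  have htB : t ∉ B := fun h' => h.tn h'.1
  -- `T → Y`
  let φ : T →* Y := f.comp (Subgroup.inclusion hTN)
  have hφ : ∀ a : T, φ a = f ⟨a, hTN a.2⟩ := fun a => rfl
  have hrange : φ.range = (T.subgroupOf N₁).map f := by
    ext y
    constructor
    · rintro ⟨a, rfl⟩
      exact ⟨⟨a, hTN a.2⟩, a.2, rfl⟩
    · rintro ⟨a, ha, rfl⟩
      exact ⟨⟨a, ha⟩, rfl⟩
  have hkerφ : ∀ a : T, φ a = 1 ↔ (a : G) ∈ B := by
    intro a
    rw [hφ, hker]
    constructor
    · intro h1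
      exact mem_inf.2 ⟨H.ker_T h a.2 h1, mem_centralizer_singleton_iff.2 (H.cT a.2)⟩
    · intro h1 x hx
      exact h.ea.ab a h1.1 x hx
  have hcker : Nat.card φ.ker = 2 ^ 5 := by
    rw [← h.cardB]
    refine Nat.card_congr ⟨fun x => ⟨x.1.1, (hkerφ x.1).1 x.2⟩, fun x => ⟨⟨x.1, hBT x.2⟩, (hkerφ _).2 x.2⟩,
      fun x => rfl, fun x => rfl⟩
  have hcr : 2 ^ 7 ≤ Nat.card φ.range := by
    have h1 := Subgroup.card_mul_index φ.ker
    rw [Subgroup.index_ker, hcker] at h1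
    rw [← h1] at cardT
    norm_num at cardT ⊢
    omega
  refine ⟨⟨⟨t, hTN H.tT⟩, H.tT, rfl⟩, ?_, ?_, by rw [← hrange]; exact hcr,
    (IsPGroup.comap_of_injective H.pT N₁.subtype N₁.subtype_injective).map f, ?_, ?_⟩
  · rw [← map_mul]
    have e : (⟨t, hTN H.tT⟩ : N₁) * ⟨t, hTN H.tT⟩ = 1 := Subtype.ext H.tt
    rw [e, map_one]
  · rintro _ ⟨a, ha, rfl⟩
    rw [← map_mul, ← map_mul]
    congr 1
    exact Subtype.ext (H.cT ha)
  · -- Sylow
    intro P hP hTP hPt
    have : Fact (Nat.Prime 2) := ⟨Nat.prime_two⟩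
    refine le_antisymm ?_ hTP
    -- the preimage of `P`, a Sylow 2-subgroup of it containing `T Θ₁`
    let M : Subgroup N₁ := P.comap f
    let g : M →* P := f.subgroupComap P
    have hg : Function.Surjective g := MonoidHom.subgroupComap_surjective_of_surjective f P hf
    have hΘT : T ≤ normalizer (Θ₁ : Set G) := by
      intro s hs
      rw [mem_normalizer_iff]
      intro x
      constructor
      · exact h.nT s hs x
      · intro hx
        have := h.nT s⁻¹ (inv_mem hs) _ hx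
        have e : s⁻¹ * (s * x * s⁻¹) * s⁻¹⁻¹ = x := by group
        rwa [e] at this
    have h2 : IsPGroup 2 (Θ₁ ⊔ T : Subgroup G) := IsPGroup.to_sup_of_normal_left' h.ea.p H.pT hΘT
    let W : Subgroup M := ((Θ₁ ⊔ T : Subgroup G).subgroupOf N₁).subgroupOf M
    have hW : IsPGroup 2 W :=
      IsPGroup.comap_of_injective (IsPGroup.comap_of_injective h2 N₁.subtype N₁.subtype_injective) M.subtype
        M.subtype_injective
    obtain ⟨S, hS⟩ := hW.exists_le_sylow
    have hfin : Finite M := inferInstance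
    have hStop : ∀ p : P, ∃ s ∈ S, g s = p := by
      have h3 := (S.mapSurjective hg).is_maximal' (Q := ⊤) (hP.of_equiv (Subgroup.topEquiv (G := P)).symm) le_top
      intro p
      have h4 : p ∈ (S.mapSurjective hg : Subgroup P) := by rw [← h3]; exact mem_top p
      rw [Sylow.coe_mapSurjective] at h4
      obtain ⟨s, hs, e⟩ := h4
      exact ⟨s, hs, e⟩
    -- `S` as a subgroup of `G`
    let S' : Subgroup G := ((S : Subgroup M).map M.subtype).map N₁.subtype
    have hS'p : IsPGroup 2 S' := (S.isPGroup'.map M.subtype).map N₁.subtype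
    have hΘTS : Θ₁ ⊔ T ≤ S' := by
      have hle : Θ₁ ⊔ T ≤ N₁ := sup_le hΘN hTN
      intro x hx
      have hxM : f ⟨x, hle hx⟩ ∈ P := by
        have h3 : Θ₁ ⊔ T ≤ (P.comap f).map N₁.subtype := by
          refine sup_le ?_ ?_
          · intro y hy
            refine ⟨⟨y, hΘN hy⟩, ?_, rfl⟩
            show f ⟨y, hΘN hy⟩ ∈ P
            rw [(hker ⟨y, hΘN hy⟩).2 fun x hx => h.ea.ab y hy x hx]
            exact one_mem _
          · intro y hy
            exact ⟨⟨y, hTN hy⟩, hTP ⟨⟨y, hTN hy⟩, hy, rfl⟩, rfl⟩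
        obtain ⟨⟨y, hy⟩, hy', e⟩ := h3 hx
        have e' : y = x := e
        subst e'
        exact hy'
      exact ⟨⟨x, hle hx⟩, ⟨⟨⟨x, hle hx⟩, hxM⟩, hS (show _ ∈ W from hx), rfl⟩, rfl⟩
    have hST : S' ⊓ centralizer {t} ≤ T :=
      H.syl _ (hS'p.to_le inf_le_left) (le_inf (le_sup_right.trans hΘTS) fun a ha =>
        mem_centralizer_singleton_iff.2 (H.cT ha)) fun a ha => mem_centralizer_singleton_iff.1 ha.2
    intro p hp
    obtain ⟨⟨⟨y, hyN⟩, hyM⟩, hyS, hyp⟩ := hStop ⟨p, hp⟩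
    have hyp' : f ⟨y, hyN⟩ = p := congrArg Subtype.val hyp
    have hyS' : y ∈ S' := ⟨⟨y, hyN⟩, ⟨⟨⟨y, hyN⟩, hyM⟩, hyS, rfl⟩, rfl⟩
    -- `y⁻¹ t y t ∈ C(Θ₁)` is a 2-element
    have h3 := hPt p hp
    have htS : t ∈ S' := hΘTS (mem_sup_right H.tT)
    have h4 : y⁻¹ * (t * y * t) ∈ S' := mul_mem (inv_mem hyS') (mul_mem (mul_mem htS hyS') htS)
    have h5 : ∀ x ∈ Θ₁, y⁻¹ * (t * y * t) * x = x * (y⁻¹ * (t * y * t)) := by
      have h6 : f (⟨y, hyN⟩⁻¹ * (⟨t, hTN H.tT⟩ * ⟨y, hyN⟩ * ⟨t, hTN H.tT⟩)) = 1 := by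
        rw [map_mul, map_mul, map_mul, map_inv, hyp', ← h3]
        have e : f ⟨t, hTN H.tT⟩ * f ⟨t, hTN H.tT⟩ = 1 := by
          rw [← map_mul]
          have e : (⟨t, hTN H.tT⟩ : N₁) * ⟨t, hTN H.tT⟩ = 1 := Subtype.ext H.tt
          rw [e, map_one]
        rw [mul_assoc p, e, mul_one, inv_mul_cancel]
      exact (hker _).1 h6
    obtain ⟨k, hk⟩ := hS'p ⟨_, h4⟩
    have h6 : y⁻¹ * (t * y * t) ∈ Θ₁ := H.two_elt h (k := k) (congrArg Subtype.val hk) h5
    obtain ⟨b, hb, hbt⟩ := adj H.tt h.ea tΘ (m := 2 ^ 5) (by rw [h.card]; norm_num) h.cardB.le h6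
    have h7 : y * b ∈ T := hST (mem_inf.2 ⟨mul_mem hyS' (hΘTS (mem_sup_left hb)), mem_centralizer_singleton_iff.2 hbt⟩)
    refine ⟨⟨y * b, hTN h7⟩, h7, ?_⟩
    have e : (⟨y * b, hTN h7⟩ : N₁) = ⟨y, hyN⟩ * ⟨b, hΘN hb⟩ := rfl
    rw [e, map_mul, hyp', (hker ⟨b, hΘN hb⟩).2 fun x hx => h.ea.ab b hb x hx, mul_one]
  · -- rank
    intro E hE hEn hEsq
    rw [← hrange] at hE hEn
    -- the preimage of `E` in `T`
    let E' : Subgroup G := (E.comap φ).map T.subtype
    have hE' : ∀ x, x ∈ E' ↔ ∃ hx : x ∈ T, φ ⟨x, hx⟩ ∈ E := by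
      intro x
      constructor
      · rintro ⟨a, ha, rfl⟩
        exact ⟨a.2, ha⟩
      · rintro ⟨hx, h1⟩
        exact ⟨⟨x, hx⟩, h1, rfl⟩
    have hcE : Nat.card E' = Nat.card E * 2 ^ 5 := by
      rw [← hcker, ← card_comap φ hE]
      exact (Nat.card_congr ((E.comap φ).equivMapOfInjective _ T.subtype_injective).toEquiv).symm
    have hE'T : E' ≤ T := fun x hx => ((hE' x).1 hx).1
    obtain ⟨P, hPU, hP, hcP, -⟩ := H.exists_pr hE'T
    obtain ⟨PB, hPBU, hPB, -, hcPB⟩ := H.exists_pr hBT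
    have hAPB : A₁ = PB := by
      apply Subgroup.eq_of_le_of_card_ge
      · intro a ha
        refine (hPB a).2 ⟨H.A₁U ha, ?_⟩
        have hat := H.cU a (H.A₁U ha)
        rcases h.typ a ha with h1 | h1
        · exact Or.inl (mem_inf.2 ⟨h1, mem_centralizer_singleton_iff.2 hat⟩)
        · refine Or.inr (mem_inf.2 ⟨h1, mem_centralizer_singleton_iff.2 ?_⟩)
          rw [mul_assoc, hat]
      · rw [← hcPB htB, hB, h.cardB, H.cardA₁]
    have hAP : A₁ ≤ P := by
      intro a ha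
      rw [hAPB] at ha
      obtain ⟨haU, h1⟩ := (hPB a).1 ha
      have h2 : ∀ b ∈ B, b ∈ E' := fun b hb => (hE' b).2 ⟨hBT hb, by rw [(hkerφ ⟨b, hBT hb⟩).2 hb]; exact one_mem _⟩
      exact (hP a).2 ⟨haU, h1.imp (h2 a) (h2 _)⟩
    have hPsq : ∀ u ∈ P, u * u ∈ A₁ := by
      intro u hu
      obtain ⟨huU, h1⟩ := (hP u).1 hu
      have hut := H.cU u huU
      have key : ∀ w ∈ E', w * w ∈ B := by
        intro w hw
        obtain ⟨hwT, h2⟩ := (hE' w).1 hw
        have h3 := hEsq _ h2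
        rw [← map_mul, hkerφ] at h3
        exact h3
      have h2 : u * u ∈ B := by
        rcases h1 with h1 | h1
        · exact key u h1
        · have h2 := key _ h1
          have e : t * u * (t * u) = u * u := by
            calc t * u * (t * u) = t * (u * t) * u := by group
              _ = (t * t) * (u * u) := by rw [hut]; group
              _ = u * u := by rw [H.tt, one_mul]
          rwa [e] at h2
      rw [hAPB]
      exact (hPB _).2 ⟨mul_mem huU huU, Or.inl h2⟩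
    have hE'n : ∀ s ∈ T, ∀ e ∈ E', s * e * s⁻¹ ∈ E' := by
      intro s hs e he
      obtain ⟨heT, h1⟩ := (hE' e).1 he
      refine (hE' _).2 ⟨mul_mem (mul_mem hs heT) (inv_mem hs), ?_⟩
      have h2 := hEn (φ ⟨s, hs⟩) ⟨_, rfl⟩ _ h1
      rwa [← map_inv, ← map_mul, ← map_mul] at h2
    have hPn : ∀ u ∈ U, ∀ x ∈ P, u * x * u⁻¹ ∈ P := by
      intro u hu x hx
      obtain ⟨hxU, h1⟩ := (hP x).1 hx
      refine (hP _).2 ⟨mul_mem (mul_mem hu hxU) (inv_mem hu), ?_⟩
      rcases h1 with h1 | h1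
      · exact Or.inl (hE'n u (H.UT hu) x h1)
      · right
        have h2 := hE'n u (H.UT hu) _ h1
        have e : u * (t * x) * u⁻¹ = t * (u * x * u⁻¹) := by rw [← mul_assoc, H.cU u hu]; group
        rwa [e] at h2
    have h1 := KA P hPU hAP hPsq hPn
    -- `|P|` is a power of two
    have : Fact (Nat.Prime 2) := ⟨Nat.prime_two⟩
    have hPp : IsPGroup 2 P := H.pT.to_le (hPU.trans H.UT)
    obtain ⟨k, hk⟩ := IsPGroup.iff_card.1 hPp
    have hk8 : k ≤ 8 := by
      by_contra hlt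
      rw [not_le] at hlt
      have : 2 ^ 9 ≤ Nat.card P := by rw [hk]; exact Nat.pow_le_pow_right (by norm_num) hlt
      omega
    have h2 : Nat.card P ≤ 2 ^ 8 := by rw [hk]; exact Nat.pow_le_pow_right (by norm_num) hk8
    rw [hcE] at hcP
    norm_num at hcP h2
    omega

end Sit

/-! ### The T-formula in `Y` -/

/-- the data on `Θ` -/
structure TD (t : G) (T A Θ : Subgroup G) (J : Subgroup G) (V : Set G) : Prop where
  cardA : Nat.card A = 2 ^ 5
  ea : EA Θ
  card : Nat.card Θ = 2 ^ 10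
  nT : ∀ s ∈ T, ∀ x ∈ Θ, s * x * s⁻¹ ∈ Θ
  AΘ : A ≤ Θ
  fix : ∀ a ∈ Θ, a * t = t * a → a ∈ A
  gen : A ≤ closure V
  VA : V ⊆ A
  fus : ∀ v ∈ V, ∃ m : G, m⁻¹ * t * m = t * v
  cJ : ∀ c : G, c * t = t * c → (∀ a ∈ A, c * a = a * c) → ∃ j ∈ J, c = j ∨ c = t * j
  JΘ : ∀ j ∈ J, ∀ x ∈ Θ, j * x = x * j
  Jt : ∀ j ∈ J, j * t = t * j
  Jsq : ∀ j ∈ J, j * j = 1 → j ∈ A

/-- `T`-invariant conjugates of `Θ` -/
theorem Sit.conj [Finite G] {t : G} {T U A₁ A Θ J : Subgroup G} {V : Set G} (H : Sit t T U A₁) (D : TD t T A Θ J V) (AU : A ≤ U)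
    (K2 : ∀ B : Subgroup G, B ≤ U → EA B → (∀ u ∈ U, ∀ a ∈ B, u * a * u⁻¹ ∈ B) → 2 ^ 5 ≤ Nat.card B → B = A ∨ B = A₁)
    {g : G} (hg : ∀ s ∈ T, ∀ x ∈ cj g Θ, s * x * s⁻¹ ∈ cj g Θ) : cj g Θ = Θ ∨ Ty t T A₁ (cj g Θ) := by
  rcases H.dich D.cardA K2 (D.ea.cj g) (by rw [card_cj, D.card]) hg with ⟨-, h2, h3⟩ | h
  · exact Or.inl (H.eq_of_A D.cardA AU D.ea D.card D.nT D.AΘ D.fix D.gen D.VA D.fus D.cJ D.JΘ D.Jt D.Jsq rfl hg h2 h3)
  · exact Or.inr h

/-- **The T-formula in `Y = N_G(Θ)/C_G(Θ)`.** -/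
theorem Sit.tfy [Finite G] {t : G} {T U A₁ A Θ J : Subgroup G} {V : Set G} (H : Sit t T U A₁) (D : TD t T A Θ J V) (AU : A ≤ U)
    (K2 : ∀ B : Subgroup G, B ≤ U → EA B → (∀ u ∈ U, ∀ a ∈ B, u * a * u⁻¹ ∈ B) → 2 ^ 5 ≤ Nat.card B → B = A ∨ B = A₁)
    (hcase : (2 ^ 12 ≤ Nat.card T ∧ ∀ N : Subgroup G, N ≤ U → A₁ ≤ N → (∀ x ∈ N, x * x ∈ A₁) →
      (∀ u ∈ U, ∀ x ∈ N, u * x * u⁻¹ ∈ N) → Nat.card N < 2 ^ 9) ∨ ∃ c : G, c ∉ Θ ∧ c * c ∈ Θ ∧ ∀ x ∈ Θ, c * x = x * c)
    (hTF : Defs.TF T t) {Y : Type*} [Group Y] [Finite Y] (hTN : T ≤ normalizer (Θ : Set G))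
    (f : ↥(normalizer (Θ : Set G)) →* Y) (hf : Function.Surjective f)
    (hker : ∀ y : ↥(normalizer (Θ : Set G)), f y = 1 ↔ ∀ x ∈ Θ, (y : G) * x = x * y) (X : Subgroup Y)
    (hTX : (T.subgroupOf (normalizer (Θ : Set G))).map f ≤ X)
    (hu : ∀ g : Y, (∀ a ∈ (T.subgroupOf (normalizer (Θ : Set G))).map f, g⁻¹ * a * g ∈ X) → g ∈ X)
    (hB : ∃ B : Subgroup Y, B ≤ X ∧ (∀ g ∈ X, ∀ b ∈ B, g * b * g⁻¹ ∈ B) ∧ (∀ b ∈ B, b * b = 1) ∧
      (2 ^ 7 ≤ Nat.card ↥B ∨ 2 ^ 5 ≤ Nat.card ↥B ∧ ∀ S : Subgroup Y, S ≤ X → IsPGroup 2 ↥S → Nat.card ↥S ≤ 2 ^ 8))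
    (μ : ↥X →* Multiplicative (ZMod 2)) (ht : f ⟨t, hTN H.tT⟩ ∈ X) : μ ⟨f ⟨t, hTN H.tT⟩, ht⟩ = 1 := by
  classical
  let N : Subgroup G := normalizer (Θ : Set G)
  have hNmem : ∀ g : G, g ∈ N → ∀ x, x ∈ Θ ↔ g * x * g⁻¹ ∈ Θ := fun g hg x => mem_normalizer_iff.1 hg x
  -- the preimage of `X`
  let X' : Subgroup G := (X.comap f).map N.subtype
  have hmem : ∀ g : G, g ∈ X' ↔ ∃ hg : g ∈ N, f ⟨g, hg⟩ ∈ X := by
    intro g
    constructor
    · rintro ⟨a, ha, rfl⟩
      exact ⟨a.2, ha⟩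
    · rintro ⟨hg, h1⟩
      exact ⟨⟨g, hg⟩, h1, rfl⟩
  have hTX' : T ≤ X' := fun a ha => (hmem a).2 ⟨hTN ha, hTX ⟨⟨a, hTN ha⟩, ha, rfl⟩⟩
  have hu' : Defs.Uniq T X' := by
    intro g hg
    have hgN : ∀ a ∈ T, g⁻¹ * a * g ∈ N := fun a ha => ((hmem _).1 (hg a ha)).1
    -- `T` normalises `Θ^g`
    have hn : ∀ s ∈ T, ∀ x ∈ cj g Θ, s * x * s⁻¹ ∈ cj g Θ := by
      intro s hs x hx
      rw [mem_cj] at hx ⊢
      have h1 := (hNmem _ (hgN s hs) _).1 hx
      have e : g⁻¹ * (s * x * s⁻¹) * g = g⁻¹ * s * g * (g⁻¹ * x * g) * (g⁻¹ * s * g)⁻¹ := by group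
      rw [e]; exact h1
    rcases H.conj D AU K2 hn with h | h
    · -- `g ∈ N`
      have hgN' : g ∈ N := by
        have h1 : ∀ x, x ∈ Θ ↔ g⁻¹ * x * g ∈ Θ := fun x => by rw [← mem_cj, h]
        have h2 : g⁻¹ ∈ N := by
          rw [mem_normalizer_iff]
          intro x
          rw [inv_inv]
          exact h1 x
        exact (inv_mem_iff (H := N)).1 h2
      refine (hmem g).2 ⟨hgN', hu _ ?_⟩
      rintro _ ⟨a, ha, rfl⟩
      obtain ⟨h1, h2⟩ := (hmem _).1 (hg a ha)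
      rw [← map_inv, ← map_mul, ← map_mul]
      exact h2
    · -- type `A₁`
      exfalso
      rcases hcase with ⟨cT, KA⟩ | ⟨c, hc, hcc, hcΘ⟩
      · -- `N₁ = N^g`
        let N₁ : Subgroup G := cj g N
        let κ : N₁ →* N :=
          { toFun := fun y => ⟨g⁻¹ * y * g, mem_cj.1 y.2⟩
            map_one' := Subtype.ext (by show g⁻¹ * 1 * g = 1; group)
            map_mul' := fun x y => Subtype.ext (by
              show g⁻¹ * ((x : G) * y) * g = g⁻¹ * x * g * (g⁻¹ * y * g)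
              group) }
        have hκ : Function.Surjective κ := by
          rintro ⟨y, hy⟩
          refine ⟨⟨g * y * g⁻¹, ?_⟩, Subtype.ext ?_⟩
          · rw [mem_cj]
            have e : g⁻¹ * (g * y * g⁻¹) * g = y := by group
            rw [e]; exact hy
          · show g⁻¹ * (g * y * g⁻¹) * g = y
            group
        have hTN₁ : T ≤ N₁ := fun a ha => mem_cj.2 (hgN a ha)
        have hΘN₁ : cj g Θ ≤ N₁ := by
          intro x hx
          rw [mem_cj] at hx ⊢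
          exact le_normalizer hx
        have hker₁ : ∀ y : N₁, (f.comp κ) y = 1 ↔ ∀ x ∈ cj g Θ, (y : G) * x = x * y := by
          intro y
          rw [MonoidHom.comp_apply, hker]
          show (∀ x ∈ Θ, g⁻¹ * (y : G) * g * x = x * (g⁻¹ * y * g)) ↔ _
          constructor
          · intro h1 x hx
            rw [mem_cj] at hx
            have h2 := h1 _ hx
            calc (y : G) * x = g * (g⁻¹ * y * g * (g⁻¹ * x * g)) * g⁻¹ := by group
              _ = g * (g⁻¹ * x * g * (g⁻¹ * y * g)) * g⁻¹ := by rw [h2]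
              _ = x * y := by group
          · intro h1 x hx
            have h2 := h1 (g * x * g⁻¹) (by
              rw [mem_cj]
              have e : g⁻¹ * (g * x * g⁻¹) * g = x := by group
              rw [e]; exact hx)
            calc g⁻¹ * (y : G) * g * x = g⁻¹ * (y * (g * x * g⁻¹)) * g := by group
              _ = g⁻¹ * (g * x * g⁻¹ * y) * g := by rw [h2]
              _ = x * (g⁻¹ * y * g) := by group
        have hbad := H.bad_of cT KA h hTN₁ hΘN₁ (f.comp κ) (hf.comp hκ) hker₁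
        obtain ⟨B, hBX, hBn, hBs, hBc⟩ := hB
        refine hbad.not_le hBX hBn hBs hBc ?_
        rintro _ ⟨a, ha, rfl⟩
        obtain ⟨h1, h2⟩ := (hmem _).1 (hg a ha)
        exact h2
      · -- the outer case
        apply hc
        have h1 := H.odd_cent h (c := g * c * g⁻¹) (by
          rw [mem_cj]
          have e : g⁻¹ * (g * c * g⁻¹ * (g * c * g⁻¹)) * g = c * c := by group
          rw [e]; exact hcc) (by
          intro x hx
          rw [mem_cj] at hx
          have h2 := hcΘ _ hx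
          calc g * c * g⁻¹ * x = g * (c * (g⁻¹ * x * g)) * g⁻¹ := by group
            _ = g * (g⁻¹ * x * g * c) * g⁻¹ := by rw [h2]
            _ = x * (g * c * g⁻¹) := by group)
        rw [mem_cj] at h1
        have e : g⁻¹ * (g * c * g⁻¹) * g = c := by group
        rwa [e] at h1
  let g : X' →* X :=
    { toFun := fun a => ⟨f ⟨a, ((hmem _).1 a.2).1⟩, ((hmem _).1 a.2).2⟩
      map_one' := by
        apply Subtype.ext
        show f ⟨1, _⟩ = 1
        rw [← map_one f]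
        rfl
      map_mul' := by
        intro a b
        apply Subtype.ext
        show f ⟨a * b, _⟩ = f ⟨a, _⟩ * f ⟨b, _⟩
        rw [← map_mul]
        rfl }
  exact hTF X' hTX' hu' (μ.comp g) (hTX' H.tT)

end Cfsg.Agent.OddHalf.D7Tits.AltType

end

-- merged: Cfsg.Agent.OddHalf.D7Tits.YOf
section

/-!
# ODD D7, `K = ²F₄(2)'`: `Y = N_G(Θ)/C_G(Θ)` satisfies `YH` (helper625; text: bb 15617, 3.3)

From `Pos K i t n` (output of section 1) and `Th K i t n Θ` (output of section 2):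
`yh0` : all fields of `YH` but the T-formula; `Tb_eq` : `Tb` is the image of `T`; `exists_yh`.
`Y = (normalizerMonoidHom Θ).range` acts on `Θ` by evaluation.
-/

set_option autoImplicit false
set_option linter.unusedSectionVars false
set_option linter.unusedVariables false

namespace Cfsg.Agent.OddHalf.D7Tits.YOf

open Subgroup Defs YAbs

universe u v

variable {Y : Type u} [Group Y] {G : Type v} [Group G] {K : KT Y} {i : Y →* G} {t n : G} {Θ : Subgroup G}

/-- `Θ` is commutative -/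
@[reducible] def cg (hΘ : ∀ a ∈ Θ, ∀ b ∈ Θ, a * b = b * a) : CommGroup ↥Θ :=
  { (inferInstance : Group ↥Θ) with mul_comm := fun a b => Subtype.ext (hΘ a a.2 b b.2) }

/-- `Y = N_G(Θ) / C_G(Θ)` -/
abbrev YY (Θ : Subgroup G) : Subgroup (MulAut ↥Θ) := (normalizerMonoidHom Θ).range

/-- the projection `N_G(Θ) → Y` -/
abbrev proj (Θ : Subgroup G) : ↥(normalizer (Θ : Set G)) →* ↥(YY Θ) := (normalizerMonoidHom Θ).rangeRestrict

theorem proj_sur (Θ : Subgroup G) : Function.Surjective (proj Θ) := MonoidHom.rangeRestrict_surjective _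

theorem proj_apply (g : ↥(normalizer (Θ : Set G))) (θ : Θ) :
    ((((proj Θ g : ↥(YY Θ)) : MulAut ↥Θ) θ : ↥Θ) : G) = g * θ * (g : G)⁻¹ := rfl

theorem proj_eq_one {g : ↥(normalizer (Θ : Set G))} : proj Θ g = 1 ↔ ∀ θ ∈ Θ, (g : G) * θ = θ * g := by
  constructor
  · intro h θ hθ
    have h1 := proj_apply g ⟨θ, hθ⟩
    rw [h] at h1
    have h2 : θ = (g : G) * θ * (g : G)⁻¹ := h1
    rw [eq_mul_inv_iff_mul_eq] at h2
    exact h2.symm
  · intro h
    apply Subtype.ext
    ext θ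
    rw [proj_apply, h θ θ.2]
    show (θ : G) * g * (g : G)⁻¹ = θ
    group

theorem mem_nor {g : G} (h1 : ∀ a ∈ Θ, g * a * g⁻¹ ∈ Θ) (h2 : ∀ a ∈ Θ, g⁻¹ * a * g ∈ Θ) :
    g ∈ normalizer (Θ : Set G) := by
  rw [mem_normalizer_iff]
  intro h
  refine ⟨h1 h, fun h' => ?_⟩
  have h3 := h2 _ h'
  have e : g⁻¹ * (g * h * g⁻¹) * g = h := by group
  rwa [e] at h3

section defs

variable (P : Pos K i t n) (H : Th K i t n Θ)

include P H in
theorem t_mem : t ∈ normalizer (Θ : Set G) := by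
  refine mem_nor (fun a ha => ?_) (fun a ha => ?_)
  · rw [P.t_inv]; exact H.nt a ha
  · rw [P.t_inv]; exact H.nt a ha

include H in
theorem p_mem {p : Y} (hp : p ∈ K.P) : i p ∈ normalizer (Θ : Set G) := by
  refine mem_nor (fun a ha => H.nP p hp a ha) (fun a ha => ?_)
  have h := H.nP _ (inv_mem hp) a ha
  rwa [map_inv, inv_inv] at h

/-- `t ∈ Y` -/
def tY : ↥(YY Θ) := proj Θ ⟨t, t_mem P H⟩

/-- `P → Y` -/
def eP : ↥K.P →* ↥(YY Θ) :=
  (proj Θ).comp ((i.comp K.P.subtype).codRestrict (normalizer (Θ : Set G)) fun p => p_mem H p.2)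

theorem eP_apply (p : ↥K.P) : eP H p = proj Θ ⟨i p, p_mem H p.2⟩ := rfl

theorem eP_act (p : ↥K.P) (θ : Θ) : (((eP H p : ↥(YY Θ)) : MulAut ↥Θ) θ : G) = i p * θ * (i p)⁻¹ := rfl

/-- `x ∈ Y` -/
def xY : ↥(YY Θ) := eP H ⟨K.x, K.E_le_P K.x_E⟩

/-- `s⁻¹ ∈ Y` -/
def sY : ↥(YY Θ) := eP H ⟨K.s⁻¹, inv_mem (K.U_le_P K.s_U)⟩

/-- `R`, the image of `Q` -/
def RY : Subgroup ↥(YY Θ) := (K.Q.subgroupOf K.P).map (eP H)

/-- `Pb`, the image of `P` -/
def PbY : Subgroup ↥(YY Θ) := (eP H).range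

/-- `z ∈ Θ` -/
def zY : ↥Θ := ⟨i K.z, H.A_le ⟨K.z, K.z_A, rfl⟩⟩

/-- `n ∈ Θ` -/
def nY : ↥Θ := ⟨n, H.n_mem⟩

/-- the points -/
def qY (k : ZMod 5) : ↥Θ := ⟨i (K.q k), H.A_le ⟨K.q k, K.q_A k, rfl⟩⟩

end defs

theorem Q_le_P (K : KT Y) : K.Q ≤ K.P := K.Q_le_E.trans K.E_le_P

theorem A_le_P (K : KT Y) : K.A ≤ K.P := K.A_le_Q.trans (Q_le_P K)

theorem mem_RY {H : Th K i t n Θ} {y : ↥(YY Θ)} : y ∈ RY H ↔ ∃ (u : Y) (hu : u ∈ K.Q), y = eP H ⟨u, Q_le_P K hu⟩ := by
  constructor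
  · rintro ⟨⟨u, hu⟩, h, rfl⟩
    exact ⟨u, mem_subgroupOf.1 h, rfl⟩
  · rintro ⟨u, hu, rfl⟩
    exact ⟨⟨u, Q_le_P K hu⟩, mem_subgroupOf.2 hu, rfl⟩

section act

variable (P : Pos K i t n) (H : Th K i t n Θ)

theorem tY_act (θ : Θ) : (((tY P H : ↥(YY Θ)) : MulAut ↥Θ) θ : G) = t * θ * t⁻¹ := rfl

include P H in
/-- `C_Θ(t) = A` -/
theorem fix_iff (θ : Θ) : ((tY P H : ↥(YY Θ)) : MulAut ↥Θ) θ = θ ↔ (θ : G) ∈ K.A.map i := by
  rw [Subtype.ext_iff, tY_act, mul_inv_eq_iff_eq_mul]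
  constructor
  · intro h
    exact H.fix θ θ.2 h.symm
  · rintro ⟨a, ha, h⟩
    rw [← h]
    exact P.ti a

include P H in
theorem eP_j (hj : K.j ∈ K.P) : eP H ⟨K.j, hj⟩ = 1 := by
  rw [eP_apply, proj_eq_one]
  intro θ hθ
  exact (H.nj θ hθ).symm

include H in
theorem eP_A {a : Y} (ha : a ∈ K.A) : eP H ⟨a, A_le_P K ha⟩ = 1 := by
  rw [eP_apply, proj_eq_one]
  intro θ hθ
  exact H.ab _ (H.A_le ⟨a, ha, rfl⟩) θ hθ

include P in
/-- an element of `P` acting trivially on `A` is trivial on `Θ` -/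
theorem eP_triv {p : Y} (hp : p ∈ K.P) (h : ∀ a ∈ K.A, p * a = a * p) : eP H ⟨p, hp⟩ = 1 := by
  obtain ⟨a, ha, l, rfl⟩ := K.cent_A p h
  have hj : K.j ∈ K.P := K.U_le_P K.j_U
  have e : (⟨a * K.j ^ l, hp⟩ : ↥K.P) = ⟨a, A_le_P K ha⟩ * ⟨K.j, hj⟩ ^ l := rfl
  rw [e, map_mul, map_pow, eP_A H ha, eP_j P H hj, one_pow, one_mul]

include P in
theorem triv_A {p : Y} (hp : p ∈ K.P) (h : ∀ θ : Θ, ((tY P H : ↥(YY Θ)) : MulAut ↥Θ) θ = θ →
    ((eP H ⟨p, hp⟩ : ↥(YY Θ)) : MulAut ↥Θ) θ = θ) : ∀ a ∈ K.A, p * a = a * p := by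
  intro a ha
  have h1 := h ⟨i a, H.A_le ⟨a, ha, rfl⟩⟩ ((fix_iff P H _).2 ⟨a, ha, rfl⟩)
  rw [Subtype.ext_iff, eP_act] at h1
  have h2 : i p * i a * (i p)⁻¹ = i a := h1
  rw [mul_inv_eq_iff_eq_mul, ← map_mul, ← map_mul] at h2
  exact P.inj h2

end act

section main

variable (P : Pos K i t n) (H : Th K i t n Θ)

include P in
theorem cardR : Nat.card ↥(RY H) = 16 := by
  have := K.fin
  have h1 : Nat.card (K.Q.subgroupOf K.P) = 2 ^ 9 := by
    rw [← K.card_Q]
    exact Nat.card_congr (Subgroup.subgroupOfEquivOfLe (Q_le_P K)).toEquiv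
  have h2 : (eP H).ker ⊓ K.Q.subgroupOf K.P = K.A.subgroupOf K.P := by
    ext ⟨p, hp⟩
    rw [mem_inf, mem_subgroupOf, mem_subgroupOf, MonoidHom.mem_ker]
    constructor
    · rintro ⟨h3, h4⟩
      have h5 := triv_A P H hp fun θ _ => by rw [h3]; rfl
      apply K.Q_ker p h4
      intro k
      have h6 := h5 _ (K.q_A k)
      rw [mul_assoc, ← h6]
      group
    · intro h3
      exact ⟨eP_A H h3, K.A_le_Q h3⟩
  have h3 : Nat.card (K.A.subgroupOf K.P) = 2 ^ 5 := by
    rw [← K.card_A]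
    exact Nat.card_congr (Subgroup.subgroupOfEquivOfLe (A_le_P K)).toEquiv
  have h4 := Subgroup.relIndex_ker (K.Q.subgroupOf K.P) (eP H)
  have h5 : Nat.card ((eP H).ker ⊓ K.Q.subgroupOf K.P : Subgroup ↥K.P) * (eP H).ker.relIndex (K.Q.subgroupOf K.P) =
      Nat.card (K.Q.subgroupOf K.P) := by
    rw [← inf_relIndex_right, ← relIndex_bot_left, ← relIndex_bot_left (H := K.Q.subgroupOf K.P),
      relIndex_mul_relIndex _ _ _ bot_le inf_le_right]
  rw [h2, h3, h1, h4] at h5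
  have h6 : Nat.card ↥(RY H) = Nat.card ((K.Q.subgroupOf K.P).map (eP H)) := rfl
  rw [h6]
  omega

theorem nR : ∀ p ∈ PbY H, ∀ r ∈ RY H, p * r * p⁻¹ ∈ RY H := by
  rintro _ ⟨p, rfl⟩ r hr
  obtain ⟨u, hu, rfl⟩ := mem_RY.1 hr
  rw [← map_mul, ← map_inv, ← map_mul]
  exact mem_RY.2 ⟨p * u * (p : Y)⁻¹, K.nor_Q p p.2 u hu, rfl⟩

theorem x5 : xY H ^ 5 = 1 := by
  unfold xY
  rw [← map_pow]
  have e : (⟨K.x, K.E_le_P K.x_E⟩ : ↥K.P) ^ 5 = 1 := Subtype.ext K.x5
  rw [e, map_one]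

theorem s4 : sY H ^ 4 = 1 := by
  unfold sY
  rw [← map_pow]
  have e : (⟨K.s⁻¹, inv_mem (K.U_le_P K.s_U)⟩ : ↥K.P) ^ 4 = 1 := by
    apply Subtype.ext
    show K.s⁻¹ ^ 4 = 1
    rw [inv_pow, K.s4, inv_one]
  rw [e, map_one]

theorem xs : sY H * xY H * (sY H)⁻¹ = xY H ^ 2 := by
  unfold sY xY
  rw [← map_mul, ← map_inv, ← map_mul, ← map_pow]
  congr 1
  apply Subtype.ext
  show K.s⁻¹ * K.x * (K.s⁻¹)⁻¹ = K.x ^ 2
  rw [inv_inv, K.x_s, pow_two]

include P in
theorem gen : ∀ p ∈ PbY H, ∃ r ∈ RY H, ∃ j k : ℕ, p = r * xY H ^ j * sY H ^ k := by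
  rintro _ ⟨⟨p, hp⟩, rfl⟩
  obtain ⟨e, he, k, l, rfl⟩ := K.P_cases p hp
  obtain ⟨u, hu, m, rfl⟩ := K.E_cases e he
  have hj : K.j ∈ K.P := K.U_le_P K.j_U
  refine ⟨eP H ⟨u, Q_le_P K hu⟩, mem_RY.2 ⟨u, hu, rfl⟩, m, 3 * k, ?_⟩
  have e1 : (⟨u * K.x ^ m * K.s ^ k * K.j ^ l, hp⟩ : ↥K.P) =
      ⟨u, Q_le_P K hu⟩ * ⟨K.x, K.E_le_P K.x_E⟩ ^ m * (⟨K.s⁻¹, inv_mem (K.U_le_P K.s_U)⟩⁻¹) ^ k * ⟨K.j, hj⟩ ^ l := by
    apply Subtype.ext
    show u * K.x ^ m * K.s ^ k * K.j ^ l = u * K.x ^ m * ((K.s⁻¹)⁻¹) ^ k * K.j ^ l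
    rw [inv_inv]
  rw [e1, map_mul, map_mul, map_mul, map_pow, map_pow, map_pow, map_inv, eP_j P H hj, one_pow, mul_one]
  have e2 : (sY H)⁻¹ = sY H ^ 3 := by
    rw [inv_eq_iff_mul_eq_one, ← pow_succ', s4]
  show eP H ⟨u, Q_le_P K hu⟩ * xY H ^ m * (sY H)⁻¹ ^ k = _
  rw [e2, ← pow_mul]

theorem comm : ∀ p ∈ PbY H, tY P H * p = p * tY P H := by
  rintro _ ⟨p, rfl⟩
  unfold tY
  rw [eP_apply, ← map_mul, ← map_mul]
  congr 1
  apply Subtype.ext
  exact P.ti p

theorem Agen (θ : Θ) (h : (θ : G) ∈ K.A.map i) : θ ∈ closure ({zY H} ∪ Set.range (qY H)) := by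
  obtain ⟨a, ha, h1⟩ := h
  set C : Subgroup ↥Θ := closure ({zY H} ∪ Set.range (qY H)) with hC
  have hle : closure ({K.z} ∪ Set.range K.q) ≤ (C.map Θ.subtype).comap i := by
    rw [closure_le]
    rintro b (rfl | ⟨k, rfl⟩)
    · exact ⟨zY H, subset_closure (Or.inl rfl), rfl⟩
    · exact ⟨qY H k, subset_closure (Or.inr ⟨k, rfl⟩), rfl⟩
  obtain ⟨c, hc, h2⟩ := hle (K.A_gen ha)
  have : θ = c := Subtype.ext (h1.symm.trans h2.symm)
  rw [this]
  exact hc

/-- the set of elements of `C_G(t)` centralising `Θ` is small -/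
theorem card_ker : Nat.card (centralizer {(⟨t, t_mem P H⟩ : ↥(normalizer (Θ : Set G)))} ⊓ (proj Θ).ker : Subgroup _) ≤ 64 := by
  have := P.finG
  have := K.fin
  have key : ∀ c : (centralizer {(⟨t, t_mem P H⟩ : ↥(normalizer (Θ : Set G)))} ⊓ (proj Θ).ker : Subgroup _),
      ∃ ab : ↥K.A × Fin 2, i (ab.1 * K.j ^ (ab.2 : ℕ)) = ((c : ↥(normalizer (Θ : Set G))) : G) := by
    rintro ⟨⟨c, hcN⟩, h1, h2⟩
    have h1' : c * t = t * c := congrArg Subtype.val (mem_centralizer_singleton_iff.1 h1)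
    have h2' : ∀ θ ∈ Θ, c * θ = θ * c := proj_eq_one.1 (MonoidHom.mem_ker.1 h2)
    obtain ⟨y, hy⟩ := P.cen c h1'
    -- `y` centralises `A`
    have hyA : ∀ a ∈ K.A, y * a = a * y := by
      intro a ha
      have h3 := h2' (i a) (H.A_le ⟨a, ha, rfl⟩)
      rcases hy with rfl | rfl
      · rw [← map_mul, ← map_mul] at h3
        exact P.inj h3
      · rw [← mul_assoc, ← P.ti, mul_assoc, mul_assoc, mul_left_cancel_iff, ← map_mul, ← map_mul] at h3
        exact P.inj h3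
    obtain ⟨a, ha, l, rfl⟩ := K.cent_A y hyA
    -- no `t`
    have hc : c = i (a * K.j ^ l) := by
      rcases hy with hy | hy
      · exact hy
      · exfalso
        have h3 := h2' n H.n_mem
        have h4 : i (a * K.j ^ l) * n = n * i (a * K.j ^ l) := by
          rw [map_mul, map_pow]
          have h5 : Commute (i a) n := H.ab _ (H.A_le ⟨a, ha, rfl⟩) n H.n_mem
          have h6 : Commute (i K.j) n := P.nj.symm
          exact h5.mul_left (h6.pow_left l)
        rw [hy, mul_assoc, h4, ← mul_assoc, ← mul_assoc, mul_left_inj] at h3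
        have h5 := P.nt
        rw [h3, mul_assoc, P.tt, mul_one] at h5
        have h6 : i K.z = 1 := mul_eq_left.1 h5.symm
        rw [← map_one i] at h6
        exact K.z1 (P.inj h6)
    -- reduce the exponent
    have hj2 : K.j * K.j ∈ K.A := by
      rcases K.j_or with h | ⟨h, -⟩
      · rw [h, mul_one]; exact one_mem _
      · rw [h]; exact K.z_A
    have hj : ∃ a' ∈ K.A, ∃ b : Fin 2, K.j ^ l = a' * K.j ^ (b : ℕ) := by
      refine ⟨(K.j * K.j) ^ (l / 2), pow_mem hj2 _, ⟨l % 2, Nat.mod_lt _ (by norm_num)⟩, ?_⟩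
      show K.j ^ l = (K.j * K.j) ^ (l / 2) * K.j ^ (l % 2)
      rw [← pow_two, ← pow_mul, ← pow_add, Nat.div_add_mod]
    obtain ⟨a', ha', b, hb⟩ := hj
    refine ⟨(⟨a * a', mul_mem ha ha'⟩, b), ?_⟩
    show i (a * a' * K.j ^ (b : ℕ)) = c
    rw [hc, hb, mul_assoc]
  have h1 : Nat.card (centralizer {(⟨t, t_mem P H⟩ : ↥(normalizer (Θ : Set G)))} ⊓ (proj Θ).ker : Subgroup _) ≤
      Nat.card (↥K.A × Fin 2) := by
    refine Nat.card_le_card_of_injective (fun c => (key c).choose) fun c c' h => ?_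
    have h2 := (key c).choose_spec
    have h3 := (key c').choose_spec
    have h : (key c).choose = (key c').choose := h
    rw [h, h3] at h2
    exact Subtype.ext (Subtype.ext h2.symm)
  rw [Nat.card_prod, K.card_A, Nat.card_fin] at h1
  exact h1

/-- `C_Y(t)` is small -/
theorem bound (Y₀ : Subgroup ↥(YY Θ)) (hY : ∀ y, y ∈ Y₀ ↔ y ∈ PbY H ∨ tY P H * y ∈ PbY H) :
    Nat.card (centralizer {tY P H}) ≤ 2 * Nat.card Y₀ := by
  have := P.finG
  have hfin : Finite ↥(YY Θ) := Finite.of_surjective _ (proj_sur Θ)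
  set tN : ↥(normalizer (Θ : Set G)) := ⟨t, t_mem P H⟩ with htN
  have htNt : tN * tN = 1 := Subtype.ext P.tt
  have hker : Θ.subgroupOf (normalizer (Θ : Set G)) ≤ (proj Θ).ker := by
    intro g hg
    rw [MonoidHom.mem_ker, proj_eq_one]
    exact fun θ hθ => H.ab _ (mem_subgroupOf.1 hg) θ hθ
  have hcount := Cent.count (proj Θ) (proj_sur Θ) (Θ.subgroupOf (normalizer (Θ : Set G))) hker tN (by
    rintro ⟨y, hyN⟩ hc
    have hc' : y * t * y⁻¹ * t⁻¹ ∈ Θ := hc
    set c := y * t * y⁻¹ * t⁻¹ with hcdef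
    have e1 : y * t * y⁻¹ = c * t := by rw [hcdef]; group
    have e2 : (c * t) * (c * t) = 1 := by
      rw [← e1]
      calc y * t * y⁻¹ * (y * t * y⁻¹) = y * (t * t) * y⁻¹ := by group
        _ = 1 := by rw [P.tt]; group
    have e3 : c * t = t * c := by
      have hcc := H.sq c hc'
      calc c * t = (c * t) * ((c * c) * (t * t)) := by rw [hcc, P.tt, mul_one, mul_one]
        _ = (c * t) * (c * (c * t)) * t := by group
        _ = (c * t) * (c * t) * (t⁻¹ * (c * t) * t) := by group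
        _ = t⁻¹ * c * (t * t) := by rw [e2]; group
        _ = t * c := by rw [P.tt, P.t_inv, mul_one]
    obtain ⟨a, ha, hac⟩ := H.fix c hc' e3
    obtain ⟨b, hb, hbt⟩ := H.sur a ha
    have hyb : y⁻¹ * b * y ∈ Θ := by
      have h1 := (mem_normalizer_iff.1 (inv_mem hyN) b).1 hb
      rwa [inv_inv] at h1
    refine ⟨⟨y⁻¹ * b * y, mem_normalizer_iff.2 fun h => ?_⟩, hyb, Subtype.ext ?_⟩
    · constructor
      · intro hh
        exact mul_mem (mul_mem hyb hh) (inv_mem hyb)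
      · intro hh
        have h1 := mul_mem (mul_mem (inv_mem hyb) hh) hyb
        have e : (y⁻¹ * b * y)⁻¹ * (y⁻¹ * b * y * h * (y⁻¹ * b * y)⁻¹) * (y⁻¹ * b * y) = h := by group
        rwa [e] at h1
    · show y * (y⁻¹ * b * y) * t = t * (y * (y⁻¹ * b * y))
      have hbc : t * b * t = b * c := by rw [hbt, hac]
      calc y * (y⁻¹ * b * y) * t = b * (y * t * y⁻¹) * y := by group
        _ = (b * c) * t * y := by rw [e1]; group
        _ = (t * b) * (t * t) * y := by rw [← hbc]; group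
        _ = t * (y * (y⁻¹ * b * y)) := by rw [P.tt]; group)
  -- `|C_Θ(t)| = 32`
  have h32 : Nat.card (centralizer {tN} ⊓ Θ.subgroupOf (normalizer (Θ : Set G)) : Subgroup _) = 32 := by
    have e1 : Nat.card (K.A.map i) = 32 := by
      rw [Subgroup.card_map_of_injective P.inj, K.card_A]; norm_num
    rw [← e1]
    refine Nat.card_congr
      { toFun := fun c => ⟨((c : ↥(normalizer (Θ : Set G))) : G), H.fix _ (mem_subgroupOf.1 c.2.2)
          (congrArg Subtype.val (mem_centralizer_singleton_iff.1 c.2.1))⟩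
        invFun := fun a => ⟨⟨a, mem_nor (fun b hb => mul_mem (mul_mem (H.A_le a.2) hb) (inv_mem (H.A_le a.2)))
          (fun b hb => mul_mem (mul_mem (inv_mem (H.A_le a.2)) hb) (H.A_le a.2))⟩,
          mem_centralizer_singleton_iff.2 (Subtype.ext (by
            obtain ⟨b, hb, h⟩ := a.2
            show (a : G) * t = t * a
            rw [← h]
            exact (P.ti b).symm)), mem_subgroupOf.2 (H.A_le a.2)⟩
        left_inv := fun c => rfl
        right_inv := fun a => rfl }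
  -- the image of `C_G(t)`
  have hle : (centralizer {tN}).map (proj Θ) ≤ Y₀ := by
    rintro _ ⟨⟨c, hcN⟩, hc, rfl⟩
    rw [SetLike.mem_coe, mem_centralizer_singleton_iff] at hc
    have hc' : c * t = t * c := congrArg Subtype.val hc
    obtain ⟨y, hy⟩ := P.cen c hc'
    have hyc : ∀ a : Y, c * i a * c⁻¹ = i (y * a * y⁻¹) := by
      intro a
      rcases hy with rfl | rfl
      · rw [map_mul, map_mul, map_inv]
      · calc t * i y * i a * (t * i y)⁻¹ = t * i (y * a * y⁻¹) * t⁻¹ := by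
              rw [map_mul, map_mul, map_inv]; group
          _ = i (y * a * y⁻¹) := by rw [P.ti]; group
    have hyP : y ∈ K.P := by
      apply K.norm_A
      intro a ha
      have h1 : c * i a * c⁻¹ ∈ Θ := (mem_normalizer_iff.1 hcN _).1 (H.A_le ⟨a, ha, rfl⟩)
      rw [hyc] at h1
      obtain ⟨b, hb, h2⟩ := H.fix _ h1 (P.ti _).symm
      rw [← P.inj h2]
      exact hb
    rw [hY]
    rcases hy with rfl | rfl
    · exact Or.inl ⟨⟨y, hyP⟩, rfl⟩
    · right
      refine ⟨⟨y, hyP⟩, ?_⟩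
      unfold tY
      rw [eP_apply, ← map_mul]
      congr 1
      apply Subtype.ext
      show i y = t * (t * i y)
      rw [← mul_assoc, P.tt, one_mul]
  have h64 := card_ker P H
  have hY0 : Nat.card ((centralizer {tN}).map (proj Θ)) ≤ Nat.card Y₀ := Subgroup.card_le_of_le hle
  rw [h32] at hcount
  have h1 : Nat.card (centralizer {proj Θ tN}) * 32 ≤ Nat.card Y₀ * 64 :=
    hcount.trans (Nat.mul_le_mul hY0 h64)
  have h2 : Nat.card (centralizer {tY P H}) = Nat.card (centralizer {proj Θ tN}) := rfl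
  rw [h2]
  omega

/-- the input of `YAbs` -/
theorem pre : letI := cg H.ab
    Pre (Y := ↥(YY Θ)) (Θ := ↥Θ) (YY Θ).subtype (tY P H) (xY H) (sY H) (RY H) (PbY H) (zY H) (nY H) (qY H) := by
  letI := cg H.ab
  have hG := P.finG
  have hY := K.fin
  exact
    { fin := Finite.of_surjective _ (proj_sur Θ)
      finΘ := inferInstance
      inj := Subtype.val_injective
      two := fun θ => Subtype.ext (H.sq θ θ.2)
      card := H.card
      cardA := by
        have e1 : Nat.card (K.A.map i) = 2 ^ 5 := by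
          rw [Subgroup.card_map_of_injective P.inj, K.card_A]
        rw [← e1]
        refine Nat.card_congr
          { toFun := fun c => ⟨((c : ↥Θ) : G), (fix_iff P H _).1 c.2⟩
            invFun := fun a => ⟨⟨a, H.A_le a.2⟩, (fix_iff P H _).2 a.2⟩
            left_inv := fun c => rfl
            right_inv := fun a => rfl }
      sur := by
        intro a ha
        obtain ⟨a', ha', h⟩ := (fix_iff P H _).1 ha
        obtain ⟨b, hb, hbt⟩ := H.sur a' ha'
        refine ⟨⟨b, hb⟩, Subtype.ext ?_⟩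
        show t * b * t⁻¹ = b * a
        rw [P.t_inv, hbt, h]
      tt := by
        have e : (⟨t, t_mem P H⟩ : ↥(normalizer (Θ : Set G))) * ⟨t, t_mem P H⟩ = 1 := Subtype.ext P.tt
        unfold tY
        rw [← map_mul, e, map_one]
      cardR := cardR P H
      RP := by
        intro y hy
        obtain ⟨u, hu, rfl⟩ := mem_RY.1 hy
        exact ⟨_, rfl⟩
      nR := nR H
      xP := ⟨_, rfl⟩
      sP := ⟨_, rfl⟩
      x5 := x5 H
      s4 := s4 H
      xs := xs H
      gen := gen P H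
      comm := comm P H
      z1 := by
        intro h
        have h1 : i K.z = 1 := congrArg Subtype.val h
        rw [← map_one i] at h1
        exact K.z1 (P.inj h1)
      zt := (fix_iff P H _).2 ⟨K.z, K.z_A, rfl⟩
      zP := by
        rintro _ ⟨⟨p, hp⟩, rfl⟩
        apply Subtype.ext
        show i p * i K.z * (i p)⁻¹ = i K.z
        rw [mul_inv_eq_iff_eq_mul, ← map_mul, ← map_mul, (K.mem_P p).1 hp]
      qt := fun k => (fix_iff P H _).2 ⟨K.q k, K.q_A k, rfl⟩
      qx := by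
        intro k
        apply Subtype.ext
        show i K.x * i (K.q (k + 1)) * (i K.x)⁻¹ = i (K.q k)
        rw [← K.q_x k, ← map_inv, ← map_mul, ← map_mul]
        congr 1
        group
      qs := by
        intro k
        apply Subtype.ext
        show i K.s⁻¹ * i (K.q k) * (i K.s⁻¹)⁻¹ = i (K.q (2 * k))
        rw [← K.q_s k, ← map_inv, ← map_mul, ← map_mul]
        congr 1
        group
      qR := by
        intro r hr k
        obtain ⟨u, hu, rfl⟩ := mem_RY.1 hr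
        have h := K.q_Q _ (inv_mem hu) k
        rw [inv_inv] at h
        rcases h with h | h
        · left
          apply Subtype.ext
          show i u * i (K.q k) * (i u)⁻¹ = i (K.q k)
          rw [← map_inv, ← map_mul, ← map_mul, h]
        · right
          apply Subtype.ext
          show i u * i (K.q k) * (i u)⁻¹ = i (K.q k) * i K.z
          rw [← map_inv, ← map_mul, ← map_mul, h, map_mul]
      qprod := by
        apply Subtype.ext
        show i (K.q 0) * i (K.q 1) * i (K.q 2) * i (K.q 3) * i (K.q 4) = 1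
        rw [← map_mul, ← map_mul, ← map_mul, ← map_mul, K.q_prod, map_one]
      Agen := fun a ha => Agen H a ((fix_iff P H _).1 ha)
      faith := by
        rintro _ ⟨⟨p, hp⟩, rfl⟩ h
        exact eP_triv P H hp (triv_A P H hp h)
      nt := by
        apply Subtype.ext
        show t * n * t⁻¹ = n * i K.z
        rw [P.t_inv, P.nt]
      Rn := by
        intro r hr
        obtain ⟨u, hu, rfl⟩ := mem_RY.1 hr
        apply Subtype.ext
        show i u * n * (i u)⁻¹ = n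
        rw [← P.nE u (K.Q_le_E hu)]
        group
      cA := by
        intro θ ht hx
        obtain ⟨a, ha, h⟩ := (fix_iff P H _).1 ht
        have h1 : i K.x * θ * (i K.x)⁻¹ = θ := congrArg Subtype.val hx
        rw [← h, mul_inv_eq_iff_eq_mul, ← map_mul, ← map_mul] at h1
        rcases K.cent_A_x a ha (P.inj h1).symm with h2 | h2
        · left
          apply Subtype.ext
          rw [← h, h2, map_one]
          rfl
        · right
          apply Subtype.ext
          rw [← h, h2]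
          rfl
      Rz := by
        intro θ ht hR
        obtain ⟨a, ha, h⟩ := (fix_iff P H _).1 ht
        have h1 : ∀ e ∈ K.Q, a * e = e * a := by
          intro e he
          have h2 := hR _ (mem_RY.2 ⟨e, he, rfl⟩)
          have h3 : i e * θ * (i e)⁻¹ = θ := congrArg Subtype.val h2
          rw [← h, mul_inv_eq_iff_eq_mul, ← map_mul, ← map_mul] at h3
          exact (P.inj h3).symm
        rcases K.cent_Q a h1 with h2 | h2
        · left
          apply Subtype.ext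
          rw [← h, h2, map_one]
          rfl
        · right
          apply Subtype.ext
          rw [← h, h2]
          rfl
      bound := bound P H }

/-- **All fields of `YH` but the T-formula.** -/
theorem yh0 : letI := cg H.ab
    ∃ r0, YH0 (Y := ↥(YY Θ)) (Θ := ↥Θ) (YY Θ).subtype (tY P H) (xY H) (sY H) r0 (RY H) (PbY H) (zY H) (nY H) :=
  letI := cg H.ab
  (pre P H).yh0

/-- `Tb` is the image of `T = ⟨t⟩ × U` -/
theorem Tb_eq :
    Tb (tY P H) (sY H) (RY H) = ((TT K i t).subgroupOf (normalizer (Θ : Set G))).map (proj Θ) := by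
  have hj : K.j ∈ K.P := K.U_le_P K.j_U
  have himg : ∀ (g : G) (hg : g ∈ normalizer (Θ : Set G)), g ∈ TT K i t →
      proj Θ ⟨g, hg⟩ ∈ ((TT K i t).subgroupOf (normalizer (Θ : Set G))).map (proj Θ) :=
    fun g hg h => ⟨⟨g, hg⟩, h, rfl⟩
  apply le_antisymm
  · refine sup_le (sup_le ?_ ?_) ?_
    · rw [zpowers_le]
      exact himg t _ P.t_TT
    · intro r hr
      obtain ⟨u, hu, rfl⟩ := mem_RY.1 hr
      exact himg (i u) _ (P.mem_TT.2 ⟨u, K.Q_le_U hu, Or.inl rfl⟩)
    · rw [zpowers_le]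
      exact himg (i K.s⁻¹) _ (P.mem_TT.2 ⟨_, inv_mem K.s_U, Or.inl rfl⟩)
  · have hx : ∀ (y : Y) (hy : y ∈ K.U), eP H ⟨y, K.U_le_P hy⟩ ∈ Tb (tY P H) (sY H) (RY H) := by
      intro y hy
      obtain ⟨u, hu, k, l, rfl⟩ := K.U_cases y hy
      have e1 : (⟨u * K.s ^ k * K.j ^ l, K.U_le_P hy⟩ : ↥K.P) =
          ⟨u, Q_le_P K hu⟩ * (⟨K.s⁻¹, inv_mem (K.U_le_P K.s_U)⟩⁻¹) ^ k * ⟨K.j, hj⟩ ^ l := by
        apply Subtype.ext
        show u * K.s ^ k * K.j ^ l = u * ((K.s⁻¹)⁻¹) ^ k * K.j ^ l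
        rw [inv_inv]
      rw [e1, map_mul, map_mul, map_pow, map_pow, map_inv, eP_j P H hj, one_pow, mul_one]
      refine mul_mem (mem_sup_left (mem_sup_right (mem_RY.2 ⟨u, hu, rfl⟩))) ?_
      exact mem_sup_right (pow_mem (inv_mem (mem_zpowers _)) k)
    rintro _ ⟨⟨g, hg⟩, h, rfl⟩
    have h' : g ∈ TT K i t := h
    obtain ⟨y, hy, h1⟩ := P.mem_TT.1 h'
    rcases h1 with rfl | rfl
    · exact hx y hy
    · have e : (⟨t * i y, hg⟩ : ↥(normalizer (Θ : Set G))) = ⟨t, t_mem P H⟩ * ⟨i y, p_mem H (K.U_le_P hy)⟩ := rfl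
      rw [e, map_mul]
      exact mul_mem (mem_sup_left (mem_sup_left (mem_zpowers _))) (hx y hy)

include P H in
/-- `T` normalises `Θ` -/
theorem TT_le : TT K i t ≤ normalizer (Θ : Set G) := by
  intro g hg
  obtain ⟨y, hy, rfl | rfl⟩ := P.mem_TT.1 hg
  · exact p_mem H (K.U_le_P hy)
  · exact mul_mem (t_mem P H) (p_mem H (K.U_le_P hy))

/-- **`YH`**, from the T-formula on `Y`. -/
theorem exists_yh (htf : TFY (tY P H) (sY H) (RY H)) : letI := cg H.ab
    ∃ r0, YH (Y := ↥(YY Θ)) (Θ := ↥Θ) (YY Θ).subtype (tY P H) (xY H) (sY H) r0 (RY H) (PbY H) (zY H) (nY H) := by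
  letI := cg H.ab
  obtain ⟨r0, h⟩ := yh0 P H
  exact ⟨r0, h.yh htf⟩

end main

end Cfsg.Agent.OddHalf.D7Tits.YOf

end

-- merged: Cfsg.Agent.OddHalf.D7Tits.AltEnd
section

/-!
# ODD D7, `K = ²F₄(2)'`: the T-formula in `Y = N_G(Θ)/C_G(Θ)` (helper381; text: bb ODD 16131)

`tfy` : `YAbs.TFY (tY P H) (sY H) (RY H)`, from `Pos K i t n` and `Th K i t n Θ`; `exists_yh` : `YH`.
-/

set_option autoImplicit false
set_option linter.unusedSectionVars false
set_option linter.unusedVariables false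

namespace Cfsg.Agent.OddHalf.D7Tits.AltEnd

open Subgroup Defs YAbs YOf AltType

open scoped commutatorElement

universe u v

variable {Y : Type u} [Group Y] {G : Type v} [Group G] {K : KT Y} {i : Y →* G} {t n : G} {Θ : Subgroup G}

theorem card_map (hi : Function.Injective i) (B : Subgroup Y) : Nat.card (B.map i) = Nat.card B :=
  (Nat.card_congr (B.equivMapOfInjective i hi).toEquiv).symm

/-- `|B| |C| ≤ |B C| |B ∩ C|` -/
theorem card_mul_le {M : Type*} [Group M] [Finite M] (B C : Subgroup M) :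
    Nat.card B * Nat.card C ≤ Nat.card (B ⊔ C : Subgroup M) * Nat.card (B ⊓ C : Subgroup M) := by
  have h5 : C.relIndex B = (C ⊓ B).relIndex B := (Subgroup.inf_relIndex_right C B).symm
  have h6 : Nat.card (C ⊓ B : Subgroup M) * (C ⊓ B).relIndex B = Nat.card B := by
    rw [← Subgroup.relIndex_bot_left (C ⊓ B), ← Subgroup.relIndex_bot_left B]
    exact Subgroup.relIndex_mul_relIndex _ _ _ bot_le inf_le_right
  have h7 : Nat.card C * C.relIndex (B ⊔ C) = Nat.card (B ⊔ C : Subgroup M) := by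
    rw [← Subgroup.relIndex_bot_left C, ← Subgroup.relIndex_bot_left (B ⊔ C)]
    exact Subgroup.relIndex_mul_relIndex _ _ _ bot_le le_sup_right
  have h8 : C.relIndex B ≤ C.relIndex (B ⊔ C) := Subgroup.relIndex_le_of_le_right le_sup_left
    (by
      intro h0
      rw [h0, mul_zero] at h7
      exact (Nat.card_pos (α := (B ⊔ C : Subgroup M))).ne h7)
  rw [inf_comm B C, ← h6, ← h7, ← h5]
  calc Nat.card (C ⊓ B : Subgroup M) * C.relIndex B * Nat.card C
      = Nat.card C * C.relIndex B * Nat.card (C ⊓ B : Subgroup M) := by ring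
    _ ≤ _ := Nat.mul_le_mul_right _ (Nat.mul_le_mul_left _ h8)

/-- `s² ∉ Q` -/
theorem s_pow_notMem (K : KT Y) {k : ℕ} (hk : K.s ^ k ∈ K.Q) : 4 ∣ k := by
  have hxQ : ∀ m : ℕ, K.x ^ m ∈ K.Q → K.x ^ m = 1 := by
    intro m hm
    have h1 := K.Q_pow _ hm
    have h2 : (K.x ^ m) ^ 5 = 1 := by rw [← pow_mul, mul_comm, pow_mul, K.x5, one_pow]
    have h3 : (K.x ^ m) ^ 5 = (K.x ^ m) ^ 4 * K.x ^ m := pow_succ _ _
    rw [h1, one_mul, h2] at h3
    exact h3.symm
  -- the commutator `x⁻¹ x^(s^k)`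
  have hconj : ∀ m : ℕ, (K.s ^ m)⁻¹ * K.x * K.s ^ m = K.x ^ 2 ^ m := by
    intro m
    induction m with
    | zero => simp
    | succ m ih =>
      rw [pow_succ]
      calc (K.s ^ m * K.s)⁻¹ * K.x * (K.s ^ m * K.s) = K.s⁻¹ * ((K.s ^ m)⁻¹ * K.x * K.s ^ m) * K.s := by group
        _ = K.s⁻¹ * K.x ^ 2 ^ m * K.s := by rw [ih]
        _ = (K.s⁻¹ * K.x * K.s) ^ 2 ^ m := by
          have := conj_pow (i := 2 ^ m) (a := K.s⁻¹) (b := K.x)
          rw [inv_inv] at this
          exact this.symm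
        _ = K.x ^ 2 ^ (m + 1) := by rw [K.x_s, ← pow_two, ← pow_mul, pow_succ' 2 m]
  have h1 : K.x⁻¹ * ((K.s ^ k)⁻¹ * K.x * K.s ^ k) ∈ K.Q := by
    have hxP : K.x ∈ K.P := K.E_le_P K.x_E
    have h2 : K.x⁻¹ * (K.s ^ k)⁻¹ * K.x⁻¹⁻¹ ∈ K.Q := K.nor_Q _ (inv_mem hxP) _ (inv_mem hk)
    have e : K.x⁻¹ * ((K.s ^ k)⁻¹ * K.x * K.s ^ k) = (K.x⁻¹ * (K.s ^ k)⁻¹ * K.x⁻¹⁻¹) * K.s ^ k := by group
    rw [e]
    exact mul_mem h2 hk
  rw [hconj] at h1
  have h2 : K.x⁻¹ * K.x ^ 2 ^ k = K.x ^ (2 ^ k - 1) := by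
    have e : 2 ^ k = (2 ^ k - 1) + 1 := (Nat.sub_add_cancel (Nat.one_le_two_pow)).symm
    conv_lhs => rw [e, pow_succ', ← mul_assoc, inv_mul_cancel, one_mul]
  rw [h2] at h1
  have h3 := hxQ _ h1
  have hp5 : Fact (Nat.Prime 5) := ⟨by norm_num⟩
  have h5 : orderOf K.x = 5 := orderOf_eq_prime K.x5 K.x1
  have h4 : 5 ∣ 2 ^ k - 1 := by rw [← h5]; exact orderOf_dvd_of_pow_eq_one h3
  -- `2 ^ k = 1 mod 5` iff `4 ∣ k`
  have h6 : 2 ^ k % 5 = 1 := by
    have : 1 ≤ 2 ^ k := Nat.one_le_two_pow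
    omega
  have h7 : ∀ m : ℕ, 2 ^ (4 * m + k % 4) % 5 = 2 ^ (k % 4) % 5 := by
    intro m
    induction m with
    | zero => simp
    | succ m ih =>
      have e : 4 * (m + 1) + k % 4 = 4 + (4 * m + k % 4) := by ring
      rw [e, pow_add, Nat.mul_mod, ih]
      norm_num
  have h8 := h7 (k / 4)
  rw [Nat.div_add_mod, h6] at h8
  have h9 : k % 4 < 4 := Nat.mod_lt _ (by norm_num)
  have h10 : k % 4 = 0 := by
    generalize k % 4 = r at h8 h9
    interval_cases r
    · rfl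
    · norm_num at h8
    · norm_num at h8
    · norm_num at h8
  exact Nat.dvd_of_mod_eq_zero h10

/-- `|U| ≥ 2¹¹` -/
theorem card_U (K : KT Y) : 2 ^ 11 ≤ Nat.card K.U := by
  have := K.fin
  have h1 := card_mul_le K.Q (zpowers K.s)
  have h2 : K.Q ⊓ zpowers K.s ≤ ⊥ := by
    intro y hy
    obtain ⟨k, hk⟩ := mem_powers_iff_mem_zpowers.2 hy.2
    have hk' : K.s ^ k = y := hk
    rw [← hk'] at hy ⊢
    obtain ⟨m, rfl⟩ := s_pow_notMem K hy.1
    rw [Subgroup.mem_bot, pow_mul, K.s4, one_pow]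
  have h3 : Nat.card (K.Q ⊓ zpowers K.s : Subgroup Y) = 1 := by
    rw [le_bot_iff.1 h2, Subgroup.card_bot]
  have h4 : Nat.card (zpowers K.s) = 4 := by
    rw [Nat.card_zpowers]
    have hp2 : Fact (Nat.Prime 2) := ⟨Nat.prime_two⟩
    refine orderOf_eq_prime_pow (p := 2) (n := 1) ?_ K.s4
    intro h
    have h5 := s_pow_notMem K (k := 2 ^ 1) (by rw [h]; exact one_mem _)
    norm_num at h5
  rw [h3, h4, K.card_Q, mul_one] at h1
  refine le_trans (by norm_num) (h1.trans (Subgroup.card_le_of_le (sup_le K.Q_le_U ?_)))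
  rw [zpowers_le]
  exact K.s_U

/-- `Sit` -/
theorem sit (P : Pos K i t n) : Sit t (TT K i t) (K.U.map i) (K.A₁.map i) := by
  have hfin := P.finG
  have hKfin := K.fin
  have htmul : ∀ y : Y, t * (t * i y) = i y := fun y => by rw [← mul_assoc, P.tt, one_mul]
  have hA₁Q := K.A₁_le
  refine { tt := P.tt, tU := ?_, mem_T := ?_, cU := ?_, pT := P.pT, syl := ?_, rank := ?_, cardA₁ := ?_, A₁U := ?_,
           cA₁ := ?_ }
  · rintro ⟨y, -, h⟩
    exact P.tY y h
  · intro x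
    rw [P.mem_TT]
    constructor
    · rintro ⟨y, hy, rfl | rfl⟩
      · exact Or.inl ⟨y, hy, rfl⟩
      · exact Or.inr ⟨y, hy, (htmul y).symm⟩
    · rintro (⟨y, hy, rfl⟩ | ⟨y, hy, h⟩)
      · exact ⟨y, hy, Or.inl rfl⟩
      · refine ⟨y, hy, Or.inr ?_⟩
        rw [h, ← mul_assoc, P.tt, one_mul]
  · rintro _ ⟨y, -, rfl⟩
    exact (P.ti y).symm
  · -- Sylow
    intro S hS hTS hSt
    have htS : t ∈ S := hTS P.t_TT
    -- the preimage of `S` in `Y`
    have h1 : IsPGroup 2 (S.comap i) := IsPGroup.comap_of_injective hS i P.inj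
    have hUS : K.U ≤ S.comap i := fun y hy => hTS (P.mem_TT.2 ⟨y, hy, Or.inl rfl⟩)
    have h2 : S.comap i = K.U := by
      have hp2 : Fact (Nat.Prime 2) := ⟨Nat.prime_two⟩
      symm
      have h3 := (IsPGroup.toSylow K.U_p K.U_odd).is_maximal' h1 hUS
      exact h3.symm
    intro g hg
    obtain ⟨y, rfl | rfl⟩ := P.cen g (hSt g hg)
    · exact P.mem_TT.2 ⟨y, by rw [← h2]; exact hg, Or.inl rfl⟩
    · refine P.mem_TT.2 ⟨y, ?_, Or.inr rfl⟩
      rw [← h2]
      show i y ∈ S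
      have := mul_mem htS hg
      rwa [htmul] at this
  · -- rank
    intro E hE htE hc
    have h1 : ∀ a ∈ E.comap i, a * a = 1 := by
      intro a ha
      apply P.inj
      rw [map_mul, map_one]
      exact hE.sq _ ha
    have h2 := K.K3 (E.comap i) h1
    have h3 : (E : Set G) ⊆ ((E.comap i).map i : Subgroup G) ∪ (fun w => t * w) '' ((E.comap i).map i : Subgroup G) := by
      intro x hx
      obtain ⟨y, rfl | rfl⟩ := P.cen x (hE.ab x hx t htE)
      · exact Or.inl ⟨y, hx, rfl⟩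
      · refine Or.inr ⟨i y, ⟨y, ?_, rfl⟩, rfl⟩
        show i y ∈ E
        have := mul_mem htE hx
        rwa [htmul] at this
    have h5 : (E : Set G).ncard ≤ _ := Set.ncard_le_ncard h3 (Set.toFinite _)
    have h6 := Set.ncard_union_le (((E.comap i).map i : Subgroup G) : Set G)
      ((fun w => t * w) '' (((E.comap i).map i : Subgroup G) : Set G))
    have h7 : ((fun w => t * w) '' (((E.comap i).map i : Subgroup G) : Set G)).ncard ≤
      (((E.comap i).map i : Subgroup G) : Set G).ncard := Set.ncard_image_le (Set.toFinite _)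
    have h8 : (((E.comap i).map i : Subgroup G) : Set G).ncard = Nat.card (E.comap i) := card_map P.inj _
    have h9 : (E : Set G).ncard = Nat.card E := rfl
    have h10 : (2 : ℕ) ^ 8 = 256 := by norm_num
    have h11 : (2 : ℕ) ^ 10 = 1024 := by norm_num
    omega
  · rw [card_map P.inj, K.A₁_card]
  · exact Subgroup.map_mono (K.A₁_le.trans K.Q_le_U)
  · rintro _ ⟨u, hu, rfl⟩ h
    refine ⟨u, K.cent_A₁ u hu fun a ha => P.inj ?_, rfl⟩
    rw [map_mul, map_mul]
    exact h (i a) ⟨a, ha, rfl⟩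

/-- (K2') in `G` -/
theorem K2G (P : Pos K i t n) : ∀ B : Subgroup G, B ≤ K.U.map i → EA B → (∀ u ∈ K.U.map i, ∀ a ∈ B, u * a * u⁻¹ ∈ B) →
    2 ^ 5 ≤ Nat.card B → B = K.A.map i ∨ B = K.A₁.map i := by
  intro B hBU hB hn hc
  have e : (B.comap i).map i = B := by
    rw [Subgroup.map_comap_eq, inf_eq_right]
    exact hBU.trans (Subgroup.map_le_range i K.U)
  have h1 : Nat.card (B.comap i) = Nat.card B := by
    conv_rhs => rw [← e]
    rw [card_map P.inj]
  have h2 := K.K2 (B.comap i) (by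
      intro y hy
      obtain ⟨u, hu, e⟩ := hBU hy
      rwa [← P.inj e]) (by
      intro a ha
      apply P.inj
      rw [map_mul, map_one]
      exact hB.sq _ ha) (by
      intro u hu a ha
      show i (u * a * u⁻¹) ∈ B
      rw [map_mul, map_mul, map_inv]
      exact hn _ ⟨u, hu, rfl⟩ _ ha) (by rw [h1]; exact hc)
  rw [← e]
  rcases h2 with h2 | h2
  · left; rw [h2]
  · right; rw [h2]

/-- `n⁻¹ t n = t z` -/
theorem nt' (P : Pos K i t n) : n * t * n = t * i K.z := by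
  have h1 := P.nt
  have h2 : t * (t * n * t) = t * (n * i K.z) := by rw [h1]
  have h3 : n * t = t * (n * i K.z) := by
    rw [← h2]
    calc n * t = (t * t) * n * t := by rw [P.tt, one_mul]
      _ = t * (t * n * t) := by group
  calc n * t * n = t * (n * i K.z) * n := by rw [h3]
    _ = t * n * (i K.z * n) := by group
    _ = t * n * (n * i K.z) := by rw [P.nz]
    _ = t * (n * n) * i K.z := by group
    _ = t * i K.z := by rw [P.nn, mul_one]

/-- the points of `A` -/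
def pts (K : KT Y) (i : Y →* G) : Set G := {v | ∃ g : Y, g⁻¹ * K.z * g ∈ K.A ∧ v = i (g⁻¹ * K.z * g)}

/-- `TD` -/
theorem td (P : Pos K i t n) (H : Th K i t n Θ) :
    TD t (TT K i t) (K.A.map i) Θ ((centralizer (K.A : Set Y)).map i) (pts K i) := by
  have hKfin := K.fin
  have hJ : ∀ y, y ∈ centralizer (K.A : Set Y) ↔ ∀ a ∈ K.A, y * a = a * y := fun y => by
    rw [mem_centralizer_iff]
    exact ⟨fun h a ha => (h a ha).symm, fun h a ha => (h a ha).symm⟩
  have ea : EA Θ := ⟨H.ab, H.sq⟩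
  refine { cardA := ?_, ea := ea, card := H.card, nT := ?_, AΘ := H.A_le, fix := H.fix, gen := ?_, VA := ?_,
           fus := ?_, cJ := ?_, JΘ := ?_, Jt := ?_, Jsq := ?_ }
  · rw [card_map P.inj, K.card_A]
  · intro s hs x hx
    obtain ⟨y, hy, rfl | rfl⟩ := P.mem_TT.1 hs
    · exact H.nP y (K.U_le_P hy) x hx
    · have h1 := H.nt _ (H.nP y (K.U_le_P hy) x hx)
      have e : t * i y * x * (t * i y)⁻¹ = t * (i y * x * (i y)⁻¹) * t := by
        rw [mul_inv_rev, P.t_inv]; group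
      rw [e]; exact h1
  · have h1 : K.A.map i ≤ (closure ({K.z} ∪ Set.range K.q)).map i := Subgroup.map_mono K.A_gen
    refine h1.trans ?_
    rw [MonoidHom.map_closure, closure_le]
    rintro _ ⟨y, hy, rfl⟩
    apply Subgroup.subset_closure
    rcases hy with hy | ⟨k, rfl⟩
    · rw [Set.mem_singleton_iff] at hy
      subst hy
      refine ⟨1, ?_, ?_⟩
      · rw [inv_one, one_mul, mul_one]; exact K.z_A
      · rw [inv_one, one_mul, mul_one]
    · obtain ⟨g, hg⟩ := K.pt k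
      refine ⟨g, by rw [hg]; exact K.q_A k, by rw [hg]⟩
  · rintro _ ⟨g, hg, rfl⟩
    exact ⟨_, hg, rfl⟩
  · rintro _ ⟨g, hg, rfl⟩
    refine ⟨n * i g, ?_⟩
    have h1 := nt' P
    have h2 := P.ti g
    have h3 := P.tmap g
    calc (n * i g)⁻¹ * t * (n * i g) = (i g)⁻¹ * (n⁻¹ * t * n) * i g := by group
      _ = (i g)⁻¹ * (t * i K.z) * i g := by rw [P.n_inv, h1]
      _ = ((i g)⁻¹ * t) * (i K.z * i g) := by group
      _ = t * ((i g)⁻¹ * i K.z * i g) := by rw [← h3]; group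
      _ = t * i (g⁻¹ * K.z * g) := by rw [map_mul, map_mul, map_inv]
  · intro c hct hcA
    obtain ⟨y, h | h⟩ := P.cen c hct
    · refine ⟨i y, ⟨y, (hJ y).2 fun a ha => P.inj ?_, rfl⟩, Or.inl h⟩
      rw [map_mul, map_mul, ← h]
      exact hcA _ ⟨a, ha, rfl⟩
    · refine ⟨i y, ⟨y, (hJ y).2 fun a ha => P.inj ?_, rfl⟩, Or.inr h⟩
      have h1 := hcA _ ⟨a, ha, rfl⟩
      rw [map_mul, map_mul]
      rw [h] at h1
      have h2 : t * (i y * i a) = t * (i a * i y) := by
        calc t * (i y * i a) = t * i y * i a := by group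
          _ = (i a * t) * i y := by rw [h1]; group
          _ = t * (i a * i y) := by rw [← P.ti]; group
      exact mul_left_cancel h2
  · rintro _ ⟨y, hy, rfl⟩ x hx
    obtain ⟨a, ha, l, rfl⟩ := K.cent_A y ((hJ y).1 hy)
    have h1 : (i K.j) ^ l * x = x * (i K.j) ^ l := ((show Commute (i K.j) x from (H.nj x hx).symm).pow_left l).eq
    rw [map_mul, map_pow]
    calc i a * i K.j ^ l * x = i a * (i K.j ^ l * x) := by group
      _ = (i a * x) * i K.j ^ l := by rw [h1]; group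
      _ = x * (i a * i K.j ^ l) := by rw [H.ab _ (H.A_le ⟨a, ha, rfl⟩) x hx]; group
  · rintro _ ⟨y, -, rfl⟩
    exact (P.ti y).symm
  · rintro _ ⟨y, hy, rfl⟩ hsq
    have hsq' : y * y = 1 := P.inj (by rw [map_mul, map_one]; exact hsq)
    obtain ⟨a, ha, l, e⟩ := K.cent_A y ((hJ y).1 hy)
    have hya := (hJ y).1 hy a ha
    refine ⟨y, ?_, rfl⟩
    rcases K.j_or with hj | ⟨hj, -⟩
    · rw [e, hj, one_pow, mul_one]; exact ha
    · have hjl : K.j ^ l = a⁻¹ * y := by rw [e]; group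
      have h2 : K.z ^ l = 1 := by
        have h3 : K.z ^ l = K.j ^ l * K.j ^ l := by rw [← hj, ← pow_two, ← pow_mul, mul_comm, pow_mul, pow_two]
        rw [h3, hjl]
        have h4 : a⁻¹ * y = y * a⁻¹ := by
          rw [inv_mul_eq_iff_eq_mul, ← mul_assoc, ← hya, mul_inv_cancel_right]
        have h5 : a⁻¹ = a := inv_eq_of_mul_eq_one_left (K.sq_A a ha)
        calc a⁻¹ * y * (a⁻¹ * y) = a⁻¹ * (y * a⁻¹) * y := by group
          _ = a⁻¹ * a⁻¹ * (y * y) := by rw [← h4]; group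
          _ = 1 := by rw [h5, K.sq_A a ha, hsq', one_mul]
      have h3 : ∃ m, l = 2 * m := by
        rcases Nat.even_or_odd' l with ⟨m, rfl | rfl⟩
        · exact ⟨m, rfl⟩
        · exfalso
          rw [pow_succ, pow_mul, pow_two, K.zz, one_pow, one_mul] at h2
          exact K.z1 h2
      obtain ⟨m, rfl⟩ := h3
      rw [e, pow_mul, pow_two, hj]
      exact mul_mem ha (pow_mem K.z_A m)

/-- **The T-formula in `Y`.** -/
theorem tfy (P : Pos K i t n) (H : Th K i t n Θ) : TFY (tY P H) (sY H) (RY H) := by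
  have hfin := P.finG
  have hKfin := K.fin
  have hS := sit P
  have hD := td P H
  have AU : K.A.map i ≤ K.U.map i := Subgroup.map_mono (K.A_le_Q.trans K.Q_le_U)
  intro X hX hu hB μ ht
  have hT := Tb_eq P H
  rw [hT] at hX hu
  have hTN := TT_le P H
  refine hS.tfy hD AU (K2G P) ?_ P.tf hTN (proj Θ) (proj_sur Θ) (fun y => proj_eq_one) X hX hu hB μ ht
  rcases K.j_or with hj | ⟨hj, -⟩
  · left
    refine ⟨?_, ?_⟩
    · -- `|T| = 2 |U|`
      have h1 := card_mul_le (TT K i t) (TT K i t)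
      have h2 : K.U.map i ⊔ zpowers t = TT K i t := sup_comm _ _
      have h3 := card_mul_le (K.U.map i) (zpowers t)
      rw [h2] at h3
      have h4 : K.U.map i ⊓ zpowers t ≤ ⊥ := by
        intro x hx
        obtain ⟨k, hk⟩ := mem_powers_iff_mem_zpowers.2 hx.2
        have hk' : t ^ k = x := hk
        rcases Nat.even_or_odd' k with ⟨m, rfl | rfl⟩
        · rw [Subgroup.mem_bot, ← hk', pow_mul, pow_two, P.tt, one_pow]
        · exfalso
          rw [pow_succ, pow_mul, pow_two, P.tt, one_pow, one_mul] at hk'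
          rw [← hk'] at hx
          exact hS.tU hx.1
      have h5 : Nat.card (zpowers t) = 2 := by
        rw [Nat.card_zpowers]
        have hp2 : Fact (Nat.Prime 2) := ⟨Nat.prime_two⟩
        exact orderOf_eq_prime (by rw [pow_two]; exact P.tt) P.t1
      rw [le_bot_iff.1 h4, Subgroup.card_bot, h5, card_map P.inj, mul_one] at h3
      have h6 := card_U K
      norm_num at h6 ⊢
      omega
    · intro N hNU hA₁N hsq hn
      have e : (N.comap i).map i = N := by
        rw [Subgroup.map_comap_eq, inf_eq_right]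
        exact hNU.trans (Subgroup.map_le_range i K.U)
      have h1 : Nat.card (N.comap i) = Nat.card N := by
        conv_rhs => rw [← e]
        rw [card_map P.inj]
      rw [← h1]
      have hNU' : N.comap i ≤ K.U := by
        intro y hy
        obtain ⟨u, hu, e⟩ := hNU hy
        rwa [← P.inj e]
      have hsq' : ∀ a ∈ N.comap i, a * a ∈ K.A₁ := by
        intro a ha
        obtain ⟨b, hb, e⟩ := hsq _ ha
        rw [← map_mul] at e
        rwa [← P.inj e]
      refine K.KF hj _ hNU' ?_ hsq' ?_ ?_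
      · intro a ha
        exact hA₁N ⟨a, ha, rfl⟩
      · intro u hu a ha
        show i (u * a * u⁻¹) ∈ N
        rw [map_mul, map_mul, map_inv]
        exact hn _ ⟨u, hu, rfl⟩ _ ha
      · intro a ha b hb
        have e : ⁅a, b⁆ = (a * b) * (a * b) * (b⁻¹ * (a * a)⁻¹ * b⁻¹⁻¹) * (b * b)⁻¹ := by
          rw [commutatorElement_def]; group
        rw [e]
        refine mul_mem (mul_mem (hsq' _ (mul_mem ha hb)) ?_) (inv_mem (hsq' b hb))
        exact K.A₁_nor _ (inv_mem (hNU' hb)) _ (inv_mem (hsq' a ha))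
  · right
    refine ⟨i K.j, ?_, ?_, fun x hx => (H.nj x hx).symm⟩
    · intro h
      have h1 := H.sq _ h
      rw [← map_mul, hj] at h1
      exact K.z1 (P.inj (by rw [h1, map_one]))
    · rw [← map_mul, hj]
      exact H.A_le ⟨K.z, K.z_A, rfl⟩

/-- **`YH`**, from `Pos` and `Th`. -/
theorem exists_yh (P : Pos K i t n) (H : Th K i t n Θ) : letI := cg H.ab
    ∃ r0, YH (Y := ↥(YY Θ)) (Θ := ↥Θ) (YY Θ).subtype (tY P H) (xY H) (sY H) r0 (RY H) (PbY H) (zY H) (nY H) :=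
  YOf.exists_yh P H (tfy P H)

end Cfsg.Agent.OddHalf.D7Tits.AltEnd

end

-- merged: Cfsg.Agent.OddHalf.D7Tits.YOne
section

/-!
# `K = ²F₄(2)'`: the order of `N_Y(E5)` (helper625; text: ODD #15617, 4.1 and 4.2)

`card_N5` : `|N_Y(E5)|` is `3840` or `10240`, i.e. `t` has 6 or 16 conjugates under `N_Y(E5)`.
-/

set_option autoImplicit false
set_option linter.unusedSectionVars false

namespace Cfsg.Agent.OddHalf.D7Tits.YOne

open Subgroup YBase

variable {Y Θ : Type*} [Group Y] [CommGroup Θ] {ρ : Y →* MulAut Θ} {t x s r0 : Y} {R Pb : Subgroup Y} {z n : Θ}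
  (H : YH ρ t x s r0 R Pb z n)

include H

/-! ### The sign on `⟨t⟩ × Pb` -/

theorem nP {a : Y} (h : t * a ∈ Pb) : a ∉ Pb := fun ha => H.tP (by
  have := mul_mem h (inv_mem ha)
  rwa [mul_inv_cancel_right] at this)

theorem mulP {a b : Y} (ha : a ∈ Pb ∨ t * a ∈ Pb) (hb : b ∈ Pb ∨ t * b ∈ Pb) :
    a * b ∈ Pb ↔ (a ∈ Pb ↔ b ∈ Pb) := by
  rcases ha with ha | ha <;> rcases hb with hb | hb
  · exact ⟨fun _ => ⟨fun _ => hb, fun _ => ha⟩, fun _ => mul_mem ha hb⟩
  · have hb' := nP H hb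
    constructor
    · intro h
      exact absurd (by have := mul_mem (inv_mem ha) h; rwa [inv_mul_cancel_left] at this) hb'
    · intro h
      exact absurd (h.1 ha) hb'
  · have ha' := nP H ha
    constructor
    · intro h
      exact absurd (by have := mul_mem h (inv_mem hb); rwa [mul_inv_cancel_right] at this) ha'
    · intro h
      exact absurd (h.2 hb) ha'
  · have ha' := nP H ha
    have hb' := nP H hb
    have h1 : a * b = t * a * (t * b) := by
      have h2 := H.comm _ ha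
      rw [t_t H] at h2
      calc a * b = t * a * t * b := by rw [← h2]
        _ = _ := mul_assoc _ _ _
    constructor
    · intro _
      exact ⟨fun h => absurd h ha', fun h => absurd h hb'⟩
    · intro _
      rw [h1]
      exact mul_mem ha hb

theorem Tb_P {y : Y} (hy : y ∈ Tb t s R) : y ∈ Pb ∨ t * y ∈ Pb := by
  obtain ⟨e, he, k, rfl⟩ := (mem_Tb H).1 hy
  rcases (mem_E5 H).1 he with h | h
  · exact Or.inl (mul_mem (H.RP h) (pow_mem H.sP k))
  · right
    rw [← mul_assoc]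
    exact mul_mem (H.RP h) (pow_mem H.sP k)

/-- commutators of elements of `Tb` are in `Pb` -/
theorem comm_P {c d : Y} (hc : c ∈ Tb t s R) (hd : d ∈ Tb t s R) : c * d * c⁻¹ * d⁻¹ ∈ Pb := by
  have h1 := Tb_P H hc
  have h2 := Tb_P H hd
  have h3 := Tb_P H (inv_mem hc)
  have h4 := Tb_P H (inv_mem hd)
  rw [mulP H (Tb_P H (mul_mem (mul_mem hc hd) (inv_mem hc))) h4, mulP H (Tb_P H (mul_mem hc hd)) h3, mulP H h1 h2,
    inv_mem_iff, inv_mem_iff]
  tauto

/-! ### `N_{C(t)}(Tb) = Tb` -/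

theorem pow_x_Tb {j : ℕ} (h : x ^ j ∈ Tb t s R) : x ^ j = 1 := by
  obtain ⟨k, hk⟩ := Tb_p H ⟨x ^ j, h⟩
  have h1 : (x ^ j) ^ 2 ^ k = 1 := congrArg Subtype.val hk
  have h2 : (x ^ j) ^ 5 = 1 := by rw [← pow_mul, mul_comm, pow_mul, H.x5, one_pow]
  have h3 : orderOf (x ^ j) ∣ 2 ^ k := orderOf_dvd_of_pow_eq_one h1
  have h4 : orderOf (x ^ j) ∣ 5 := orderOf_dvd_of_pow_eq_one h2
  have h5 : Nat.Coprime (2 ^ k) 5 := Nat.Coprime.pow_left _ (by norm_num)
  have h6 : orderOf (x ^ j) ∣ 1 := by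
    rw [← h5]
    exact Nat.dvd_gcd h3 h4
  rw [Nat.dvd_one] at h6
  exact orderOf_eq_one_iff.1 h6

theorem nor_Ct {y : Y} (hy : y * t = t * y) (hn : ∀ a ∈ Tb t s R, y * a * y⁻¹ ∈ Tb t s R) : y ∈ Tb t s R := by
  have key : ∀ y ∈ Pb, (∀ a ∈ Tb t s R, y * a * y⁻¹ ∈ Tb t s R) → y ∈ Tb t s R := by
    intro y hy hn
    obtain ⟨r, hr, j, k, rfl⟩ := H.gen y hy
    have h1 := hn s (s_Tb H)
    have hr' := R_Tb H hr
    have h2 : x ^ j * s * (x ^ j)⁻¹ ∈ Tb t s R := by
      have h3 := mul_mem (mul_mem (inv_mem hr') h1) hr'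
      have e : r⁻¹ * (r * x ^ j * s ^ k * s * (r * x ^ j * s ^ k)⁻¹) * r = x ^ j * s * (x ^ j)⁻¹ := by
        have e1 : s ^ k * s = s * s ^ k := by rw [← pow_succ, ← pow_succ']
        calc r⁻¹ * (r * x ^ j * s ^ k * s * (r * x ^ j * s ^ k)⁻¹) * r
            = x ^ j * (s ^ k * s) * (s ^ k)⁻¹ * (x ^ j)⁻¹ := by group
          _ = x ^ j * s * (x ^ j)⁻¹ := by rw [e1]; group
      rwa [e] at h3
    have h3 : x ^ j * s * (x ^ j)⁻¹ = (x ^ j)⁻¹ * s := by
      have h4 := s_xp H j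
      have h5 : s * (x ^ j)⁻¹ = (x ^ (2 * j))⁻¹ * s := by
        rw [mul_inv_eq_iff_eq_mul, mul_assoc, h4, inv_mul_cancel_left]
      rw [mul_assoc, h5, two_mul, pow_add]
      group
    rw [h3] at h2
    have h4 : (x ^ j)⁻¹ ∈ Tb t s R := by
      have := mul_mem h2 (inv_mem (s_Tb H))
      rwa [mul_inv_cancel_right] at this
    have h5 := pow_x_Tb H (inv_mem_iff.1 h4)
    rw [h5, mul_one]
    exact mul_mem hr' (pow_mem (s_Tb H) k)
  rcases H.cent y hy with h | h
  · exact key y h hn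
  · have h1 : t * y ∈ Tb t s R := by
      refine key _ h fun a ha => ?_
      have h2 := hn a ha
      have e : t * y * a * (t * y)⁻¹ = t * (y * a * y⁻¹) * t⁻¹ := by group
      rw [e]
      exact mul_mem (mul_mem (t_Tb H) h2) (inv_mem (t_Tb H))
    rw [← t_t H y]
    exact mul_mem (t_Tb H) h1

/-! ### `Z(Tb)` -/

theorem center_Tb {c : Y} (hc : c ∈ Tb t s R) (h : ∀ a ∈ Tb t s R, c * a = a * c) :
    c = 1 ∨ c = r0 ∨ c = t ∨ c = t * r0 := by
  have h1 : c ∈ E5 t R := cent_E5 H fun e he => h e (E5_Tb H he)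
  have h2 := h s (s_Tb H)
  rcases (mem_E5 H).1 h1 with h3 | h3
  · rcases H.cs c h3 h2.symm with h4 | h4
    · exact Or.inl h4
    · exact Or.inr (Or.inl h4)
  · have h4 : s * (t * c) = t * c * s := by
      rw [← mul_assoc, ← ts H, mul_assoc, ← h2, mul_assoc]
    rcases H.cs _ h3 h4 with h5 | h5
    · right; right; left
      have := congrArg (fun w => t * w) h5
      simpa [t_t H] using this
    · right; right; right
      have := congrArg (fun w => t * w) h5
      simpa [t_t H] using this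

theorem r0_sq : r0 * r0 = 1 := H.twoR r0 H.r0R

/-- `r0` is a commutator -/
theorem r0_comm : ∃ r ∈ R, r * s * r⁻¹ * s⁻¹ = r0 := by
  have := H.fin
  have hcomm := comm_of_sq H.twoR
  have hsR : ∀ r ∈ R, s * r * s⁻¹ ∈ R := H.nR s H.sP
  -- the map `r ↦ r s r⁻¹ s⁻¹`
  let φ : ↥R →* ↥R :=
    { toFun := fun r => ⟨r * (s * (r : Y) * s⁻¹)⁻¹, mul_mem r.2 (inv_mem (hsR r r.2))⟩
      map_one' := by
        apply Subtype.ext
        show (1 : Y) * (s * 1 * s⁻¹)⁻¹ = 1
        group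
      map_mul' := by
        intro a b
        apply Subtype.ext
        show (a : Y) * b * (s * (a * b) * s⁻¹)⁻¹ = a * (s * a * s⁻¹)⁻¹ * (b * (s * b * s⁻¹)⁻¹)
        have h1 := hcomm _ (inv_mem (hsR a a.2)) _ (mul_mem b.2 (inv_mem (hsR b b.2)))
        have h2 := hcomm _ (inv_mem (hsR b b.2)) _ (inv_mem (hsR a a.2))
        calc (a : Y) * b * (s * (a * b) * s⁻¹)⁻¹ = a * b * ((s * b * s⁻¹)⁻¹ * (s * a * s⁻¹)⁻¹) := by group
          _ = a * (b * (s * b * s⁻¹)⁻¹ * (s * a * s⁻¹)⁻¹) := by group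
          _ = a * ((s * a * s⁻¹)⁻¹ * (b * (s * b * s⁻¹)⁻¹)) := by rw [h1]
          _ = _ := by group }
  have hφ : ∀ r : ↥R, ((φ r : ↥R) : Y) = r * (s * (r : Y) * s⁻¹)⁻¹ := fun _ => rfl
  have hker : Nat.card φ.ker ≤ 2 := by
    have h1 : (Subtype.val '' (φ.ker : Set ↥R)) ⊆ ({1, r0} : Set Y) := by
      rintro _ ⟨r, hr, rfl⟩
      have h2 : (r : Y) * (s * (r : Y) * s⁻¹)⁻¹ = 1 := congrArg Subtype.val hr
      rw [mul_inv_eq_one, eq_mul_inv_iff_mul_eq] at h2
      rcases H.cs r r.2 h2.symm with h3 | h3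
      · exact Or.inl h3
      · exact Or.inr h3
    have h2 := Set.ncard_le_ncard h1 (Set.toFinite _)
    rw [Set.ncard_image_of_injective _ Subtype.val_injective] at h2
    exact h2.trans (Set.ncard_insert_le _ _ |>.trans (by rw [Set.ncard_singleton]))
  have hcard := card_ker_range φ
  rw [H.cardR] at hcard
  have hrange : 8 ≤ Nat.card φ.range := by
    by_contra h
    rw [not_le] at h
    have : Nat.card φ.ker * Nat.card φ.range ≤ 2 * 7 := Nat.mul_le_mul hker (by omega)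
    omega
  have hdvd : Nat.card φ.range ∣ 16 := by rw [hcard]; exact dvd_mul_left _ _
  have h2dvd : 2 ∣ Nat.card φ.range := by
    have h1 : Nat.card φ.range = 8 ∨ Nat.card φ.range = 16 := by
      have h2 : Nat.card φ.range ≤ 16 := Nat.le_of_dvd (by norm_num) hdvd
      generalize Nat.card φ.range = m at *
      interval_cases m <;> revert hdvd <;> decide
    rcases h1 with h1 | h1 <;> rw [h1] <;> norm_num
  -- `s` acts on the range
  have hsr : ∀ b : ↥R, b ∈ φ.range → (⟨s * (b : Y) * s⁻¹, hsR b b.2⟩ : ↥R) ∈ φ.range := by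
    rintro _ ⟨a, rfl⟩
    refine ⟨⟨s * (a : Y) * s⁻¹, hsR a a.2⟩, Subtype.ext ?_⟩
    show s * (a : Y) * s⁻¹ * (s * (s * a * s⁻¹) * s⁻¹)⁻¹ = s * (a * (s * a * s⁻¹)⁻¹) * s⁻¹
    group
  have hp : Fact (Nat.Prime 2) := ⟨Nat.prime_two⟩
  let f : Function.End ↥φ.range := fun b => ⟨⟨s * ((b : ↥R) : Y) * s⁻¹, hsR _ (b : ↥R).2⟩, hsr _ b.2⟩
  have hf : f ^ 2 ^ 2 = 1 := by
    have e : (2 : ℕ) ^ 2 = 4 := by norm_num
    rw [e]
    funext b
    apply Subtype.ext
    apply Subtype.ext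
    show s * (s * (s * (s * ((b : ↥R) : Y) * s⁻¹) * s⁻¹) * s⁻¹) * s⁻¹ = ((b : ↥R) : Y)
    have h4 : s * s * s * s = 1 := by
      have := H.s4
      simpa [pow_succ] using this
    calc s * (s * (s * (s * ((b : ↥R) : Y) * s⁻¹) * s⁻¹) * s⁻¹) * s⁻¹
        = (s * s * s * s) * ((b : ↥R) : Y) * (s * s * s * s)⁻¹ := by group
      _ = _ := by rw [h4]; group
  classical
  have := Fintype.ofFinite ↥φ.range
  have h5 := Equiv.Perm.card_fixedPoints_modEq hf
  have h6 : 2 ∣ Fintype.card (Function.fixedPoints f) := by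
    rw [← Nat.card_eq_fintype_card] at h5
    have h7 := (Nat.modEq_zero_iff_dvd.2 h2dvd)
    exact (Nat.modEq_zero_iff_dvd).1 (h5.symm.trans h7)
  have h7 : 1 < Fintype.card (Function.fixedPoints f) := by
    have h8 : 0 < Fintype.card (Function.fixedPoints f) := by
      rw [Fintype.card_pos_iff]
      refine ⟨⟨1, ?_⟩⟩
      show f 1 = 1
      apply Subtype.ext
      apply Subtype.ext
      show s * (1 : Y) * s⁻¹ = 1
      group
    exact lt_of_lt_of_le one_lt_two (Nat.le_of_dvd h8 h6)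
  obtain ⟨⟨b, hb⟩, ⟨b', hb'⟩, hne⟩ := Fintype.one_lt_card_iff.1 h7
  have key : ∀ b : ↥φ.range, f b = b → ((b : ↥R) : Y) = 1 ∨ ((b : ↥R) : Y) = r0 := by
    intro b hb
    have h8 : s * ((b : ↥R) : Y) * s⁻¹ = ((b : ↥R) : Y) := congrArg (fun c : ↥φ.range => ((c : ↥R) : Y)) hb
    rw [mul_inv_eq_iff_eq_mul] at h8
    exact H.cs _ (b : ↥R).2 h8
  have hex : ∃ b : ↥φ.range, ((b : ↥R) : Y) = r0 := by
    rcases key b hb with h8 | h8
    · rcases key b' hb' with h9 | h9
      · exfalso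
        apply hne
        apply Subtype.ext
        apply Subtype.ext
        apply Subtype.ext
        rw [h8, h9]
      · exact ⟨b', h9⟩
    · exact ⟨b, h8⟩
  obtain ⟨⟨c, a, ha⟩, hc⟩ := hex
  refine ⟨a, a.2, ?_⟩
  have h8 : ((φ a : ↥R) : Y) = r0 := by rw [ha]; exact hc
  rw [hφ] at h8
  rw [← h8]
  group

/-! ### The normalizer of `Tb` -/

/-- (4.1) `N_Y(Tb) > Tb` -/
theorem exists_h : ∃ h : Y, (∀ a ∈ Tb t s R, h⁻¹ * a * h ∈ Tb t s R) ∧ h ∉ Tb t s R := by
  classical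
  by_contra hcon
  push Not at hcon
  let μ : ↥(Tb t s R) →* Multiplicative (ZMod 2) :=
    { toFun := fun y => if (y : Y) ∈ Pb then 1 else Multiplicative.ofAdd 1
      map_one' := if_pos (one_mem Pb)
      map_mul' := by
        intro a b
        have h1 := mulP H (Tb_P H a.2) (Tb_P H b.2)
        have h2 : (Multiplicative.ofAdd (1 : ZMod 2)) * Multiplicative.ofAdd 1 = 1 := by decide
        show (if (a : Y) * b ∈ Pb then (1 : Multiplicative (ZMod 2)) else Multiplicative.ofAdd 1) = _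
        by_cases ha : (a : Y) ∈ Pb <;> by_cases hb : (b : Y) ∈ Pb
        · rw [if_pos (h1.2 (by tauto)), if_pos ha, if_pos hb, one_mul]
        · rw [if_neg (fun h => by have := h1.1 h; tauto), if_pos ha, if_neg hb, one_mul]
        · rw [if_neg (fun h => by have := h1.1 h; tauto), if_neg ha, if_pos hb, mul_one]
        · rw [if_pos (h1.2 (by tauto)), if_neg ha, if_neg hb, h2] }
  have h1 := H.tfy (Tb t s R) le_rfl (fun g hg => hcon g hg) ⟨E5 t R, E5_Tb H, ?_, E5_sq H, Or.inr ⟨?_, ?_⟩⟩ μ (t_Tb H)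
  · have h2 : μ ⟨t, t_Tb H⟩ = Multiplicative.ofAdd 1 := if_neg H.tP
    rw [h2] at h1
    exact absurd h1 (by decide)
  · intro g hg b hb
    obtain ⟨e, he, k, rfl⟩ := (mem_Tb H).1 hg
    have h2 := Pb_nE H (pow_mem H.sP k) hb
    have e1 : e * s ^ k * b * (e * s ^ k)⁻¹ = e * (s ^ k * b * (s ^ k)⁻¹) * e⁻¹ := by group
    rw [e1]
    exact mul_mem (mul_mem he h2) (inv_mem he)
  · rw [card_E5 H]; norm_num
  · intro S hS _
    have := H.fin
    refine (Subgroup.card_le_of_le hS).trans ?_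
    rw [card_Tb H]
    norm_num

theorem nor_iff {h : Y} : h ∈ normalizer (Tb t s R : Set Y) ↔ ∀ a ∈ Tb t s R, h * a * h⁻¹ ∈ Tb t s R := by
  have := H.fin
  constructor
  · intro h1 a ha
    exact (mem_normalizer_iff.1 h1 a).1 ha
  · intro h1
    have h2 : (Tb t s R).map (MulAut.conj h).toMonoidHom ≤ Tb t s R := by
      rintro _ ⟨a, ha, rfl⟩
      exact h1 a ha
    have h3 : (Tb t s R).map (MulAut.conj h).toMonoidHom = Tb t s R := by
      apply Subgroup.eq_of_le_of_card_ge h2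
      rw [Subgroup.card_map_of_injective (MulAut.conj h).injective]
    rw [mem_normalizer_iff]
    intro a
    refine ⟨h1 a, fun h4 => ?_⟩
    rw [← h3] at h4
    obtain ⟨b, hb, h5⟩ := h4
    have h6 : b = a := (MulAut.conj h).injective h5
    rw [← h6]
    exact hb

/-- `N_Y(Tb) ≤ N_Y(E5)` -/
theorem nor_le : normalizer (Tb t s R : Set Y) ≤ normalizer (E5 t R : Set Y) := by
  have := H.fin
  have key : ∀ h ∈ normalizer (Tb t s R : Set Y), ∀ a ∈ E5 t R, h * a * h⁻¹ ∈ E5 t R := by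
    intro h hh a ha
    have h1 : (E5 t R).map (MulAut.conj h).toMonoidHom = E5 t R := by
      apply E_eq H
      · rintro _ ⟨b, hb, rfl⟩
        exact (nor_iff H).1 hh b (E5_Tb H hb)
      · rintro _ ⟨b, hb, rfl⟩
        have h2 := E5_sq H b hb
        show h * b * h⁻¹ * (h * b * h⁻¹) = 1
        calc h * b * h⁻¹ * (h * b * h⁻¹) = h * (b * b) * h⁻¹ := by group
          _ = 1 := by rw [h2]; group
      · rw [Subgroup.card_map_of_injective (MulAut.conj h).injective, card_E5 H]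
    rw [← h1]
    exact ⟨a, ha, rfl⟩
  intro h hh
  rw [mem_normalizer_iff]
  intro a
  refine ⟨key h hh a, fun h1 => ?_⟩
  have h2 := key _ (inv_mem hh) _ h1
  have e : h⁻¹ * (h * a * h⁻¹) * h⁻¹⁻¹ = a := by group
  rwa [e] at h2

theorem conj_center {h : Y} (hh : h ∈ normalizer (Tb t s R : Set Y)) {c : Y} (hc : c ∈ Tb t s R)
    (hcc : ∀ a ∈ Tb t s R, c * a = a * c) :
    h * c * h⁻¹ ∈ Tb t s R ∧ ∀ a ∈ Tb t s R, h * c * h⁻¹ * a = a * (h * c * h⁻¹) := by
  refine ⟨(nor_iff H).1 hh c hc, fun a ha => ?_⟩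
  have h1 := (nor_iff H).1 (inv_mem hh) a ha
  rw [inv_inv] at h1
  have h2 := hcc _ h1
  calc h * c * h⁻¹ * a = h * (c * (h⁻¹ * a * h)) * h⁻¹ := by group
    _ = h * (h⁻¹ * a * h * c) * h⁻¹ := by rw [h2]
    _ = a * (h * c * h⁻¹) := by group

theorem r0_center : ∀ a ∈ Tb t s R, r0 * a = a * r0 := by
  intro a ha
  obtain ⟨e, he, k, rfl⟩ := (mem_Tb H).1 ha
  have h1 := E5_comm H r0 (R_le_E5 H H.r0R) e he
  have h2 : Commute (s ^ k) r0 := (show Commute s r0 from H.sr0).pow_left k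
  calc r0 * (e * s ^ k) = e * (r0 * s ^ k) := by rw [← mul_assoc, h1, mul_assoc]
    _ = e * s ^ k * r0 := by rw [← h2.eq, mul_assoc]

theorem conj_r0 {h : Y} (hh : h ∈ normalizer (Tb t s R : Set Y)) : h * r0 * h⁻¹ = r0 := by
  obtain ⟨h1, h2⟩ := conj_center H hh (R_Tb H H.r0R) (r0_center H)
  have h3 : h * r0 * h⁻¹ ∈ Pb := by
    obtain ⟨r, hr, hrs⟩ := r0_comm H
    have h4 := comm_P H ((nor_iff H).1 hh r (R_Tb H hr)) ((nor_iff H).1 hh s (s_Tb H))
    have e : h * r * h⁻¹ * (h * s * h⁻¹) * (h * r * h⁻¹)⁻¹ * (h * s * h⁻¹)⁻¹ = h * (r * s * r⁻¹ * s⁻¹) * h⁻¹ := by group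
    rwa [e, hrs] at h4
  rcases center_Tb H h1 h2 with h4 | h4 | h4 | h4
  · exfalso
    apply H.r01
    rw [mul_inv_eq_one] at h4
    exact mul_left_cancel (h4.trans (mul_one h).symm)
  · exact h4
  · exact absurd (h4 ▸ h3) H.tP
  · exfalso
    rw [h4] at h3
    exact H.tP (by have := mul_mem h3 (inv_mem (H.RP H.r0R)); rwa [mul_inv_cancel_right] at this)

theorem t_ne_one : t ≠ 1 := fun h => H.tP (h ▸ one_mem Pb)

theorem conj_t {h : Y} (hh : h ∈ normalizer (Tb t s R : Set Y)) : h * t * h⁻¹ = t ∨ h * t * h⁻¹ = t * r0 := by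
  obtain ⟨h1, h2⟩ := conj_center H hh (t_Tb H) (fun a ha => (Tb_comm H a ha).symm)
  rcases center_Tb H h1 h2 with h4 | h4 | h4 | h4
  · exfalso
    apply t_ne_one H
    rw [mul_inv_eq_one] at h4
    exact mul_left_cancel (h4.trans (mul_one h).symm)
  · exfalso
    have h5 := conj_r0 H (inv_mem hh)
    rw [inv_inv] at h5
    have h6 : t = r0 := by
      calc t = h⁻¹ * (h * t * h⁻¹) * h := by group
        _ = r0 := by rw [h4, h5]
    exact t_notR H (h6 ▸ H.r0R)
  · exact Or.inl h4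
  · exact Or.inr h4

theorem mem_Tb_iff {h : Y} (hh : h ∈ normalizer (Tb t s R : Set Y)) : h ∈ Tb t s R ↔ h * t * h⁻¹ = t := by
  constructor
  · intro h1
    rw [mul_inv_eq_iff_eq_mul]
    exact Tb_comm H h h1
  · intro h1
    rw [mul_inv_eq_iff_eq_mul] at h1
    exact nor_Ct H h1 ((nor_iff H).1 hh)

/-- `|N_Y(Tb)| = 2^8` -/
theorem card_nor : Nat.card ↥(normalizer (Tb t s R : Set Y)) = 2 ^ 8 := by
  have := H.fin
  obtain ⟨h, hh, hn⟩ := exists_h H
  have hN : h ∈ normalizer (Tb t s R : Set Y) := by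
    rw [← inv_mem_iff, nor_iff H]
    intro a ha
    rw [inv_inv]
    exact hh a ha
  have hle : Tb t s R ≤ normalizer (Tb t s R : Set Y) := le_normalizer
  have ht : h * t * h⁻¹ = t * r0 := (conj_t H hN).resolve_left fun h1 => hn ((mem_Tb_iff H hN).2 h1)
  have h1 := Subgroup.card_mul_index ((Tb t s R).subgroupOf (normalizer (Tb t s R : Set Y)))
  have h2 : Nat.card ((Tb t s R).subgroupOf (normalizer (Tb t s R : Set Y))) = 2 ^ 7 := by
    rw [← card_Tb H]
    exact Nat.card_congr (Subgroup.subgroupOfEquivOfLe hle).toEquiv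
  have h3 : ((Tb t s R).subgroupOf (normalizer (Tb t s R : Set Y))).index = 2 := by
    rw [Subgroup.index_eq_two_iff]
    refine ⟨⟨h, hN⟩, ?_⟩
    rintro ⟨b, hb⟩
    rw [mem_subgroupOf, mem_subgroupOf]
    show Xor (b * h ∈ Tb t s R) (b ∈ Tb t s R)
    have h4 : b * h * t * (b * h)⁻¹ = b * t * b⁻¹ * r0 := by
      have h5 := conj_r0 H hb
      calc b * h * t * (b * h)⁻¹ = b * (h * t * h⁻¹) * b⁻¹ := by group
        _ = b * t * b⁻¹ * (b * r0 * b⁻¹) := by rw [ht]; group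
        _ = _ := by rw [h5]
    have h5 : r0 ≠ 1 := H.r01
    rw [mem_Tb_iff H (mul_mem hb hN), mem_Tb_iff H hb, h4]
    rcases conj_t H hb with h6 | h6
    · right
      refine ⟨h6, fun h7 => h5 ?_⟩
      rw [h6] at h7
      exact mul_eq_left.1 h7
    · left
      rw [h6]
      refine ⟨?_, fun h7 => h5 (mul_eq_left.1 h7)⟩
      rw [mul_assoc, r0_sq H, mul_one]
  rw [h2, h3] at h1
  rw [← h1]
  norm_num

/-! ### The orbit of `t` -/

theorem Ct_le : centralizer {t} ≤ normalizer (E5 t R : Set Y) := by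
  have := H.fin
  have key : ∀ c ∈ centralizer {t}, ∀ a ∈ E5 t R, c * a * c⁻¹ ∈ E5 t R := by
    intro c hc a ha
    rcases H.cent c (mem_centralizer_singleton_iff.1 hc) with h | h
    · exact Pb_nE H h ha
    · have h1 := Pb_nE H h ha
      have e : c * a * c⁻¹ = t⁻¹ * (t * c * a * (t * c)⁻¹) * t := by group
      rw [e]
      exact mul_mem (mul_mem (inv_mem (t_mem_E5 H)) h1) (t_mem_E5 H)
  intro c hc
  rw [mem_normalizer_iff]
  intro a
  refine ⟨key c hc a, fun h1 => ?_⟩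
  have h2 := key _ (inv_mem hc) _ h1
  have e : c⁻¹ * (c * a * c⁻¹) * c⁻¹⁻¹ = a := by group
  rwa [e] at h2

/-- **(4.2)** -/
theorem card_N5 : Nat.card ↥(normalizer (E5 t R : Set Y)) = 3840 ∨ Nat.card ↥(normalizer (E5 t R : Set Y)) = 10240 := by
  classical
  have := H.fin
  set N := normalizer (E5 t R : Set Y) with hN
  let tE : ↥(E5 t R) := ⟨t, t_mem_E5 H⟩
  have hsmul : ∀ (g : ↥N) (a : ↥(E5 t R)), ((g • a : ↥(E5 t R)) : Y) = g * a * (g : Y)⁻¹ := fun _ _ => rfl
  set O : Set ↥(E5 t R) := MulAction.orbit ↥N tE with hO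
  -- `|N| = 640 |O|`
  have h1 : Nat.card ↥N = 640 * O.ncard := by
    have h2 := Subgroup.card_mul_index (MulAction.stabilizer ↥N tE)
    rw [MulAction.index_stabilizer] at h2
    have h3 : Nat.card (MulAction.stabilizer ↥N tE) = 640 := by
      rw [← card_Ct H]
      have e : MulAction.stabilizer ↥N tE = (centralizer {t}).subgroupOf N := by
        ext g
        rw [MulAction.mem_stabilizer_iff, mem_subgroupOf, mem_centralizer_singleton_iff, Subtype.ext_iff, hsmul,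
          mul_inv_eq_iff_eq_mul]
      rw [e]
      exact Nat.card_congr (Subgroup.subgroupOfEquivOfLe (Ct_le H)).toEquiv
    rw [h3] at h2
    exact h2.symm
  -- `|O| ≤ 31`
  have h31 : O.ncard ≤ 31 := by
    have h2 : O ⊆ Set.univ \ {1} := by
      rintro _ ⟨g, rfl⟩
      refine ⟨Set.mem_univ _, fun h3 => t_ne_one H ?_⟩
      have h4 : (g : Y) * t * (g : Y)⁻¹ = 1 := congrArg Subtype.val h3
      rw [mul_inv_eq_one] at h4
      exact mul_left_cancel (h4.trans (mul_one (g : Y)).symm)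
    have h3 := Set.ncard_le_ncard h2 (Set.toFinite _)
    have h4 : (Set.univ \ {(1 : ↥(E5 t R))}).ncard = 31 := by
      rw [Set.ncard_sdiff (Set.subset_univ _) (Set.toFinite _), Set.ncard_univ, card_E5 H, Set.ncard_singleton]
    omega
  -- `|O| ≡ 1 mod 5`
  have hx : x ∈ N := Ct_le H (mem_centralizer_singleton_iff.2 (tx H).symm)
  have h5 : O.ncard % 5 = 1 := by
    let f : ↥O → ↥O := fun a => ⟨(⟨x, hx⟩ : ↥N) • (a : ↥(E5 t R)), by
      obtain ⟨g, hg⟩ := a.2
      exact ⟨⟨x, hx⟩ * g, by rw [← hg]; exact mul_smul _ _ _⟩⟩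
    have h6 := mod5 f fun a => by
      apply Subtype.ext
      apply Subtype.ext
      exact xconj5 H _
    have h7 : Nat.card {a // f a = a} = 1 := by
      rw [Nat.card_eq_one_iff_unique]
      have key : ∀ a : {a // f a = a}, ((a.1 : ↥(E5 t R)) : Y) = t := by
        rintro ⟨⟨a, ha⟩, hfa⟩
        have h8 : x * (a : Y) * x⁻¹ = a := congrArg (fun c : ↥O => ((c : ↥(E5 t R)) : Y)) hfa
        rw [mul_inv_eq_iff_eq_mul] at h8
        have hane : (a : Y) ≠ 1 := by
          obtain ⟨g, hg⟩ := ha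
          intro h9
          rw [← hg] at h9
          apply t_ne_one H
          have h4 : (g : Y) * t * (g : Y)⁻¹ = 1 := h9
          rw [mul_inv_eq_one] at h4
          exact mul_left_cancel (h4.trans (mul_one (g : Y)).symm)
        rcases (mem_E5 H).1 a.2 with h9 | h9
        · exact absurd (H.cx _ h9 h8) hane
        · have h10 : x * (t * (a : Y)) = t * a * x := by
            rw [← mul_assoc, ← tx H, mul_assoc, h8, mul_assoc]
          have h11 := H.cx _ h9 h10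
          have := congrArg (fun w => t * w) h11
          simpa [t_t H] using this
      constructor
      · constructor
        intro a b
        apply Subtype.ext
        apply Subtype.ext
        apply Subtype.ext
        rw [key a, key b]
      · refine ⟨⟨⟨tE, MulAction.mem_orbit_self tE⟩, ?_⟩⟩
        apply Subtype.ext
        apply Subtype.ext
        show x * t * x⁻¹ = t
        rw [← tx H]
        group
    rw [h7] at h6
    exact h6
  -- `|O|` is even
  have h2 : O.ncard % 2 = 0 := by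
    have h6 := Subgroup.card_dvd_of_le (nor_le H)
    rw [card_nor H, ← hN, h1] at h6
    have h7 : 2 ^ 8 ∣ 2 ^ 7 * (5 * O.ncard) := by
      have e : 2 ^ 7 * (5 * O.ncard) = 640 * O.ncard := by ring
      rw [e]; exact h6
    have h8 : 2 ∣ 5 * O.ncard := by
      have e : (2 : ℕ) ^ 8 = 2 ^ 7 * 2 := by norm_num
      rw [e] at h7
      exact Nat.dvd_of_mul_dvd_mul_left (by norm_num) h7
    omega
  -- not 26
  have h26 : O.ncard ≠ 26 := by
    intro h6
    have hp : Fact (Nat.Prime 13) := ⟨by norm_num⟩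
    have h7 : 13 ∣ Nat.card ↥N := by
      rw [h1, h6]
      norm_num
    obtain ⟨g, hg⟩ := exists_prime_orderOf_dvd_card' 13 h7
    have hpg : IsPGroup 13 (zpowers g) := by
      apply IsPGroup.of_card (n := 1)
      rw [Nat.card_zpowers, hg, pow_one]
    have h8 := hpg.card_modEq_card_fixedPoints ↥(E5 t R)
    -- the fixed points form a subgroup
    let F : Subgroup ↥(E5 t R) :=
      { carrier := MulAction.fixedPoints (zpowers g) ↥(E5 t R)
        one_mem' := fun h => smul_one h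
        mul_mem' := fun {a b} ha hb h => by rw [smul_mul', ha h, hb h]
        inv_mem' := fun {a} ha h => by rw [smul_inv', ha h] }
    have h9 : Nat.card ↥(MulAction.fixedPoints (zpowers g) ↥(E5 t R)) = Nat.card F := rfl
    have h10 : Nat.card F ∣ 32 := by
      rw [← card_E5 H]
      exact Subgroup.card_subgroup_dvd_card F
    rw [h9, card_E5 H] at h8
    have h11 : Nat.card F = 32 := by
      have h12 : Nat.card F ≤ 32 := Nat.le_of_dvd (by norm_num) h10
      generalize Nat.card F = m at *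
      have h13 : 32 % 13 = m % 13 := h8
      interval_cases m <;> first | rfl | (exfalso; revert h10; decide) | (exfalso; revert h13; decide)
    have hF : F = ⊤ := Subgroup.eq_top_of_card_eq F (by rw [h11, card_E5 H])
    have h12 : (g : Y) ∈ E5 t R := by
      apply cent_E5 H
      intro e he
      have h13 : (⟨e, he⟩ : ↥(E5 t R)) ∈ F := hF ▸ mem_top _
      have h14 := h13 ⟨g, mem_zpowers g⟩
      have h15 : (g : Y) * e * (g : Y)⁻¹ = e := congrArg Subtype.val h14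
      rwa [mul_inv_eq_iff_eq_mul] at h15
    have h13 : g * g = 1 := Subtype.ext (E5_sq H _ h12)
    have h14 : orderOf g ∣ 2 := orderOf_dvd_of_pow_eq_one (by rw [pow_two, h13])
    rw [hg] at h14
    norm_num at h14
  have h6 : O.ncard = 6 ∨ O.ncard = 16 := by
    generalize O.ncard = m at *
    omega
  rcases h6 with h6 | h6
  · left
    rw [h1, h6]
  · right
    rw [h1, h6]

end Cfsg.Agent.OddHalf.D7Tits.YOne

end

-- merged: Cfsg.Agent.OddHalf.D7Tits.YKill
section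

/-!
# `K = ²F₄(2)'`: the group `Y` does not exist (helper961, helper625; text: helper903, ODD #15617 section 4)
-/

set_option autoImplicit false

namespace Cfsg.Agent.OddHalf.D7Tits.YKill

open Subgroup YBase

/-- `t` is conjugate to `t r0` in `N_Y(E5)` -/
theorem conj_tr0 {Y Θ : Type*} [Group Y] [CommGroup Θ] {ρ : Y →* MulAut Θ} {t x s r0 : Y} {R Pb : Subgroup Y}
    {z n : Θ} (H : YH ρ t x s r0 R Pb z n) : ∃ y ∈ normalizer (E5 t R : Set Y), y * t * y⁻¹ = t * r0 := by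
  obtain ⟨h, hh, hn⟩ := YOne.exists_h H
  have hN : h⁻¹ ∈ normalizer (Tb t s R : Set Y) := by
    rw [YOne.nor_iff H]
    intro a ha
    rw [inv_inv]
    exact hh a ha
  have hN' : h ∈ normalizer (Tb t s R : Set Y) := by
    rw [← inv_mem_iff]
    exact hN
  refine ⟨h, YOne.nor_le H hN', ?_⟩
  rcases YOne.conj_t H hN' with h1 | h1
  · exact absurd ((YOne.mem_Tb_iff H hN').2 h1) hn
  · exact h1

/-- **`YH` is contradictory** -/
theorem false_of {Y Θ : Type*} [Group Y] [CommGroup Θ] {ρ : Y →* MulAut Θ} {t x s r0 : Y} {R Pb : Subgroup Y}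
    {z n : Θ} (H : YH ρ t x s r0 R Pb z n) : False := by
  rcases YOne.card_N5 H with h | h
  · exact YSix.false_of_card H h (conj_tr0 H)
  · exact YSixteen.false_of_card H h

end Cfsg.Agent.OddHalf.D7Tits.YKill

end

-- merged: Cfsg.Agent.OddHalf.D7Tits.WOf
section

/-!
# ODD D7, `K = ²F₄(2)'`, type W: from the raw data of section 1 to the position `WDefs.PosW` (helper853)
-/

set_option autoImplicit false
set_option linter.unusedSectionVars false
set_option linter.unusedVariables false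

namespace Cfsg.Agent.OddHalf.D7Tits.WOf

open Cfsg.Agent.OddHalf.D7Tits.Defs Cfsg.Agent.OddHalf.D7Tits.SOne Cfsg.Agent.OddHalf.D7Tits.WDefs

universe u v

variable {Y : Type u} [Group Y] {G : Type v} [Group G]

/-- **glue**: raw data of type W ⟹ `PosW` -/
theorem exists_posW {K : KT Y} {K₀ : Subgroup Y} {i₀ : ↥K₀ →* G} {t f : G} (H : Pos0 K K₀ i₀ t f) (hj : K.j ∉ K₀) {n : G}
    (M : Nn K i₀ t n K.aw) (nn : n * n = 1) (hff : f * f = io i₀ K.z) (W : KTW K) :
    ∃ i : Y →* G, WDefs.PosW K i t n := by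
  obtain ⟨hf, -, -⟩ := out_facts H hj
  have N := M.mv
  have hsK := H.sK
  have hxK := x_K H
  have hzK := z_K H
  have hrK := r_K H
  have hrE := r_E K
  have hst := io_t H hsK
  obtain ⟨-, hsz⟩ := io_M H N (s_P K) hsK
  have hn1 : n⁻¹ = n := inv_eq_of_mul_eq_one_left nn
  have hzz := zz' H
  set S := io i₀ K.s with hS
  have inv1 : ∀ g h : G, h * g = g * h → h⁻¹ * g = g * h⁻¹ := by
    intro g h e
    calc h⁻¹ * g = h⁻¹ * (g * h) * h⁻¹ := by group
      _ = h⁻¹ * (h * g) * h⁻¹ := by rw [e]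
      _ = _ := by group
  have hft := H.ft
  have hfx := f_x H
  have hfz := f_z H
  have hft' := inv1 _ _ hft
  have hfx' := inv1 _ _ hfx
  have hst' := inv1 _ _ hst.symm
  have hsz' := inv1 _ _ hsz
  have hnx' := inv1 _ _ M.nx
  -- `α` on the word of `KS`
  obtain ⟨a₀, ha₀, hKS⟩ := K.KS
  have awA := K.aw_A
  have ajA := K.aj_A
  have hx' : ∀ k : ℕ, (K.x ^ k)⁻¹ * K.r * K.x ^ k ∈ K.E := fun k => norE' K (xp K) hrE
  have hxw : ∀ k : ℕ, (K.x ^ k)⁻¹ * (K.r * K.aw) * K.x ^ k ∈ K.E :=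
    fun k => norE' K (xp K) (mul_mem hrE (A_E K awA))
  have hnk : ∀ k : ℕ, n * io i₀ ((K.x ^ k)⁻¹ * K.r * K.x ^ k) * n⁻¹ = io i₀ ((K.x ^ k)⁻¹ * (K.r * K.aw) * K.x ^ k) := by
    intro k
    have hxk : K.x ^ k ∈ K₀ := pow_mem hxK k
    have hnxk : n * io i₀ (K.x ^ k) = io i₀ (K.x ^ k) * n := by
      rw [io_pow hxK]
      exact ((show Commute n (io i₀ K.x) from M.nx).pow_right k).eq
    have hnxk' : n * (io i₀ (K.x ^ k))⁻¹ = (io i₀ (K.x ^ k))⁻¹ * n := by
      calc n * (io i₀ (K.x ^ k))⁻¹ = (io i₀ (K.x ^ k))⁻¹ * (io i₀ (K.x ^ k) * n) * (io i₀ (K.x ^ k))⁻¹ := by group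
        _ = (io i₀ (K.x ^ k))⁻¹ * (n * io i₀ (K.x ^ k)) * (io i₀ (K.x ^ k))⁻¹ := by rw [hnxk]
        _ = _ := by group
    rw [io_conj' hxk hrK, io_conj' hxk (mul_mem hrK (H.EK (A_E K awA)))]
    have hnr : n * io i₀ K.r * n⁻¹ = io i₀ (K.r * K.aw) := by
      rw [M.nr]
      group
    calc n * ((io i₀ (K.x ^ k))⁻¹ * io i₀ K.r * io i₀ (K.x ^ k)) * n⁻¹ =
          (n * (io i₀ (K.x ^ k))⁻¹) * io i₀ K.r * (io i₀ (K.x ^ k) * n⁻¹) := by group
      _ = (io i₀ (K.x ^ k))⁻¹ * (n * io i₀ K.r) * (n⁻¹ * (n * io i₀ (K.x ^ k)) * n⁻¹) := by rw [hnxk']; group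
      _ = (io i₀ (K.x ^ k))⁻¹ * (n * io i₀ K.r * n⁻¹) * io i₀ (K.x ^ k) := by rw [hnxk]; group
      _ = _ := by rw [hnr]
  have hnA : ∀ b ∈ K.A, n * io i₀ b * n⁻¹ = io i₀ b := by
    intro b hb
    rw [M.nA b hb]
    group
  -- `n (s r aw s⁻¹) n⁻¹ = s r aj s⁻¹`
  have hsaw : K.s * K.aw * K.s⁻¹ ∈ K.A := K.nor_A _ (s_P K) _ awA
  have hsaj : K.s * K.aj * K.s⁻¹ ∈ K.A := K.nor_A _ (s_P K) _ ajA
  have key : n * io i₀ (K.s * (K.r * K.aw) * K.s⁻¹) * n⁻¹ = io i₀ (K.s * (K.r * K.aj) * K.s⁻¹) := by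
    have e1 : K.s * (K.r * K.aw) * K.s⁻¹ =
        (K.x ^ 3)⁻¹ * K.r * K.x ^ 3 * ((K.x ^ 4)⁻¹ * K.r * K.x ^ 4) * (a₀ * (K.s * K.aw * K.s⁻¹)) := by
      calc K.s * (K.r * K.aw) * K.s⁻¹ = (K.s * K.r * K.s⁻¹) * (K.s * K.aw * K.s⁻¹) := by group
        _ = _ := by rw [hKS]; group
    have e2 : K.s * (K.r * K.aj) * K.s⁻¹ =
        (K.x ^ 3)⁻¹ * (K.r * K.aw) * K.x ^ 3 * ((K.x ^ 4)⁻¹ * (K.r * K.aw) * K.x ^ 4) * (a₀ * (K.s * K.aw * K.s⁻¹)) := by
      calc K.s * (K.r * K.aj) * K.s⁻¹ = (K.s * K.r * K.s⁻¹) * (K.s * K.aj * K.s⁻¹) := by group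
        _ = (K.x ^ 3)⁻¹ * K.r * K.x ^ 3 * ((K.x ^ 4)⁻¹ * K.r * K.x ^ 4) * (a₀ * (K.s * K.aj * K.s⁻¹)) := by
          rw [hKS]; group
        _ = (K.x ^ 3)⁻¹ * K.r * K.x ^ 3 * ((K.x ^ 4)⁻¹ * K.r * K.x ^ 4) * (K.s * K.aj * K.s⁻¹) * a₀ := by
          rw [a_comm K ha₀ hsaj]; group
        _ = (K.x ^ 3)⁻¹ * (K.r * K.aw) * K.x ^ 3 * ((K.x ^ 4)⁻¹ * (K.r * K.aw) * K.x ^ 4) * (K.s * K.aw * K.s⁻¹) * a₀ := by
          rw [← W.KS₂]
        _ = _ := by rw [a_comm K ha₀ hsaw]; group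
    have hm : a₀ * (K.s * K.aw * K.s⁻¹) ∈ K.A := mul_mem ha₀ hsaw
    rw [e1, e2, io_mul (mul_mem (H.EK (hx' 3)) (H.EK (hx' 4))) (H.EK (A_E K hm)), io_mul (H.EK (hx' 3)) (H.EK (hx' 4)),
      io_mul (mul_mem (H.EK (hxw 3)) (H.EK (hxw 4))) (H.EK (A_E K hm)), io_mul (H.EK (hxw 3)) (H.EK (hxw 4)),
      ← hnk 3, ← hnk 4]
    conv_rhs => rw [← hnA _ hm]
    group
  -- `c = s⁻¹ n s n⁻¹ f⁻¹`
  have hnr' : n⁻¹ * io i₀ K.r * n = io i₀ (K.r * K.aw) := by
    rw [hn1, M.nr, mul_assoc, nn, mul_one]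
  have c1 : (S⁻¹ * n * S * n⁻¹ * f⁻¹) * t = t * (S⁻¹ * n * S * n⁻¹ * f⁻¹) := by
    have e1 : n⁻¹ * t = t * io i₀ K.z * n⁻¹ := by
      calc n⁻¹ * t = n⁻¹ * (t * n) * n⁻¹ := by group
        _ = n⁻¹ * (n * (t * io i₀ K.z)) * n⁻¹ := by rw [n_tz H N]
        _ = _ := by group
    calc (S⁻¹ * n * S * n⁻¹ * f⁻¹) * t = S⁻¹ * n * S * n⁻¹ * (f⁻¹ * t) := by group
      _ = S⁻¹ * n * S * (n⁻¹ * t) * f⁻¹ := by rw [hft']; group
      _ = S⁻¹ * n * (S * t) * io i₀ K.z * n⁻¹ * f⁻¹ := by rw [e1]; group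
      _ = S⁻¹ * n * t * (S * io i₀ K.z) * n⁻¹ * f⁻¹ := by rw [← hst]; group
      _ = S⁻¹ * (n * (t * io i₀ K.z)) * S * n⁻¹ * f⁻¹ := by rw [hsz]; group
      _ = (S⁻¹ * t) * n * S * n⁻¹ * f⁻¹ := by rw [n_tz H N]; group
      _ = _ := by rw [hst']; group
  have c2 : (S⁻¹ * n * S * n⁻¹ * f⁻¹) * io i₀ K.r = io i₀ K.r * (S⁻¹ * n * S * n⁻¹ * f⁻¹) := by
    have e1 : f⁻¹ * io i₀ K.r = io i₀ (K.r * K.aj) * f⁻¹ := by
      have := f_inv_r H hf (one_mem K.A)
      rwa [mul_one, mul_one] at this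
    have haj : n⁻¹ * io i₀ (K.r * K.aj) = io i₀ (K.r * K.aw * K.aj) * n⁻¹ := by
      have h1 := M.ra H ajA
      rw [hn1, h1]
    have e2 : S * io i₀ (K.r * K.aw * K.aj) = io i₀ (K.s * (K.r * K.aw) * K.s⁻¹) * io i₀ (K.s * K.aj * K.s⁻¹) * S := by
      have h1 : K.r * K.aw ∈ K₀ := mul_mem hrK (H.EK (A_E K awA))
      have h2 : K.aj ∈ K₀ := H.EK (A_E K ajA)
      rw [io_conj hsK h1, io_conj hsK h2, io_mul h1 h2, ← hS]
      group
    have e3 : io i₀ (K.s * (K.r * K.aj) * K.s⁻¹) * io i₀ (K.s * K.aj * K.s⁻¹) = io i₀ (K.s * K.r * K.s⁻¹) := by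
      have h1 : K.s * (K.r * K.aj) * K.s⁻¹ ∈ K₀ := mul_mem (mul_mem hsK (mul_mem hrK (H.EK (A_E K ajA)))) (inv_mem hsK)
      rw [← io_mul h1 (H.EK (A_E K hsaj))]
      congr 1
      calc K.s * (K.r * K.aj) * K.s⁻¹ * (K.s * K.aj * K.s⁻¹) = K.s * K.r * (K.aj * K.aj) * K.s⁻¹ := by group
        _ = _ := by rw [K.sq_A _ ajA]; group
    calc (S⁻¹ * n * S * n⁻¹ * f⁻¹) * io i₀ K.r = S⁻¹ * n * S * n⁻¹ * (f⁻¹ * io i₀ K.r) := by group
      _ = S⁻¹ * n * S * (n⁻¹ * io i₀ (K.r * K.aj)) * f⁻¹ := by rw [e1]; group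
      _ = S⁻¹ * n * (S * io i₀ (K.r * K.aw * K.aj)) * n⁻¹ * f⁻¹ := by rw [haj]; group
      _ = S⁻¹ * (n * io i₀ (K.s * (K.r * K.aw) * K.s⁻¹) * n⁻¹) * (n * io i₀ (K.s * K.aj * K.s⁻¹) * n⁻¹) * n * S *
            n⁻¹ * f⁻¹ := by rw [e2]; group
      _ = S⁻¹ * (io i₀ (K.s * (K.r * K.aj) * K.s⁻¹) * io i₀ (K.s * K.aj * K.s⁻¹)) * n * S * n⁻¹ * f⁻¹ := by
        rw [key, hnA _ hsaj]; group
      _ = S⁻¹ * (S * io i₀ K.r * S⁻¹) * n * S * n⁻¹ * f⁻¹ := by rw [e3, io_conj hsK hrK]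
      _ = _ := by group
  have c3 : (S⁻¹ * n * S * n⁻¹ * f⁻¹) * io i₀ K.x = io i₀ K.x * (S⁻¹ * n * S * n⁻¹ * f⁻¹) := by
    have hx3K : K.x ^ 3 ∈ K₀ := pow_mem hxK 3
    have hnx3 : n * io i₀ (K.x ^ 3) = io i₀ (K.x ^ 3) * n := by
      rw [io_pow hxK]
      exact ((show Commute n (io i₀ K.x) from M.nx).pow_right 3).eq
    have hsx : S * io i₀ K.x = io i₀ (K.x ^ 3) * S := by
      rw [← s_x K, io_conj hsK hxK, ← hS]
      group
    have hsx' : S⁻¹ * io i₀ (K.x ^ 3) = io i₀ K.x * S⁻¹ := by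
      calc S⁻¹ * io i₀ (K.x ^ 3) = S⁻¹ * (io i₀ (K.x ^ 3) * S) * S⁻¹ := by group
        _ = S⁻¹ * (S * io i₀ K.x) * S⁻¹ := by rw [hsx]
        _ = _ := by group
    calc (S⁻¹ * n * S * n⁻¹ * f⁻¹) * io i₀ K.x = S⁻¹ * n * S * n⁻¹ * (f⁻¹ * io i₀ K.x) := by group
      _ = S⁻¹ * n * S * (n⁻¹ * io i₀ K.x) * f⁻¹ := by rw [hfx']; group
      _ = S⁻¹ * n * (S * io i₀ K.x) * n⁻¹ * f⁻¹ := by rw [hnx']; group
      _ = S⁻¹ * (n * io i₀ (K.x ^ 3)) * S * n⁻¹ * f⁻¹ := by rw [hsx]; group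
      _ = (S⁻¹ * io i₀ (K.x ^ 3)) * n * S * n⁻¹ * f⁻¹ := by rw [hnx3]; group
      _ = _ := by rw [hsx']; group
  have hc := cE H c1 (commE H c2 c3)
  set c := S⁻¹ * n * S * n⁻¹ * f⁻¹ with hcdef
  -- the choice of the complement
  obtain ⟨f', b, hf', hb, hcf⟩ : ∃ f' : G, ∃ b : Y, (f' = f ∨ f' = t * f) ∧ (b = 1 ∨ b = K.z) ∧
      S⁻¹ * n * S * n⁻¹ = f' * io i₀ b := by
    have e : S⁻¹ * n * S * n⁻¹ = c * f := by rw [hcdef]; group
    rcases hc with h | h | h | h
    · exact ⟨f, 1, Or.inl rfl, Or.inl rfl, by rw [e, h, io_one, mul_one, one_mul]⟩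
    · exact ⟨f, K.z, Or.inl rfl, Or.inr rfl, by rw [e, h, hfz]⟩
    · exact ⟨t * f, 1, Or.inr rfl, Or.inl rfl, by rw [e, h, io_one, mul_one]⟩
    · exact ⟨t * f, K.z, Or.inr rfl, Or.inr rfl, by rw [e, h, mul_assoc t f, hfz, mul_assoc]⟩
  have htf : t * f = f * t := hft.symm
  have hff' : f' * f' = io i₀ K.z := by
    rcases hf' with h | h
    · rw [h, hff]
    · rw [h, ← hff]
      calc t * f * (t * f) = t * (f * t) * f := by group
        _ = (t * t) * f * f := by rw [← htf]; group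
        _ = _ := by rw [H.tt, one_mul]
  obtain ⟨i, h1, h2, h3, h4, h5, h6⟩ := SOne.ext H hj hf' hff'
  have hio : ∀ y ∈ K₀, i y = io i₀ y := fun y hy => by rw [h2 y hy, io_eq hy]
  have hbK : b ∈ K₀ := by
    rcases hb with h | h
    · rw [h]; exact one_mem _
    · rw [h]; exact hzK
  have hib : io i₀ b * io i₀ b = 1 := by
    rcases hb with h | h
    · rw [h, io_one, mul_one]
    · rw [h, hzz]
  have hnb : n * io i₀ b = io i₀ b * n := by
    rcases hb with h | h
    · rw [h, io_one, mul_one, one_mul]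
    · rw [h, N.nz]
  refine ⟨i, ⟨H.finG, H.perf, h1, H.tt, H.t1, h4, h5, h6, nn, ?_, ?_, ?_, ?_, ⟨b, hb, ?_⟩, ?_⟩⟩
  · -- `y t y = t z`
    rw [hio _ hzK]
    calc n * t * n = (n * t) * n := by group
      _ = t * io i₀ K.z * (n * n) := by rw [n_t H N]; group
      _ = _ := by rw [nn, mul_one]
  · intro a ha
    rw [hio _ (H.EK (A_E K ha))]
    exact M.nA a ha
  · rw [hio _ hxK]
    exact M.nx
  · rw [hio _ hrK, hio _ (mul_mem hrK (H.EK (A_E K awA))), M.nr, mul_assoc, nn, mul_one]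
  · -- `y s y = s j b`
    rw [map_mul, map_mul, h3, hio _ hsK, hio _ hbK, ← hS]
    calc n * S * n = S * (S⁻¹ * n * S * n) := by group
      _ = S * (S⁻¹ * n * S * n⁻¹) := by rw [hn1]
      _ = S * (f' * io i₀ b) := by rw [hcf]
      _ = _ := by group
  · -- `y j y = j z`
    rw [map_mul, h3, hio _ hzK]
    -- `(f' b n)² = 1`
    have e1 : S⁻¹ * n * S = f' * io i₀ b * n := by
      rw [← hcf]
      group
    have e2 : (f' * io i₀ b * n) * (f' * io i₀ b * n) = 1 := by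
      rw [← e1]
      calc S⁻¹ * n * S * (S⁻¹ * n * S) = S⁻¹ * (n * n) * S := by group
        _ = 1 := by rw [nn]; group
    have hfb : f' * io i₀ b = io i₀ b * f' := by
      have hfb0 : f * io i₀ b = io i₀ b * f := by
        rcases hb with h | h
        · rw [h, io_one, mul_one, one_mul]
        · rw [h, hfz]
      have htb := io_t H hbK
      rcases hf' with h | h
      · rw [h, hfb0]
      · rw [h]
        calc t * f * io i₀ b = t * (f * io i₀ b) := by group
          _ = (t * io i₀ b) * f := by rw [hfb0]; group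
          _ = _ := by rw [htb]; group
    have e3 : f' * (n * f' * n) = 1 := by
      calc f' * (n * f' * n) = f' * (io i₀ b * io i₀ b) * n * f' * n := by rw [hib]; group
        _ = f' * io i₀ b * (io i₀ b * n) * f' * n := by group
        _ = f' * io i₀ b * n * (io i₀ b * f') * n := by rw [← hnb]; group
        _ = (f' * io i₀ b * n) * (f' * io i₀ b * n) := by rw [← hfb]; group
        _ = 1 := e2
    calc n * f' * n = f'⁻¹ * (f' * (n * f' * n)) := by group
      _ = f' * (f' * f')⁻¹ := by rw [e3]; group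
      _ = f' * io i₀ K.z := by
        rw [hff']
        congr 1
        exact inv_eq_of_mul_eq_one_left hzz

end Cfsg.Agent.OddHalf.D7Tits.WOf

end

-- merged: Cfsg.Agent.OddHalf.D7Tits.CloseO
section

/-!
# ODD D7, `K = ²F₄(2)'`: the type O is impossible; everything from `Pos0` (helper853)
-/

set_option autoImplicit false

namespace Cfsg.Agent.OddHalf.D7Tits.CloseO

open Cfsg.Agent.OddHalf.D7Tits.Defs Cfsg.Agent.OddHalf.D7Tits.SOne

universe u v

variable {Y : Type u} [Group Y] {G : Type v} [Group G] {K : KT Y}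

/-- **type O is dead** -/
theorem false_of_pos {i : Y →* G} {t n : G} (P : Pos K i t n) : False := by
  obtain ⟨Θ, H⟩ := ThMain.exists_Th P (fun g hg => by
    rcases K.pts g hg with h | ⟨k, h | h⟩
    · exact Or.inl h
    · exact Or.inr ⟨k, Or.inl h⟩
    · exact Or.inr ⟨k, Or.inr h⟩)
  let _ := YOf.cg H.ab
  obtain ⟨r0, h⟩ := AltEnd.exists_yh P H
  exact YKill.false_of h

/-- **Everything from `Pos0`**: CL -/
theorem false_cl {K₀ : Subgroup Y} {i₀ : ↥K₀ →* G} {t f : G} (H : Pos0 K K₀ i₀ t f) (hj : K.j = 1) (H5 : XZero.K5 K) :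
    False := by
  rcases SOne.main H with ⟨-, i, n, h1, h2, h3, h4, h5⟩ | ⟨h, -⟩ | ⟨i, n, P⟩
  · have hE : ∀ e ∈ K.E, n * i e * n⁻¹ = i (K.τ e) := h5
    exact XZero.false_of K H5 i h1 t n h2 h3 h4 hE
  · exact h hj
  · exact false_of_pos P

/-- **Everything from `Pos0`**: OUT -/
theorem false_out {K₀ : Subgroup Y} {i₀ : ↥K₀ →* G} {t f : G} (H : Pos0 K K₀ i₀ t f) (hj : K.j ≠ 1) (W : WDefs.KTW K)
    (kill : ∀ (i : Y →* G) (y : G), WDefs.PosW K i t y → False) : False := by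
  rcases SOne.main' H with ⟨h, -⟩ | ⟨hj', n, M, nn, hff, -⟩ | ⟨i, n, P⟩
  · exact hj h
  · obtain ⟨i, h⟩ := WOf.exists_posW H hj' M nn hff W
    exact kill i n h
  · exact false_of_pos P

end Cfsg.Agent.OddHalf.D7Tits.CloseO

end

-- merged: Cfsg.Agent.OddHalf.D7Tits.Row
section

/-!
# ODD D7, the row `K = ²F₄(2)'` (helper853)

`node_of` : the row from the last two K-facts `XZero.K5 ktTD` (type X0) and `WDefs.KTW ktHD` (type W).
-/

set_option autoImplicit false

namespace Cfsg.Agent.OddHalf.D7Tits.Row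

open Cfsg.Agent.OddHalf.D7Tits.Defs

universe u v w

/-- OUT : `j ≠ 1` -/
theorem j_ne {Y : Type v} [Group Y] {K : KT Y} (h : K.j * K.j = K.z) : K.j ≠ 1 := by
  intro h1
  apply K.z1
  rw [← h, h1, mul_one]

/-- OUT, all types -/
theorem false_out {Y : Type v} [Group Y] {K : KT Y} {G : Type w} [Group G] {K₀ : Subgroup Y} {i₀ : ↥K₀ →* G} {t f : G}
    (W : WDefs.KTW K) (H : Pos0 K K₀ i₀ t f) : False :=
  CloseO.false_out H (j_ne W.jj) W (fun _ _ P => WKill.false_of P W)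

/-- **the row Tits** of node D7 -/
theorem node_of (h5 : XZero.K5 TitsK.ktTD) (W : WDefs.KTW TitsK.ktHD) :
    D7.Cases.Node.{u} @Cfsg.Lie.IsoTits.{u} := by
  intro G _ C K S c h
  rcases TitsK.pos0 C S c h with ⟨i₀, t, H⟩ | ⟨i₀, t, f, H⟩
  · exact CloseO.false_cl H TitsK.ktTD_j h5
  · exact false_out W H

end Cfsg.Agent.OddHalf.D7Tits.Row

end

-- merged: Cfsg.Agent.TitsK.KtW
section

/-!
# `ktw : KTW ktH`: the K-facts for type W of `²F₄(2)` (helper795)
-/

set_option autoImplicit false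

namespace Cfsg.Agent.TitsK

open Cfsg.Lie
open Cfsg.Agent.OddHalf.D7Tits.Defs Cfsg.Agent.OddHalf.D7Tits.WDefs

theorem vals_H : Vals (Y := ↥HT) ktH HT.subtype where
  inj := HT.subtype_injective
  sur := fun g hg => ⟨⟨g, hg⟩, rfl⟩
  hz := rfl
  hx := rfl
  hs := rfl
  hj := rfl
  hr := rfl
  haj := rfl
  haw := rfl
  hq := fun _ => rfl
  hU := fun _ => Iff.rfl
  hQ := fun _ => Iff.rfl
  hP := fun _ => Iff.rfl
  hA := fun _ => Iff.rfl

/-- **The K-facts for type W of `²F₄(2)`.** -/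
noncomputable def ktw : KTW ktH := ktwOf vals_H

end Cfsg.Agent.TitsK

end

-- merged: Cfsg.Agent.OddHalf.D7Tits.Final
section

/-!
# ODD D7, the row `K = ²F₄(2)'`: complete (helper853)

Text: helper903 (bb ODD 15617), helper381 (16131), helper868 (type W, 15238), helper956 (type X0). Lean: helper841, helper956
(front), helper853 (section 1), helper583, helper927 (section 2), helper381, helper625 (section 3), helper961, helper625
(section 4, end), helper868 (type W), helper261, helper795, helper956 (K-facts).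
-/

set_option autoImplicit false

namespace Cfsg.Agent.OddHalf.D7Tits.Final

universe u

/-- **the row Tits** of node D7 -/
theorem node : D7.Cases.Node.{u} @Cfsg.Lie.IsoTits.{u} :=
  Row.node_of TitsK.k5 (TitsK.ktw : WDefs.KTW TitsK.ktHD)

end Cfsg.Agent.OddHalf.D7Tits.Final

end
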