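import Mathlib

-- merged: Cfsg.Agent.OddHalf.D7Tits.ThetaHyp
section

/-!
# ODD D7, `K` = Tits: `Θ` (helper927, text of helper903 #15617, section 2): hypotheses and the group `A`

`A = ⟨z, q_i (i ∈ ℤ/5)⟩`, `∏ q_i = 1`, order `2^5`; `x : q_i ↦ q_{i+1}`, `s : q_i ↦ q_{2i}`,
`u : q_0 ↦ z q_0, q_1 ↦ z q_1`, the other `q_i` fixed; `k : z ↔ q_0`.
`N v y` (for a point `v`): `y` is an involution with `y t y⁻¹ = t v` centralising `E_v`; `y` is determined up to `v`.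
`B = A` or `A ⟨j⟩`, `C_{C(t)}(A) = B ∪ t B`.
-/

set_option autoImplicit false

namespace Cfsg.Agent.OddHalf.D7Tits.ThetaHyp

open Subgroup

variable {G : Type*} [Group G]

/-- `g` or `1` -/
def pw (g : G) (b : Bool) : G := cond b g 1

theorem pw_true (g : G) : pw g true = g := rfl
theorem pw_false (g : G) : pw g false = 1 := rfl

theorem pw_mul {g : G} (h : g * g = 1) (a b : Bool) : pw g a * pw g b = pw g (a ^^ b) := by
  cases a <;> cases b <;> simp [pw, h]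

theorem pw_sq {g : G} (h : g * g = 1) (a : Bool) : pw g a * pw g a = 1 := by
  rw [pw_mul h, Bool.xor_self]; rfl

theorem pw_comm {g h : G} (hgh : g * h = h * g) (a : Bool) : pw g a * h = h * pw g a := by
  cases a <;> simp [pw, hgh]

theorem pw_comm' {g h : G} (hgh : g * h = h * g) (a b : Bool) : pw g a * pw h b = pw h b * pw g a := by
  cases a <;> cases b <;> simp [pw, hgh]

theorem mul_pw {g h : G} (a : Bool) : pw (g * h) a = pw g a * pw h a := by
  cases a <;> simp [pw]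

theorem conj_pw (c g : G) (b : Bool) : c * pw g b * c⁻¹ = pw (c * g * c⁻¹) b := by
  cases b <;> simp [pw]

/-- `v` is one of the 11 points of `A` -/
def IsPt (z : G) (q : ZMod 5 → G) (v : G) : Prop := v = z ∨ ∃ i, v = q i ∨ v = z * q i

/-- **The hypotheses of section 2.** -/
structure Hyp (t z x s u k : G) (q : ZMod 5 → G) (A B L : Subgroup G) (N : G → G → Prop) : Prop where
  tt : t * t = 1
  zz : z * z = 1
  qq : ∀ i, q i * q i = 1
  zq : ∀ i, z * q i = q i * z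
  qc : ∀ i j, q i * q j = q j * q i
  prod : q 0 * (q 1 * (q 2 * (q 3 * q 4))) = 1
  indep : ∀ a c0 c1 c2 c3 : Bool,
    pw z a * (pw (q 0) c0 * (pw (q 1) c1 * (pw (q 2) c2 * pw (q 3) c3))) = 1 →
      a = false ∧ c0 = false ∧ c1 = false ∧ c2 = false ∧ c3 = false
  A_eq : A = Subgroup.closure (insert z (Set.range q))
  -- `L` (= `K` or `K⁺`)
  L_t : ∀ g ∈ L, g * t = t * g
  A_le_L : A ≤ L
  x_mem : x ∈ L
  s_mem : s ∈ L
  u_mem : u ∈ L
  k_mem : k ∈ L
  x5 : x ^ 5 = 1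
  xz : x * z * x⁻¹ = z
  xq : ∀ i, x * q i * x⁻¹ = q (i + 1)
  sz : s * z * s⁻¹ = z
  sq : ∀ i, s * q i * s⁻¹ = q (2 * i)
  sx : s * x * s⁻¹ = x * x
  uz : u * z * u⁻¹ = z
  uq0 : u * q 0 * u⁻¹ = z * q 0
  uq1 : u * q 1 * u⁻¹ = z * q 1
  uq2 : u * q 2 * u⁻¹ = q 2
  uq3 : u * q 3 * u⁻¹ = q 3
  uq4 : u * q 4 * u⁻¹ = q 4
  uu : u * u ∈ A
  uc : ∀ i : ℕ, x ^ i * u * (x ^ i)⁻¹ * u * (u * (x ^ i * u * (x ^ i)⁻¹))⁻¹ ∈ A
  kz : k * z * k⁻¹ = q 0
  kq : k * q 0 * k⁻¹ = z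
  -- `B = A` or `A ⟨j⟩`
  A_le_B : A ≤ B
  B_t : ∀ w ∈ B, w * t = t * w
  B_A : ∀ w ∈ B, ∀ a ∈ A, w * a = a * w
  B_sq : ∀ w ∈ B, w * w = 1 ∨ w * w = z
  B_one : ∀ w ∈ B, w * w = 1 → w ∈ A
  cent : ∀ y, y * t = t * y → (∀ a ∈ A, y * a = a * y) → y ∈ B ∨ t * y ∈ B
  -- the involutions `n_v`
  N_sq : ∀ v y, N v y → y * y = 1
  N_t : ∀ v y, N v y → y * t * y⁻¹ = t * v
  N_A : ∀ v y, IsPt z q v → N v y → ∀ a ∈ A, y * a = a * y
  N_B : ∀ v y, IsPt z q v → N v y → ∀ w ∈ B, y * w = w * y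
  N_conj : ∀ g ∈ L, ∀ v y, N v y → N (g * v * g⁻¹) (g * y * g⁻¹)
  N_uniq : ∀ v y y', N v y → N v y' → y' = y ∨ y' = y * v
  N_ex : ∃ n, N z n
  N_x : ∀ n, N z n → n * x = x * n
  N_u : ∀ n, N z n → n * u = u * n

variable {t z x s u k : G} {q : ZMod 5 → G} {A B L : Subgroup G} {N : G → G → Prop}

/-- the elements of `A` -/
def el (z : G) (q : ZMod 5 → G) (a c0 c1 c2 c3 c4 : Bool) : G :=
  pw z a * (pw (q 0) c0 * (pw (q 1) c1 * (pw (q 2) c2 * (pw (q 3) c3 * pw (q 4) c4))))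

namespace Hyp

variable (H : Hyp t z x s u k q A B L N)
include H

theorem z_mem : z ∈ A := by rw [H.A_eq]; exact subset_closure (Set.mem_insert _ _)

theorem q_mem (i : ZMod 5) : q i ∈ A := by
  rw [H.A_eq]; exact subset_closure (Set.mem_insert_of_mem _ ⟨i, rfl⟩)

theorem pw_z_mem (b : Bool) : pw z b ∈ A := by
  cases b
  · exact A.one_mem
  · exact H.z_mem

theorem pw_q_mem (i : ZMod 5) (b : Bool) : pw (q i) b ∈ A := by
  cases b
  · exact A.one_mem
  · exact H.q_mem i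

theorem el_mem (a c0 c1 c2 c3 c4 : Bool) : el z q a c0 c1 c2 c3 c4 ∈ A :=
  A.mul_mem (H.pw_z_mem _) (A.mul_mem (H.pw_q_mem _ _) (A.mul_mem (H.pw_q_mem _ _) (A.mul_mem (H.pw_q_mem _ _)
    (A.mul_mem (H.pw_q_mem _ _) (H.pw_q_mem _ _)))))

theorem el_mul (a c0 c1 c2 c3 c4 a' c0' c1' c2' c3' c4' : Bool) :
    el z q a c0 c1 c2 c3 c4 * el z q a' c0' c1' c2' c3' c4' =
      el z q (a ^^ a') (c0 ^^ c0') (c1 ^^ c1') (c2 ^^ c2') (c3 ^^ c3') (c4 ^^ c4') := by
  unfold el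
  have cq : ∀ i j b b', Commute (pw (q i) b) (pw (q j) b') := fun i j b b' => pw_comm' (H.qc i j) b b'
  have cz : ∀ i b b', Commute (pw (q i) b) (pw z b') := fun i b b' => pw_comm' (H.zq i).symm b b'
  have h4 : pw (q 3) c3 * pw (q 4) c4 * (pw (q 3) c3' * pw (q 4) c4') =
      pw (q 3) (c3 ^^ c3') * pw (q 4) (c4 ^^ c4') := by
    rw [Commute.mul_mul_mul_comm (cq 4 3 c4 c3'), pw_mul (H.qq 3), pw_mul (H.qq 4)]
  have h3 : pw (q 2) c2 * (pw (q 3) c3 * pw (q 4) c4) * (pw (q 2) c2' * (pw (q 3) c3' * pw (q 4) c4')) =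
      pw (q 2) (c2 ^^ c2') * (pw (q 3) (c3 ^^ c3') * pw (q 4) (c4 ^^ c4')) := by
    rw [Commute.mul_mul_mul_comm ((cq 3 2 c3 c2').mul_left (cq 4 2 c4 c2')), pw_mul (H.qq 2), h4]
  have h2 : pw (q 1) c1 * (pw (q 2) c2 * (pw (q 3) c3 * pw (q 4) c4)) *
      (pw (q 1) c1' * (pw (q 2) c2' * (pw (q 3) c3' * pw (q 4) c4'))) =
      pw (q 1) (c1 ^^ c1') * (pw (q 2) (c2 ^^ c2') * (pw (q 3) (c3 ^^ c3') * pw (q 4) (c4 ^^ c4'))) := by
    rw [Commute.mul_mul_mul_comm ((cq 2 1 c2 c1').mul_left ((cq 3 1 c3 c1').mul_left (cq 4 1 c4 c1'))),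
      pw_mul (H.qq 1), h3]
  have h1 : pw (q 0) c0 * (pw (q 1) c1 * (pw (q 2) c2 * (pw (q 3) c3 * pw (q 4) c4))) *
      (pw (q 0) c0' * (pw (q 1) c1' * (pw (q 2) c2' * (pw (q 3) c3' * pw (q 4) c4')))) =
      pw (q 0) (c0 ^^ c0') * (pw (q 1) (c1 ^^ c1') * (pw (q 2) (c2 ^^ c2') * (pw (q 3) (c3 ^^ c3') *
        pw (q 4) (c4 ^^ c4')))) := by
    rw [Commute.mul_mul_mul_comm ((cq 1 0 c1 c0').mul_left ((cq 2 0 c2 c0').mul_left ((cq 3 0 c3 c0').mul_left
      (cq 4 0 c4 c0')))), pw_mul (H.qq 0), h2]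
  rw [Commute.mul_mul_mul_comm ((cz 0 c0 a').mul_left ((cz 1 c1 a').mul_left ((cz 2 c2 a').mul_left
    ((cz 3 c3 a').mul_left (cz 4 c4 a'))))), pw_mul H.zz, h1]

omit H in
theorem el_one : el z q false false false false false false = 1 := by simp [el, pw]

theorem el_all : el z q false true true true true true = 1 := by
  have h := H.prod
  simp only [el, pw, cond_true, cond_false, one_mul]
  exact h

omit H in
theorem z_eq : el z q true false false false false false = z := by simp [el, pw]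

omit H in
theorem q0_eq : el z q false true false false false false = q 0 := by simp [el, pw]
omit H in
theorem q1_eq : el z q false false true false false false = q 1 := by simp [el, pw]
omit H in
theorem q2_eq : el z q false false false true false false = q 2 := by simp [el, pw]
omit H in
theorem q3_eq : el z q false false false false true false = q 3 := by simp [el, pw]
omit H in
theorem q4_eq : el z q false false false false false true = q 4 := by simp [el, pw]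

theorem exists_el {a : G} (ha : a ∈ A) : ∃ b c0 c1 c2 c3 c4, a = el z q b c0 c1 c2 c3 c4 := by
  rw [H.A_eq] at ha
  induction ha using Subgroup.closure_induction with
  | mem y hy =>
    rcases hy with rfl | ⟨i, rfl⟩
    · exact ⟨_, _, _, _, _, _, z_eq.symm⟩
    · fin_cases i
      · exact ⟨_, _, _, _, _, _, q0_eq.symm⟩
      · exact ⟨_, _, _, _, _, _, q1_eq.symm⟩
      · exact ⟨_, _, _, _, _, _, q2_eq.symm⟩
      · exact ⟨_, _, _, _, _, _, q3_eq.symm⟩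
      · exact ⟨_, _, _, _, _, _, q4_eq.symm⟩
  | one => exact ⟨_, _, _, _, _, _, el_one.symm⟩
  | mul a b _ _ iha ihb =>
    obtain ⟨_, _, _, _, _, _, rfl⟩ := iha
    obtain ⟨_, _, _, _, _, _, rfl⟩ := ihb
    exact ⟨_, _, _, _, _, _, H.el_mul _ _ _ _ _ _ _ _ _ _ _ _⟩
  | inv a _ iha =>
    obtain ⟨b, c0, c1, c2, c3, c4, rfl⟩ := iha
    refine ⟨b, c0, c1, c2, c3, c4, ?_⟩
    rw [inv_eq_iff_mul_eq_one, H.el_mul]
    simp only [Bool.xor_self]
    exact el_one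

theorem el_eq_one {a c0 c1 c2 c3 c4 : Bool} (h : el z q a c0 c1 c2 c3 c4 = 1) :
    a = false ∧ ((c0 = false ∧ c1 = false ∧ c2 = false ∧ c3 = false ∧ c4 = false) ∨
      (c0 = true ∧ c1 = true ∧ c2 = true ∧ c3 = true ∧ c4 = true)) := by
  cases c4
  · have h1 : pw z a * (pw (q 0) c0 * (pw (q 1) c1 * (pw (q 2) c2 * pw (q 3) c3))) = 1 := by
      rw [← h]; simp [el, pw]
    obtain ⟨rfl, rfl, rfl, rfl, rfl⟩ := H.indep _ _ _ _ _ h1
    exact ⟨rfl, Or.inl ⟨rfl, rfl, rfl, rfl, rfl⟩⟩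
  · have h2 : el z q a (!c0) (!c1) (!c2) (!c3) false = 1 := by
      have h3 := H.el_mul a c0 c1 c2 c3 true false true true true true true
      rw [h, H.el_all, one_mul] at h3
      simp only [Bool.xor_false, Bool.xor_true, Bool.not_true] at h3
      exact h3.symm
    have h1 : pw z a * (pw (q 0) (!c0) * (pw (q 1) (!c1) * (pw (q 2) (!c2) * pw (q 3) (!c3)))) = 1 := by
      rw [← h2]; simp [el, pw]
    obtain ⟨rfl, e0, e1, e2, e3⟩ := H.indep _ _ _ _ _ h1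
    exact ⟨rfl, Or.inr ⟨by simpa using e0, by simpa using e1, by simpa using e2, by simpa using e3, rfl⟩⟩

theorem A_sq {a : G} (ha : a ∈ A) : a * a = 1 := by
  obtain ⟨b, c0, c1, c2, c3, c4, rfl⟩ := H.exists_el ha
  rw [H.el_mul]
  simp only [Bool.xor_self]
  exact el_one

theorem A_inv {a : G} (ha : a ∈ A) : a⁻¹ = a := by
  rw [inv_eq_iff_mul_eq_one]; exact H.A_sq ha

theorem A_comm {a b : G} (ha : a ∈ A) (hb : b ∈ A) : a * b = b * a := by
  have h1 := H.A_sq (A.mul_mem ha hb)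
  calc a * b = (a * b)⁻¹ := by rw [eq_comm, inv_eq_iff_mul_eq_one]; exact h1
    _ = b⁻¹ * a⁻¹ := mul_inv_rev a b
    _ = b * a := by rw [H.A_inv ha, H.A_inv hb]

theorem t_comm {a : G} (ha : a ∈ A) : a * t = t * a := H.L_t a (H.A_le_L ha)

omit H in
/-- conjugation of an element of `A` -/
theorem conj_el (g : G) (a c0 c1 c2 c3 c4 : Bool) : g * el z q a c0 c1 c2 c3 c4 * g⁻¹ =
    pw (g * z * g⁻¹) a * (pw (g * q 0 * g⁻¹) c0 * (pw (g * q 1 * g⁻¹) c1 * (pw (g * q 2 * g⁻¹) c2 *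
      (pw (g * q 3 * g⁻¹) c3 * pw (g * q 4 * g⁻¹) c4)))) := by
  simp only [← conj_pw]
  unfold el
  group

theorem el_ne {a c0 c1 c2 c3 c4 a' c0' c1' c2' c3' c4' : Bool}
    (h : el z q a c0 c1 c2 c3 c4 = el z q a' c0' c1' c2' c3' c4') :
    (a ^^ a') = false ∧ (((c0 ^^ c0') = false ∧ (c1 ^^ c1') = false ∧ (c2 ^^ c2') = false ∧ (c3 ^^ c3') = false ∧
      (c4 ^^ c4') = false) ∨ ((c0 ^^ c0') = true ∧ (c1 ^^ c1') = true ∧ (c2 ^^ c2') = true ∧ (c3 ^^ c3') = true ∧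
      (c4 ^^ c4') = true)) := by
  apply H.el_eq_one
  rw [← H.el_mul, h]
  exact H.A_sq (H.el_mem _ _ _ _ _ _)

/-- conjugation by `x` -/
theorem x_el (a c0 c1 c2 c3 c4 : Bool) :
    x * el z q a c0 c1 c2 c3 c4 * x⁻¹ = el z q a c4 c0 c1 c2 c3 := by
  have e0 : (0 : ZMod 5) + 1 = 1 := rfl
  have e1 : (1 : ZMod 5) + 1 = 2 := rfl
  have e2 : (2 : ZMod 5) + 1 = 3 := rfl
  have e3 : (3 : ZMod 5) + 1 = 4 := rfl
  have e4 : (4 : ZMod 5) + 1 = 0 := rfl
  rw [conj_el, H.xz, H.xq, H.xq, H.xq, H.xq, H.xq, e0, e1, e2, e3, e4]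
  have key : ∀ a c0 c1 c2 c3 c4 : Bool,
      pw z a * (pw (q 1) c0 * (pw (q 2) c1 * (pw (q 3) c2 * (pw (q 4) c3 * pw (q 0) c4)))) =
        el z q a false c0 c1 c2 c3 * el z q false c4 false false false false := by
    intro a c0 c1 c2 c3 c4
    simp only [el, pw, cond_false, one_mul, mul_one, mul_assoc]
  rw [key, H.el_mul]
  simp

/-- conjugation by `s` -/
theorem s_el (a c0 c1 c2 c3 c4 : Bool) :
    s * el z q a c0 c1 c2 c3 c4 * s⁻¹ = el z q a c0 c3 c1 c4 c2 := by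
  have e0 : 2 * (0 : ZMod 5) = 0 := rfl
  have e1 : 2 * (1 : ZMod 5) = 2 := rfl
  have e2 : 2 * (2 : ZMod 5) = 4 := rfl
  have e3 : 2 * (3 : ZMod 5) = 1 := rfl
  have e4 : 2 * (4 : ZMod 5) = 3 := rfl
  rw [conj_el, H.sz, H.sq, H.sq, H.sq, H.sq, H.sq, e0, e1, e2, e3, e4]
  have key : ∀ a c0 c1 c2 c3 c4 : Bool,
      pw z a * (pw (q 0) c0 * (pw (q 2) c1 * (pw (q 4) c2 * (pw (q 1) c3 * pw (q 3) c4)))) =
        el z q a c0 false c1 false c2 * el z q false false c3 false c4 false := by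
    intro a c0 c1 c2 c3 c4
    simp only [el, pw, cond_false, one_mul, mul_one, mul_assoc]
  rw [key, H.el_mul]
  simp

/-- conjugation by `u` -/
theorem u_el (a c0 c1 c2 c3 c4 : Bool) :
    u * el z q a c0 c1 c2 c3 c4 * u⁻¹ = el z q (a ^^ (c0 ^^ c1)) c0 c1 c2 c3 c4 := by
  rw [conj_el, H.uz, H.uq0, H.uq1, H.uq2, H.uq3, H.uq4, mul_pw, mul_pw]
  have key : ∀ a c0 c1 c2 c3 c4 : Bool,
      pw z a * (pw z c0 * pw (q 0) c0 * (pw z c1 * pw (q 1) c1 * (pw (q 2) c2 * (pw (q 3) c3 * pw (q 4) c4)))) =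
        el z q a false false false false false * (el z q c0 c0 false false false false *
          el z q c1 false c1 c2 c3 c4) := by
    intro a c0 c1 c2 c3 c4
    simp only [el, pw, cond_false, one_mul, mul_one, mul_assoc]
  rw [key, H.el_mul, H.el_mul]
  simp

theorem z_ne_one : z ≠ 1 := by
  intro h
  have h1 : el z q true false false false false false = 1 := z_eq.trans h
  exact absurd (H.el_eq_one h1).1 (by decide)

/-- (b) an element of `A` commuting with `x` is `1` or `z` -/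
theorem fix_x {a : G} (ha : a ∈ A) (h : x * a * x⁻¹ = a) : a = 1 ∨ a = z := by
  obtain ⟨b, c0, c1, c2, c3, c4, rfl⟩ := H.exists_el ha
  rw [H.x_el] at h
  have h1 := (H.el_ne h).2
  have h2 : (c0 = false ∧ c1 = false ∧ c2 = false ∧ c3 = false ∧ c4 = false) ∨
      (c0 = true ∧ c1 = true ∧ c2 = true ∧ c3 = true ∧ c4 = true) := by
    clear h ha
    cases c0 <;> cases c1 <;> cases c2 <;> cases c3 <;> cases c4 <;> simp at h1 ⊢
  rcases h2 with ⟨rfl, rfl, rfl, rfl, rfl⟩ | ⟨rfl, rfl, rfl, rfl, rfl⟩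
  · cases b
    · exact Or.inl el_one
    · exact Or.inr z_eq
  · cases b
    · exact Or.inl H.el_all
    · right
      have h3 := H.el_mul true false false false false false false true true true true true
      rw [H.el_all, mul_one, z_eq] at h3
      exact h3.symm

end Hyp

end Cfsg.Agent.OddHalf.D7Tits.ThetaHyp

end

-- merged: Cfsg.Agent.OddHalf.D7Tits.ThetaM
section

/-!
# ODD D7, `K` = Tits: `Θ` (helper927, text of helper903 #15617, section 2): the elements `m_v = n_v t^e`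
-/

set_option autoImplicit false

namespace Cfsg.Agent.OddHalf.D7Tits.ThetaHyp

open Subgroup

variable {G : Type*} [Group G]

/-- `y` centralises `A` and `y t y⁻¹ = t v`, `v ∈ A` -/
structure Gam (t : G) (A : Subgroup G) (y v : G) : Prop where
  mem : v ∈ A
  cen : ∀ a ∈ A, y * a = a * y
  conj : y * t * y⁻¹ = t * v

/-- `m = y t^e`, `y` an `n_v` -/
def M (t : G) (N : G → G → Prop) (e : Bool) (v m : G) : Prop := ∃ y, N v y ∧ m = y * pw t e

variable {t z x s u k : G} {q : ZMod 5 → G} {A B L : Subgroup G} {N : G → G → Prop}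

namespace Hyp

variable (H : Hyp t z x s u k q A B L N)
include H

theorem pt_mem {v : G} (hv : IsPt z q v) : v ∈ A := by
  rcases hv with rfl | ⟨i, rfl | rfl⟩
  · exact H.z_mem
  · exact H.q_mem i
  · exact A.mul_mem H.z_mem (H.q_mem i)

omit H in
theorem gam_mul {y v y' w : G} (h : Gam t A y v) (h' : Gam t A y' w) : Gam t A (y * y') (v * w) where
  mem := A.mul_mem h.mem h'.mem
  cen a ha := by rw [mul_assoc, h'.cen a ha, ← mul_assoc, h.cen a ha, mul_assoc]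
  conj := by
    have e1 : y * y' * t * (y * y')⁻¹ = y * (y' * t * y'⁻¹) * y⁻¹ := by group
    rw [e1, h'.conj]
    have e2 : y * (t * w) * y⁻¹ = y * t * (w * y⁻¹) := by group
    have e3 : w * y⁻¹ = y⁻¹ * w := by
      rw [eq_inv_mul_iff_mul_eq, ← mul_assoc, h.cen w h'.mem, mul_inv_cancel_right]
    rw [e2, e3, ← mul_assoc, h.conj, mul_assoc]

theorem gam_inv {y v : G} (h : Gam t A y v) : Gam t A y⁻¹ v where
  mem := h.mem
  cen a ha := by
    rw [eq_comm, eq_inv_mul_iff_mul_eq, ← mul_assoc, h.cen a ha, mul_inv_cancel_right]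
  conj := by
    have e1 : t = y⁻¹ * (t * v) * y := by rw [← h.conj]; group
    have e2 : y⁻¹ * (t * v) * y = y⁻¹ * t * y * v := by
      have : v * y = y * v := (h.cen v h.mem).symm
      rw [mul_assoc y⁻¹, mul_assoc t, this]; group
    rw [e2] at e1
    rw [inv_inv]
    have e3 : y⁻¹ * t * y * v * v = t * v := by rw [← e1]
    rwa [mul_assoc _ v, H.A_sq h.mem, mul_one] at e3

theorem gam_A {a : G} (ha : a ∈ A) : Gam t A a 1 where
  mem := A.one_mem
  cen b hb := H.A_comm ha hb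
  conj := by rw [H.t_comm ha]; group

theorem gam_B {w : G} (hw : w ∈ B) : Gam t A w 1 where
  mem := A.one_mem
  cen b hb := H.B_A w hw b hb
  conj := by rw [H.B_t w hw]; group

theorem gam_t : Gam t A t 1 where
  mem := A.one_mem
  cen b hb := (H.t_comm hb).symm
  conj := by group

theorem gam_ker {y : G} (h : Gam t A y 1) : y ∈ B ∨ t * y ∈ B := by
  apply H.cent y _ h.cen
  have h1 := h.conj
  rw [mul_one, mul_inv_eq_iff_eq_mul] at h1
  exact h1

theorem gam_comm {y v y' w : G} (h : Gam t A y v) (h' : Gam t A y' w) : Gam t A (y * y' * y⁻¹ * y'⁻¹) 1 := by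
  have h1 := gam_mul (gam_mul (gam_mul h h') (H.gam_inv h)) (H.gam_inv h')
  have h2 : v * w * v * w = 1 := by
    rw [mul_assoc, H.A_sq (A.mul_mem h.mem h'.mem)]
  rwa [h2] at h1

theorem N_gam {v y : G} (hv : IsPt z q v) (h : N v y) : Gam t A y v :=
  ⟨H.pt_mem hv, H.N_A v y hv h, H.N_t v y h⟩

/-! ### `m_v` -/

variable {e : Bool}

theorem pw_t_gam (e : Bool) : Gam t A (pw t e) 1 := by
  cases e
  · exact H.gam_A A.one_mem
  · exact H.gam_t

theorem M_gam {v m : G} (hv : IsPt z q v) (h : M t N e v m) : Gam t A m v := by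
  obtain ⟨y, hy, rfl⟩ := h
  have h1 := gam_mul (H.N_gam hv hy) (H.pw_t_gam e)
  rwa [mul_one] at h1

theorem M_sq {v m : G} (hv : IsPt z q v) (h : M t N e v m) : m * m = pw v e := by
  obtain ⟨y, hy, rfl⟩ := h
  have h1 := H.N_sq v y hy
  cases e
  · simp only [pw_false, mul_one]; exact h1
  · simp only [pw_true]
    have h2 := H.N_t v y hy
    have h3 : y⁻¹ = y := by rw [inv_eq_iff_mul_eq_one]; exact h1
    rw [h3] at h2
    rw [← mul_assoc, h2, mul_assoc, H.t_comm (H.pt_mem hv), ← mul_assoc, H.tt, one_mul]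

theorem M_B {v m : G} (hv : IsPt z q v) (h : M t N e v m) : ∀ w ∈ B, m * w = w * m := by
  intro w hw
  obtain ⟨y, hy, rfl⟩ := h
  rw [mul_assoc, pw_comm (H.B_t w hw).symm, ← mul_assoc, H.N_B v y hv hy w hw, mul_assoc]

theorem M_conj {g : G} (hg : g ∈ L) {v m : G} (h : M t N e v m) : M t N e (g * v * g⁻¹) (g * m * g⁻¹) := by
  obtain ⟨y, hy, rfl⟩ := h
  refine ⟨_, H.N_conj g hg v y hy, ?_⟩
  have h1 : pw t e * g⁻¹ = g⁻¹ * pw t e := pw_comm (by
    rw [eq_inv_mul_iff_mul_eq, ← mul_assoc, H.L_t g hg, mul_inv_cancel_right]) e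
  rw [mul_assoc g, mul_assoc y, h1]
  group

theorem M_uniq {v m m' : G} (hv : IsPt z q v) (h : M t N e v m) (h' : M t N e v m') :
    ∃ d : Bool, m' = m * pw v d := by
  obtain ⟨y, hy, rfl⟩ := h
  obtain ⟨y', hy', rfl⟩ := h'
  rcases H.N_uniq v y y' hy hy' with rfl | rfl
  · exact ⟨false, by rw [pw_false, mul_one]⟩
  · refine ⟨true, ?_⟩
    rw [pw_true, mul_assoc, mul_assoc, pw_comm (H.t_comm (H.pt_mem hv)).symm]

omit H in
theorem inv_comm {c y : G} (h : c * y = y * c) : c * y⁻¹ = y⁻¹ * c := by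
  rw [eq_inv_mul_iff_mul_eq, ← mul_assoc, ← h, mul_inv_cancel_right]

/-- the commutators lie in `A` -/
theorem comm_mem {v w m m' : G} (hv : IsPt z q v) (hw : IsPt z q w) (hvw : v ≠ w) (hm : M t N e v m)
    (hm' : M t N e w m') : m * m' * m⁻¹ * m'⁻¹ ∈ A := by
  obtain ⟨c, hc⟩ : ∃ c, c = m * m' * m⁻¹ * m'⁻¹ := ⟨_, rfl⟩
  rw [← hc]
  have g1 : Gam t A m v := H.M_gam hv hm
  have g2 : Gam t A m' w := H.M_gam hw hm'
  have gc : Gam t A c 1 := by rw [hc]; exact H.gam_comm g1 g2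
  have pvA : pw v e ∈ A := by cases e; exacts [A.one_mem, g1.mem]
  have pwA : pw w e ∈ A := by cases e; exacts [A.one_mem, g2.mem]
  have i1 : m * c * m⁻¹ = c⁻¹ := by
    have e1 : m * c * m⁻¹ = (m * m) * m' * m⁻¹ * m'⁻¹ * m⁻¹ := by rw [hc]; group
    rw [e1, H.M_sq hv hm, ← g2.cen _ pvA, ← H.M_sq hv hm, hc]
    group
  have i2 : m' * c⁻¹ * m'⁻¹ = c := by
    have e1 : m' * c⁻¹ * m'⁻¹ = (m' * m') * m * m'⁻¹ * m⁻¹ * m'⁻¹ := by rw [hc]; group
    rw [e1, H.M_sq hw hm', ← g1.cen _ pwA, ← H.M_sq hw hm', hc]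
    group
  rcases H.gam_ker gc with h1 | h1
  · apply H.B_one c h1
    have h2 : m * c * m⁻¹ = c := by rw [H.M_B hv hm c h1]; group
    rw [h2] at i1
    nth_rewrite 1 [i1]
    rw [inv_mul_cancel]
  · exfalso
    apply hvw
    obtain ⟨b, hb⟩ : ∃ b, b = t * c := ⟨_, rfl⟩
    rw [← hb] at h1
    have hcb : c = t * b := by rw [hb, ← mul_assoc, H.tt, one_mul]
    have ti : t⁻¹ = t := by rw [inv_eq_iff_mul_eq_one]; exact H.tt
    have hci : c⁻¹ = t * b⁻¹ := by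
      rw [hcb, mul_inv_rev, ti, ← inv_comm (H.B_t b h1).symm]
    -- `m (t b) m⁻¹ = t v b`
    have j1 : m * c * m⁻¹ = t * (v * b) := by
      have e1 : m * c * m⁻¹ = (m * t * m⁻¹) * (m * b * m⁻¹) := by rw [hcb]; group
      rw [e1, g1.conj, H.M_B hv hm b h1]
      group
    have j2 : m' * c⁻¹ * m'⁻¹ = t * (w * b⁻¹) := by
      have e1 : m' * c⁻¹ * m'⁻¹ = (m' * t * m'⁻¹) * (m' * b⁻¹ * m'⁻¹) := by rw [hci]; group
      rw [e1, g2.conj, H.M_B hw hm' b⁻¹ (B.inv_mem h1)]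
      group
    rw [i1, hci] at j1
    rw [i2, hcb] at j2
    have k1 : b⁻¹ = v * b := mul_left_cancel j1
    have k2 : b = w * b⁻¹ := mul_left_cancel j2
    have k3 : v = b⁻¹ * b⁻¹ := by rw [← mul_inv_eq_iff_eq_mul] at k1; exact k1.symm
    have k4 : w = b * b := by rw [← mul_inv_eq_iff_eq_mul, inv_inv] at k2; exact k2.symm
    have k5 : w * v = 1 := by rw [k3, k4]; group
    have k6 : v * v = 1 := H.A_sq g1.mem
    exact mul_right_cancel (k6.trans k5.symm)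

end Hyp

end Cfsg.Agent.OddHalf.D7Tits.ThetaHyp

end

-- merged: Cfsg.Agent.OddHalf.D7Tits.ThetaLine
section

/-!
# ODD D7, `K` = Tits: `Θ` (helper927, text of helper903 #15617, section 2): the line relation
-/

set_option autoImplicit false

namespace Cfsg.Agent.OddHalf.D7Tits.ThetaHyp

open Subgroup

variable {G : Type*} [Group G]

variable {t z x s u k : G} {q : ZMod 5 → G} {A B L : Subgroup G} {N : G → G → Prop}

namespace Hyp

variable (H : Hyp t z x s u k q A B L N)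
include H

theorem q0_ne_z : q 0 ≠ z := by
  intro h
  have h1 : el z q false true false false false false = el z q true false false false false false := by
    rw [q0_eq, z_eq, h]
  exact absurd (H.el_ne h1).1 (by decide)

theorem q0_ne_one : q 0 ≠ 1 := by
  intro h
  have h1 : el z q false true false false false false = 1 := by rw [q0_eq, h]
  have := (H.el_eq_one h1).2
  simp at this

omit H in
theorem pt_z : IsPt z q z := Or.inl rfl
omit H in
theorem pt_q (i : ZMod 5) : IsPt z q (q i) := Or.inr ⟨i, Or.inl rfl⟩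
omit H in
theorem pt_zq (i : ZMod 5) : IsPt z q (z * q i) := Or.inr ⟨i, Or.inr rfl⟩

theorem exists_line : ∃ (e : Bool) (mz m0 : G), M t N e z mz ∧ M t N e (q 0) m0 ∧
    mz * m0 * (u * m0 * u⁻¹) ∈ A ∧ mz * x = x * mz ∧ mz * u = u * mz := by
  obtain ⟨n, hn⟩ := H.N_ex
  have hn0 : N (q 0) (k * n * k⁻¹) := by rw [← H.kz]; exact H.N_conj k H.k_mem z n hn
  obtain ⟨n0, hn0'⟩ : ∃ n0, n0 = k * n * k⁻¹ := ⟨_, rfl⟩
  rw [← hn0'] at hn0
  have hl : N (z * q 0) (u * n0 * u⁻¹) := by rw [← H.uq0]; exact H.N_conj u H.u_mem _ n0 hn0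
  obtain ⟨l, hl'⟩ : ∃ l, l = u * n0 * u⁻¹ := ⟨_, rfl⟩
  rw [← hl'] at hl
  have gn : Gam t A n z := H.N_gam pt_z hn
  have g0 : Gam t A n0 (q 0) := H.N_gam (pt_q 0) hn0
  have gl : Gam t A l (z * q 0) := H.N_gam (pt_zq 0) hl
  have gy : Gam t A (n * n0 * l) 1 := by
    have h1 := gam_mul (gam_mul gn g0) gl
    rwa [H.A_sq (A.mul_mem H.z_mem (H.q_mem 0))] at h1
  obtain ⟨e, w, hw, hy⟩ : ∃ e : Bool, ∃ w ∈ B, n * n0 * l = pw t e * w := by
    rcases H.gam_ker gy with h | h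
    · exact ⟨false, _, h, by rw [pw_false, one_mul]⟩
    · exact ⟨true, _, h, by rw [pw_true, ← mul_assoc, H.tt, one_mul]⟩
  -- `w² = 1`
  have hww : w * w = 1 := by
    rcases H.B_sq w hw with h | h
    · exact h
    exfalso
    -- conjugation by `k`
    have c0 : N z (k * n0 * k⁻¹) := by
      have := H.N_conj k H.k_mem _ n0 hn0
      rwa [H.kq] at this
    have cl : N (z * q 0) (k * l * k⁻¹) := by
      have h1 := H.N_conj k H.k_mem _ l hl
      have h2 : k * (z * q 0) * k⁻¹ = z * q 0 := by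
        have : k * (z * q 0) * k⁻¹ = (k * z * k⁻¹) * (k * q 0 * k⁻¹) := by group
        rw [this, H.kz, H.kq, H.zq]
      rwa [h2] at h1
    have d0 : ∃ a ∈ A, k * n0 * k⁻¹ = n * a := by
      rcases H.N_uniq _ _ _ hn c0 with h1 | h1
      · exact ⟨1, A.one_mem, by rw [h1, mul_one]⟩
      · exact ⟨z, H.z_mem, h1⟩
    have dl : ∃ a ∈ A, k * l * k⁻¹ = l * a := by
      rcases H.N_uniq _ _ _ hl cl with h1 | h1
      · exact ⟨1, A.one_mem, by rw [h1, mul_one]⟩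
      · exact ⟨_, gl.mem, h1⟩
    obtain ⟨a0, ha0, e0⟩ := d0
    obtain ⟨al, hal, el'⟩ := dl
    have kt : k * pw t e * k⁻¹ = pw t e := by
      rw [conj_pw, H.L_t k H.k_mem]; simp
    have E1 : k * (n * n0 * l) * k⁻¹ = n0 * (n * a0) * (l * al) := by
      have : k * (n * n0 * l) * k⁻¹ = (k * n * k⁻¹) * (k * n0 * k⁻¹) * (k * l * k⁻¹) := by group
      rw [this, ← hn0', e0, el']
    have E2 : k * (n * n0 * l) * k⁻¹ = pw t e * (k * w * k⁻¹) := by
      have : k * (n * n0 * l) * k⁻¹ = (k * pw t e * k⁻¹) * (k * w * k⁻¹) := by rw [hy]; group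
      rw [this, kt]
    -- `n0 n l = c n n0 l`
    have hne : z ≠ q 0 := fun h => H.q0_ne_z h.symm
    have hc : n * n0 * n⁻¹ * n0⁻¹ ∈ A := by
      have m1 : M t N false z n := ⟨n, hn, by rw [pw_false, mul_one]⟩
      have m2 : M t N false (q 0) n0 := ⟨n0, hn0, by rw [pw_false, mul_one]⟩
      exact H.comm_mem pt_z (pt_q 0) hne m1 m2
    obtain ⟨c, hc'⟩ : ∃ c, c = n * n0 * n⁻¹ * n0⁻¹ := ⟨_, rfl⟩
    rw [← hc'] at hc
    have hcn : n * n0 = c * (n0 * n) := by rw [hc']; group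
    have hcn' : n0 * n = c * (n * n0) := by rw [hcn, ← mul_assoc, H.A_sq hc, one_mul]
    have E3 : n0 * (n * a0) * (l * al) = pw t e * (c * w * (a0 * al)) := by
      have h1 : n0 * (n * a0) * (l * al) = (n0 * n) * (l * (a0 * al)) := by
        have : a0 * l = l * a0 := (gl.cen a0 ha0).symm
        calc n0 * (n * a0) * (l * al) = n0 * n * (a0 * l) * al := by group
          _ = n0 * n * (l * a0) * al := by rw [this]
          _ = (n0 * n) * (l * (a0 * al)) := by group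
      rw [h1, hcn']
      have h2 : c * (n * n0) * (l * (a0 * al)) = c * (n * n0 * l) * (a0 * al) := by group
      have h3 : c * pw t e = pw t e * c := (pw_comm (H.t_comm hc).symm e).symm
      rw [h2, hy, ← mul_assoc c (pw t e) w, h3]
      group
    have E4 : k * w * k⁻¹ = c * w * (a0 * al) := by
      rw [E1, E3] at E2
      exact (mul_left_cancel E2).symm
    have hA : a0 * al ∈ A := A.mul_mem ha0 hal
    have E5 : (k * w * k⁻¹) * (k * w * k⁻¹) = q 0 := by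
      have : (k * w * k⁻¹) * (k * w * k⁻¹) = k * (w * w) * k⁻¹ := by group
      rw [this, h, H.kz]
    have E6 : (c * w * (a0 * al)) * (c * w * (a0 * al)) = z := by
      have h1 : (a0 * al) * c = c * (a0 * al) := H.A_comm hA hc
      have h2 : w * c = c * w := H.B_A w hw c hc
      have h3 : (a0 * al) * w = w * (a0 * al) := (H.B_A w hw _ hA).symm
      calc (c * w * (a0 * al)) * (c * w * (a0 * al)) = c * w * ((a0 * al) * c) * w * (a0 * al) := by group
        _ = c * (w * c) * ((a0 * al) * w) * (a0 * al) := by rw [h1]; group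
        _ = (c * c) * (w * w) * ((a0 * al) * (a0 * al)) := by rw [h2, h3]; group
        _ = z := by rw [H.A_sq hc, h, H.A_sq hA, one_mul, mul_one]
    rw [E4, E6] at E5
    exact hne E5
  have hwA : w ∈ A := H.B_one w hw hww
  refine ⟨e, n * pw t e, n0 * pw t e, ⟨n, hn, rfl⟩, ⟨n0, hn0, rfl⟩, ?_, ?_, ?_⟩
  · have h1 : u * (n0 * pw t e) * u⁻¹ = l * pw t e := by
      have : u * (n0 * pw t e) * u⁻¹ = (u * n0 * u⁻¹) * (u * pw t e * u⁻¹) := by group
      rw [this, conj_pw, H.L_t u H.u_mem, ← hl']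
      simp
    rw [h1]
    cases e
    · simp only [pw_false, mul_one, one_mul] at hy ⊢
      rw [hy]; exact hwA
    · simp only [pw_true] at hy ⊢
      have h2 : n0 * t = t * q 0 * n0 := by rw [← g0.conj]; group
      have h3 : n * t * (n0 * t) * (l * t) = q 0 * w := by
        have e1 : n * t * (n0 * t) * (l * t) = n * t * (n0 * t) * l * t := by group
        rw [e1, h2]
        have e2 : n * t * (t * q 0 * n0) * l * t = n * (t * t) * q 0 * n0 * l * t := by group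
        rw [e2, H.tt, mul_one, gn.cen _ (H.q_mem 0)]
        have e3 : q 0 * n * n0 * l * t = q 0 * (n * n0 * l) * t := by group
        rw [e3, hy]
        have e4 : q 0 * (t * w) * t = q 0 * (t * (w * t)) := by group
        rw [e4, H.B_t w hw, ← mul_assoc t, H.tt, one_mul]
      rw [h3]
      exact A.mul_mem (H.q_mem 0) hwA
  · rw [mul_assoc, pw_comm (H.L_t x H.x_mem).symm, ← mul_assoc, H.N_x n hn, mul_assoc]
  · rw [mul_assoc, pw_comm (H.L_t u H.u_mem).symm, ← mul_assoc, H.N_u n hn, mul_assoc]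

end Hyp

end Cfsg.Agent.OddHalf.D7Tits.ThetaHyp

end

-- merged: Cfsg.Agent.OddHalf.D7Tits.ThetaData
section

/-!
# ODD D7, `K` = Tits: `Θ` (helper927, text of helper903 #15617, section 2): all relations of the `m_v`
-/

set_option autoImplicit false

namespace Cfsg.Agent.OddHalf.D7Tits.ThetaHyp

open Subgroup

variable {G : Type*} [Group G]

/-- the relations of `m_z = mz`, `m_{q_i} = m i` -/
structure MD (t z x s u : G) (q : ZMod 5 → G) (A B : Subgroup G) (N : G → G → Prop) (e : Bool) (m : ZMod 5 → G)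
    (mz a0 : G) : Prop where
  hz : M t N e z mz
  hm : ∀ i, M t N e (q i) (m i)
  x_m : ∀ i, x * m i * x⁻¹ = m (i + 1)
  x_z : mz * x = x * mz
  u_z : mz * u = u * mz
  z_m : ∀ i, mz * m i = m i * mz
  a0_mem : a0 ∈ A
  u_m0 : u * m 0 * u⁻¹ = m 0 * mz * a0
  u_m1 : ∃ d : Bool, u * m 1 * u⁻¹ = m 1 * mz * (x * a0 * x⁻¹ * pw (z * q 1) d)
  u_m2 : ∃ d : Bool, u * m 2 * u⁻¹ = m 2 * pw (q 2) d
  u_m3 : ∃ d : Bool, u * m 3 * u⁻¹ = m 3 * pw (q 3) d
  u_m4 : ∃ d : Bool, u * m 4 * u⁻¹ = m 4 * pw (q 4) d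
  s_m : ∃ d : Bool, ∀ i, s * m i * s⁻¹ = m (2 * i) * pw (q (2 * i)) d
  s_a0 : ∃ a b : Bool, s * a0 * s⁻¹ = a0 * (pw z a * pw (q 0) b)

theorem five (i : ZMod 5) : i = 0 ∨ i = 1 ∨ i = 2 ∨ i = 3 ∨ i = 4 := by revert i; decide

variable {t z x s u k : G} {q : ZMod 5 → G} {A B L : Subgroup G} {N : G → G → Prop}

namespace Hyp

variable (H : Hyp t z x s u k q A B L N)
include H

theorem exists_MD : ∃ (e : Bool) (m : ZMod 5 → G) (mz a0 : G), MD t z x s u q A B N e m mz a0 := by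
  obtain ⟨e, mz, m0, hz, h0, hline, hzx, hzu⟩ := H.exists_line
  obtain ⟨m, hm⟩ : ∃ m : ZMod 5 → G, m = fun i => x ^ i.val * m0 * (x ^ i.val)⁻¹ := ⟨_, rfl⟩
  have m_0 : m 0 = m0 := by rw [hm]; show x ^ 0 * m0 * (x ^ 0)⁻¹ = m0; group
  have x_m : ∀ i, x * m i * x⁻¹ = m (i + 1) := by
    intro i
    have key : ∀ a b : ℕ, b = a + 1 → x * (x ^ a * m0 * (x ^ a)⁻¹) * x⁻¹ = x ^ b * m0 * (x ^ b)⁻¹ := by
      rintro a b rfl
      rw [pow_succ']; group
    rw [hm]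
    rcases five i with rfl | rfl | rfl | rfl | rfl
    · exact key 0 1 rfl
    · exact key 1 2 rfl
    · exact key 2 3 rfl
    · exact key 3 4 rfl
    · have h1 := key 4 5 rfl
      rw [H.x5] at h1
      show x * (x ^ 4 * m0 * (x ^ 4)⁻¹) * x⁻¹ = x ^ 0 * m0 * (x ^ 0)⁻¹
      rw [h1, pow_zero]
  have stepM : ∀ i, M t N e (q i) (m i) → M t N e (q (i + 1)) (m (i + 1)) := by
    intro i hi
    have h1 := H.M_conj H.x_mem hi
    rwa [H.xq, x_m] at h1
  have M0 : M t N e (q 0) (m 0) := by rw [m_0]; exact h0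
  have M1 : M t N e (q 1) (m 1) := stepM 0 M0
  have M2 : M t N e (q 2) (m 2) := stepM 1 M1
  have M3 : M t N e (q 3) (m 3) := stepM 2 M2
  have M4 : M t N e (q 4) (m 4) := stepM 3 M3
  have hM : ∀ i, M t N e (q i) (m i) := by
    intro i
    rcases five i with rfl | rfl | rfl | rfl | rfl
    exacts [M0, M1, M2, M3, M4]
  have gz : Gam t A mz z := H.M_gam pt_z hz
  have gm : ∀ i, Gam t A (m i) (q i) := fun i => H.M_gam (pt_q i) (hM i)
  -- the line
  obtain ⟨l, hl⟩ : ∃ l, l = u * m 0 * u⁻¹ := ⟨_, rfl⟩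
  have Ml : M t N e (z * q 0) l := by
    have h1 := H.M_conj H.u_mem M0
    rwa [H.uq0, ← hl] at h1
  obtain ⟨w1, hw1⟩ : ∃ w1, w1 = mz * m 0 * l := ⟨_, rfl⟩
  have hw1A : w1 ∈ A := by rw [hw1, hl, m_0]; exact hline
  have gl : Gam t A l (z * q 0) := H.M_gam (pt_zq 0) Ml
  have zsq := H.M_sq pt_z hz
  have msq := fun i => H.M_sq (pt_q i) (hM i)
  have lsq := H.M_sq (pt_zq 0) Ml
  have pzA : ∀ b, pw z b ∈ A := H.pw_z_mem
  have pqA : ∀ i b, pw (q i) b ∈ A := H.pw_q_mem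
  have pzqA : ∀ i b, pw (z * q i) b ∈ A := by
    intro i b
    cases b
    · exact A.one_mem
    · exact A.mul_mem H.z_mem (H.q_mem i)
  -- `(mz m0)² = pw (z q0) e`
  have hzm : mz * m 0 = w1 * l⁻¹ := by rw [hw1]; group
  have hsq1 : (mz * m 0) * (mz * m 0) = pw (z * q 0) e := by
    have h1 : l⁻¹ * w1 = w1 * l⁻¹ := (H.gam_inv gl).cen w1 hw1A
    have h2 : (mz * m 0) * (mz * m 0) = w1 * (l⁻¹ * w1) * l⁻¹ := by rw [hzm]; group
    have h3 : w1 * (w1 * l⁻¹) * l⁻¹ = (w1 * w1) * (l * l)⁻¹ := by group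
    rw [h2, h1, h3, H.A_sq hw1A, lsq, one_mul, H.A_inv (pzqA 0 e)]
  have zm0 : mz * m 0 = m 0 * mz := by
    have h1 : mz * (m 0 * mz) * m 0 = mz * (mz * m 0) * m 0 := by
      have e1 : mz * (m 0 * mz) * m 0 = (mz * m 0) * (mz * m 0) := by group
      have e2 : mz * (mz * m 0) * m 0 = (mz * mz) * (m 0 * m 0) := by group
      rw [e1, e2, hsq1, zsq, msq, mul_pw]
    exact (mul_left_cancel (mul_right_cancel h1)).symm
  have stepz : ∀ i, mz * m i = m i * mz → mz * m (i + 1) = m (i + 1) * mz := by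
    intro i hi
    have hx : x⁻¹ * mz = mz * x⁻¹ := by rw [inv_mul_eq_iff_eq_mul, ← mul_assoc, ← hzx, mul_inv_cancel_right]
    rw [← x_m]
    calc mz * (x * m i * x⁻¹) = (mz * x) * m i * x⁻¹ := by group
      _ = x * (mz * m i) * x⁻¹ := by rw [hzx]; group
      _ = x * m i * (mz * x⁻¹) := by rw [hi]; group
      _ = x * m i * x⁻¹ * mz := by rw [← hx]; group
  have z1 := stepz 0 zm0
  have z2 := stepz 1 z1
  have z3 := stepz 2 z2
  have z4 := stepz 3 z3
  have z_m : ∀ i, mz * m i = m i * mz := by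
    intro i
    rcases five i with rfl | rfl | rfl | rfl | rfl
    exacts [zm0, z1, z2, z3, z4]
  -- `a0`
  obtain ⟨a0, ha0⟩ : ∃ a0, a0 = pw (z * q 0) e * w1 := ⟨_, rfl⟩
  have a0A : a0 ∈ A := by rw [ha0]; exact A.mul_mem (pzqA 0 e) hw1A
  have u_m0 : u * m 0 * u⁻¹ = m 0 * mz * a0 := by
    rw [← hl, ← zm0, ha0, ← hsq1.symm.symm]
    have h1 : (mz * m 0) * ((mz * m 0) * (mz * m 0) * w1) = ((mz * m 0) * (mz * m 0)) * ((mz * m 0) * w1) := by
      group
    have h2 : pw (z * q 0) e * pw (z * q 0) e = 1 := H.A_sq (pzqA 0 e)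
    have h3 : ((mz * m 0) * (mz * m 0)) * ((mz * m 0) * (mz * m 0)) = 1 := by rw [hsq1, h2]
    have h4 : mz * m 0 * l = w1 := hw1.symm
    have h5 : l = (mz * m 0)⁻¹ * w1 := by rw [← h4]; group
    rw [h5]
    have h6 : (mz * m 0)⁻¹ = (mz * m 0) * ((mz * m 0) * (mz * m 0)) := by
      rw [inv_eq_iff_mul_eq_one]
      rw [← h3]; group
    rw [h6]; group
  -- the conjugates
  have u_m1 : ∃ d : Bool, u * m 1 * u⁻¹ = m 1 * mz * (x * a0 * x⁻¹ * pw (z * q 1) d) := by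
    have h1 : M t N e (z * q 1) (u * m 1 * u⁻¹) := by
      have := H.M_conj H.u_mem M1
      rwa [H.uq1] at this
    have h2 : M t N e (z * q 1) (x * l * x⁻¹) := by
      have := H.M_conj H.x_mem Ml
      have e1 : x * (z * q 0) * x⁻¹ = z * q 1 := by
        have : x * (z * q 0) * x⁻¹ = (x * z * x⁻¹) * (x * q 0 * x⁻¹) := by group
        rw [this, H.xz, H.xq]; rfl
      rwa [e1] at this
    obtain ⟨d, hd⟩ := H.M_uniq (pt_zq 1) h2 h1
    refine ⟨d, ?_⟩
    rw [hd, hl, u_m0]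
    have hx : x * mz * x⁻¹ = mz := by rw [← hzx]; group
    have e1 : x * (m 0 * mz * a0) * x⁻¹ = (x * m 0 * x⁻¹) * (x * mz * x⁻¹) * (x * a0 * x⁻¹) := by group
    have e2 : (0 : ZMod 5) + 1 = 1 := rfl
    rw [e1, x_m, hx, e2]
    group
  have u_mi : ∀ i, u * q i * u⁻¹ = q i → ∃ d : Bool, u * m i * u⁻¹ = m i * pw (q i) d := by
    intro i hi
    have h1 := H.M_conj H.u_mem (hM i)
    rw [hi] at h1
    exact H.M_uniq (pt_q i) (hM i) h1
  have s_m0 : ∃ d : Bool, s * m 0 * s⁻¹ = m 0 * pw (q 0) d := by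
    have h1 := H.M_conj H.s_mem M0
    have e0 : 2 * (0 : ZMod 5) = 0 := rfl
    rw [H.sq, e0] at h1
    exact H.M_uniq (pt_q 0) M0 h1
  obtain ⟨ka, hka⟩ := s_m0
  have step : ∀ i, s * m i * s⁻¹ = m (2 * i) * pw (q (2 * i)) ka →
      s * m (i + 1) * s⁻¹ = m (2 * (i + 1)) * pw (q (2 * (i + 1))) ka := by
    intro i hi
    have e1 : s * m (i + 1) * s⁻¹ = (s * x * s⁻¹) * (s * m i * s⁻¹) * (s * x * s⁻¹)⁻¹ := by
      rw [← x_m]; group
    have e2 : x * x * (m (2 * i) * pw (q (2 * i)) ka) * (x * x)⁻¹ =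
        (x * (x * m (2 * i) * x⁻¹) * x⁻¹) * (x * (x * pw (q (2 * i)) ka * x⁻¹) * x⁻¹) := by group
    have e3 : 2 * i + 1 + 1 = 2 * (i + 1) := by ring
    rw [e1, H.sx, hi, e2, x_m, x_m, conj_pw, conj_pw, H.xq, H.xq, e3]
  have s0 : s * m 0 * s⁻¹ = m (2 * 0) * pw (q (2 * 0)) ka := hka
  have s1 := step 0 s0
  have s2 := step 1 s1
  have s3 := step 2 s2
  have s4 := step 3 s3
  have s_m : ∀ i, s * m i * s⁻¹ = m (2 * i) * pw (q (2 * i)) ka := by
    intro i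
    rcases five i with rfl | rfl | rfl | rfl | rfl
    exacts [s0, s1, s2, s3, s4]
  have s_a0 : ∃ a b : Bool, s * a0 * s⁻¹ = a0 * (pw z a * pw (q 0) b) := by
    have h1 : ∃ d : Bool, s * mz * s⁻¹ = mz * pw z d := by
      have h1 := H.M_conj H.s_mem hz
      rw [H.sz] at h1
      exact H.M_uniq pt_z hz h1
    obtain ⟨kz, hkz⟩ := h1
    have h2 : ∃ d : Bool, s * l * s⁻¹ = l * pw (z * q 0) d := by
      have h1 := H.M_conj H.s_mem Ml
      have e1 : s * (z * q 0) * s⁻¹ = z * q 0 := by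
        have : s * (z * q 0) * s⁻¹ = (s * z * s⁻¹) * (s * q 0 * s⁻¹) := by group
        rw [this, H.sz, H.sq]; rfl
      rw [e1] at h1
      exact H.M_uniq (pt_zq 0) Ml h1
    obtain ⟨kl, hkl⟩ := h2
    refine ⟨kz ^^ kl, ka ^^ kl, ?_⟩
    rw [hl, u_m0] at hkl
    have e1 : s * (m 0 * mz * a0) * s⁻¹ = (s * m 0 * s⁻¹) * (s * mz * s⁻¹) * (s * a0 * s⁻¹) := by group
    rw [e1, hka, hkz] at hkl
    have hsA : s * a0 * s⁻¹ = (pw z kz)⁻¹ * (mz⁻¹ * (pw (q 0) ka)⁻¹ * mz) * (a0 * pw (z * q 0) kl) := by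
      have e2 : m 0 * pw (q 0) ka * (mz * pw z kz) * (s * a0 * s⁻¹) =
          m 0 * (pw (q 0) ka * mz * pw z kz * (s * a0 * s⁻¹)) := by group
      have e3 : m 0 * mz * a0 * pw (z * q 0) kl = m 0 * (mz * (a0 * pw (z * q 0) kl)) := by group
      rw [e2, e3] at hkl
      have h3 := mul_left_cancel hkl
      have e4 : s * a0 * s⁻¹ = (pw z kz)⁻¹ * mz⁻¹ * (pw (q 0) ka)⁻¹ * (pw (q 0) ka * mz * pw z kz * (s * a0 * s⁻¹)) := by
        group
      rw [e4, h3]; group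
    have e5 : mz⁻¹ * (pw (q 0) ka)⁻¹ * mz = pw (q 0) ka := by
      rw [H.A_inv (pqA 0 ka), (H.gam_inv gz).cen _ (pqA 0 ka)]; group
    rw [hsA, e5, H.A_inv (pzA kz), mul_pw, ← pw_mul H.zz, ← pw_mul (H.qq 0)]
    -- all in `A`
    have c1 : pw z kz * pw (q 0) ka * (a0 * (pw z kl * pw (q 0) kl)) =
        a0 * (pw z kz * pw (q 0) ka) * (pw z kl * pw (q 0) kl) := by
      rw [← mul_assoc, H.A_comm (A.mul_mem (pzA kz) (pqA 0 ka)) a0A]
    have c2 : pw (q 0) ka * pw z kl = pw z kl * pw (q 0) ka := H.A_comm (pqA 0 ka) (pzA kl)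
    rw [c1]
    calc a0 * (pw z kz * pw (q 0) ka) * (pw z kl * pw (q 0) kl)
        = a0 * (pw z kz * (pw (q 0) ka * pw z kl) * pw (q 0) kl) := by group
      _ = a0 * (pw z kz * pw z kl * (pw (q 0) ka * pw (q 0) kl)) := by rw [c2]; group
  exact ⟨e, m, mz, a0, hz, hM, x_m, hzx, hzu, z_m, a0A, u_m0, u_m1, u_mi 2 H.uq2, u_mi 3 H.uq3, u_mi 4 H.uq4,
    ⟨ka, s_m⟩, s_a0⟩

end Hyp

end Cfsg.Agent.OddHalf.D7Tits.ThetaHyp

end

-- merged: Cfsg.Agent.OddHalf.D7Tits.ThetaComm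
section

/-!
# ODD D7, `K` = Tits: `Θ` (helper927, text of helper903 #15617, section 2): `[m_i, m_j] = Z ∈ ⟨z⟩`
-/

set_option autoImplicit false

namespace Cfsg.Agent.OddHalf.D7Tits.ThetaHyp

open Subgroup

variable {G : Type*} [Group G]

variable {t z x s u k : G} {q : ZMod 5 → G} {A B L : Subgroup G} {N : G → G → Prop}

theorem comm_r {p p' r r' : G} (h1 : r * p' = p' * r) (h2 : r' * p = p * r')
    (h4 : r * r' = r' * r) : (p * r) * (p' * r') * (p * r)⁻¹ * (p' * r')⁻¹ = p * p' * p⁻¹ * p'⁻¹ := by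
  calc (p * r) * (p' * r') * (p * r)⁻¹ * (p' * r')⁻¹ = p * (r * p') * r' * r⁻¹ * p⁻¹ * r'⁻¹ * p'⁻¹ := by group
    _ = p * p' * (r * r') * r⁻¹ * p⁻¹ * r'⁻¹ * p'⁻¹ := by rw [h1]; group
    _ = p * p' * p⁻¹ * (p * r') * p⁻¹ * r'⁻¹ * p'⁻¹ := by rw [h4]; group
    _ = p * p' * p⁻¹ * p'⁻¹ := by rw [← h2]; group

namespace Hyp

variable (H : Hyp t z x s u k q A B L N)
include H

omit H in
theorem q_eq_el (i : ZMod 5) : q i = el z q false (decide (i = 0)) (decide (i = 1)) (decide (i = 2)) (decide (i = 3))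
    (decide (i = 4)) := by
  rcases five i with rfl | rfl | rfl | rfl | rfl
  · exact q0_eq.symm
  · exact q1_eq.symm
  · exact q2_eq.symm
  · exact q3_eq.symm
  · exact q4_eq.symm

theorem q_ne {i j : ZMod 5} (hij : i ≠ j) : q i ≠ q j := by
  intro h
  rw [q_eq_el (z := z) (q := q) i, q_eq_el (z := z) (q := q) j] at h
  have h1 := (H.el_ne h).2
  clear h
  revert h1
  rcases five i with rfl | rfl | rfl | rfl | rfl <;> rcases five j with rfl | rfl | rfl | rfl | rfl <;>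
    first
      | exact absurd rfl hij
      | decide

/-- an element of `A` all of whose `x`-conjugates commute with `u` -/
theorem fix_u {a : G} (ha : a ∈ A) (h0 : u * a * u⁻¹ = a) (h1 : u * (x * a * x⁻¹) * u⁻¹ = x * a * x⁻¹)
    (h2 : u * (x * (x * a * x⁻¹) * x⁻¹) * u⁻¹ = x * (x * a * x⁻¹) * x⁻¹)
    (h3 : u * (x * (x * (x * a * x⁻¹) * x⁻¹) * x⁻¹) * u⁻¹ = x * (x * (x * a * x⁻¹) * x⁻¹) * x⁻¹) :
    a = 1 ∨ a = z := by
  obtain ⟨b, c0, c1, c2, c3, c4, rfl⟩ := H.exists_el ha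
  rw [H.u_el] at h0
  rw [H.x_el, H.u_el] at h1
  rw [H.x_el, H.x_el, H.u_el] at h2
  rw [H.x_el, H.x_el, H.x_el, H.u_el] at h3
  have e0 := (H.el_ne h0).1
  have e1 := (H.el_ne h1).1
  have e2 := (H.el_ne h2).1
  have e3 := (H.el_ne h3).1
  have h5 : (c0 = false ∧ c1 = false ∧ c2 = false ∧ c3 = false ∧ c4 = false) ∨
      (c0 = true ∧ c1 = true ∧ c2 = true ∧ c3 = true ∧ c4 = true) := by
    clear h0 h1 h2 h3 ha
    cases b <;> cases c0 <;> cases c1 <;> cases c2 <;> cases c3 <;> cases c4 <;> simp at e0 e1 e2 e3 ⊢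
  rcases h5 with ⟨rfl, rfl, rfl, rfl, rfl⟩ | ⟨rfl, rfl, rfl, rfl, rfl⟩
  · cases b
    · exact Or.inl el_one
    · exact Or.inr z_eq
  · cases b
    · exact Or.inl H.el_all
    · right
      have h3 := H.el_mul true false false false false false false true true true true true
      rw [H.el_all, mul_one, z_eq] at h3
      exact h3.symm

variable {e : Bool} {m : ZMod 5 → G} {mz a0 : G}

theorem gz (D : MD t z x s u q A B N e m mz a0) : Gam t A mz z := H.M_gam pt_z D.hz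
theorem gm (D : MD t z x s u q A B N e m mz a0) (i : ZMod 5) : Gam t A (m i) (q i) := H.M_gam (pt_q i) (D.hm i)

theorem pzq_mem (i : ZMod 5) (b : Bool) : pw (z * q i) b ∈ A := by
  cases b
  · exact A.one_mem
  · exact A.mul_mem H.z_mem (H.q_mem i)

theorem x_A {a : G} (ha : a ∈ A) : x * a * x⁻¹ ∈ A := by
  obtain ⟨b, c0, c1, c2, c3, c4, rfl⟩ := H.exists_el ha
  rw [H.x_el]; exact H.el_mem _ _ _ _ _ _

theorem u_A {a : G} (ha : a ∈ A) : u * a * u⁻¹ ∈ A := by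
  obtain ⟨b, c0, c1, c2, c3, c4, rfl⟩ := H.exists_el ha
  rw [H.u_el]; exact H.el_mem _ _ _ _ _ _

/-- `r` commutes with `A`, all `m i` and `mz` -/
def Cn (A : Subgroup G) (m : ZMod 5 → G) (mz r : G) : Prop :=
  (∀ i, r * m i = m i * r) ∧ r * mz = mz * r ∧ ∀ a ∈ A, r * a = a * r

theorem cn_A (D : MD t z x s u q A B N e m mz a0) {a : G} (ha : a ∈ A) : Cn A m mz a :=
  ⟨fun i => ((H.gm D i).cen a ha).symm, ((H.gz D).cen a ha).symm, fun _ hb => H.A_comm ha hb⟩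

theorem cn_z (D : MD t z x s u q A B N e m mz a0) : Cn A m mz mz := ⟨D.z_m, rfl, (H.gz D).cen⟩

omit H in
theorem cn_mul {r r' : G} (h : Cn A m mz r) (h' : Cn A m mz r') : Cn A m mz (r * r') :=
  ⟨fun i => by rw [mul_assoc, h'.1, ← mul_assoc, h.1, mul_assoc],
    by rw [mul_assoc, h'.2.1, ← mul_assoc, h.2.1, mul_assoc],
    fun a ha => by rw [mul_assoc, h'.2.2 a ha, ← mul_assoc, h.2.2 a ha, mul_assoc]⟩

/-- conjugation by `u` -/
theorem u_all (D : MD t z x s u q A B N e m mz a0) (i : ZMod 5) : ∃ r, u * m i * u⁻¹ = m i * r ∧ Cn A m mz r ∧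
    ∀ r', Cn A m mz r' → r * r' = r' * r := by
  have hz : ∀ r', Cn A m mz r' → mz * r' = r' * mz := fun r' h => h.2.1.symm
  have hA : ∀ a ∈ A, ∀ r', Cn A m mz r' → a * r' = r' * a := fun a ha r' h => (h.2.2 a ha).symm
  have key : ∀ a ∈ A, Cn A m mz (mz * a) ∧ ∀ r', Cn A m mz r' → mz * a * r' = r' * (mz * a) := by
    intro a ha
    refine ⟨cn_mul (H.cn_z D) (H.cn_A D ha), fun r' h => ?_⟩
    rw [mul_assoc, hA a ha r' h, ← mul_assoc, hz r' h, mul_assoc]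
  rcases five i with rfl | rfl | rfl | rfl | rfl
  · refine ⟨mz * a0, by rw [D.u_m0, mul_assoc], (key a0 D.a0_mem).1, (key a0 D.a0_mem).2⟩
  · obtain ⟨d, hd⟩ := D.u_m1
    have ha := A.mul_mem (H.x_A D.a0_mem) (H.pzq_mem 1 d)
    exact ⟨_, by rw [hd, mul_assoc], (key _ ha).1, (key _ ha).2⟩
  · obtain ⟨d, hd⟩ := D.u_m2
    exact ⟨_, hd, H.cn_A D (H.pw_q_mem 2 d), hA _ (H.pw_q_mem 2 d)⟩
  · obtain ⟨d, hd⟩ := D.u_m3
    exact ⟨_, hd, H.cn_A D (H.pw_q_mem 3 d), hA _ (H.pw_q_mem 3 d)⟩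
  · obtain ⟨d, hd⟩ := D.u_m4
    exact ⟨_, hd, H.cn_A D (H.pw_q_mem 4 d), hA _ (H.pw_q_mem 4 d)⟩

omit H in
theorem conj_c (g a b : G) : g * (a * b * a⁻¹ * b⁻¹) * g⁻¹ =
    (g * a * g⁻¹) * (g * b * g⁻¹) * (g * a * g⁻¹)⁻¹ * (g * b * g⁻¹)⁻¹ := by group

theorem c_mem (D : MD t z x s u q A B N e m mz a0) {i j : ZMod 5} (hij : i ≠ j) :
    m i * m j * (m i)⁻¹ * (m j)⁻¹ ∈ A := H.comm_mem (pt_q i) (pt_q j) (H.q_ne hij) (D.hm i) (D.hm j)

theorem c_u (D : MD t z x s u q A B N e m mz a0) (i j : ZMod 5) :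
    u * (m i * m j * (m i)⁻¹ * (m j)⁻¹) * u⁻¹ = m i * m j * (m i)⁻¹ * (m j)⁻¹ := by
  obtain ⟨r, hr, cr, cr'⟩ := H.u_all D i
  obtain ⟨r', hr', dr, dr'⟩ := H.u_all D j
  rw [conj_c, hr, hr']
  exact comm_r (cr.1 j) (dr.1 i) (cr' r' dr)

omit H in
theorem c_x (D : MD t z x s u q A B N e m mz a0) (i j : ZMod 5) :
    x * (m i * m j * (m i)⁻¹ * (m j)⁻¹) * x⁻¹ = m (i + 1) * m (j + 1) * (m (i + 1))⁻¹ * (m (j + 1))⁻¹ := by
  rw [conj_c, D.x_m, D.x_m]

theorem c_s (D : MD t z x s u q A B N e m mz a0) (i j : ZMod 5) :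
    s * (m i * m j * (m i)⁻¹ * (m j)⁻¹) * s⁻¹ =
      m (2 * i) * m (2 * j) * (m (2 * i))⁻¹ * (m (2 * j))⁻¹ := by
  obtain ⟨d, hd⟩ := D.s_m
  rw [conj_c, hd, hd]
  exact comm_r ((H.cn_A D (H.pw_q_mem _ d)).1 _) ((H.cn_A D (H.pw_q_mem _ d)).1 _)
    (H.A_comm (H.pw_q_mem _ d) (H.pw_q_mem _ d))

theorem c_cases (D : MD t z x s u q A B N e m mz a0) {i j : ZMod 5} (hij : i ≠ j) :
    m i * m j * (m i)⁻¹ * (m j)⁻¹ = 1 ∨ m i * m j * (m i)⁻¹ * (m j)⁻¹ = z := by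
  apply H.fix_u (H.c_mem D hij) (H.c_u D i j)
  · rw [c_x D]; exact H.c_u D _ _
  · rw [c_x D, c_x D]; exact H.c_u D _ _
  · rw [c_x D, c_x D, c_x D]; exact H.c_u D _ _

theorem conj_one_z (g : G) (hg : g * z * g⁻¹ = z) {c : G} (hc : c = 1 ∨ c = z) : g * c * g⁻¹ = c := by
  rcases hc with rfl | rfl
  · group
  · exact hg

/-- **all commutators `[m_i, m_j]` are equal** -/
theorem exists_Z (D : MD t z x s u q A B N e m mz a0) : ∃ Z : G, (Z = 1 ∨ Z = z) ∧
    ∀ i j, i ≠ j → m i * m j = Z * (m j * m i) := by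
  obtain ⟨c, hc⟩ : ∃ c : ZMod 5 → ZMod 5 → G, c = fun i j => m i * m j * (m i)⁻¹ * (m j)⁻¹ := ⟨_, rfl⟩
  have hc' : ∀ i j, c i j = m i * m j * (m i)⁻¹ * (m j)⁻¹ := fun i j => by rw [hc]
  have cc : ∀ i j, i ≠ j → (c i j = 1 ∨ c i j = z) := fun i j h => by rw [hc']; exact H.c_cases D h
  have cx : ∀ i j, i ≠ j → c (i + 1) (j + 1) = c i j := by
    intro i j h
    rw [hc' (i + 1), ← c_x D, ← hc']
    exact H.conj_one_z x H.xz (cc i j h)
  have cs : ∀ i j, i ≠ j → c (2 * i) (2 * j) = c i j := by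
    intro i j h
    rw [hc' (2 * i), ← H.c_s D, ← hc']
    exact H.conj_one_z s H.sz (cc i j h)
  have cinv : ∀ i j, i ≠ j → c j i = c i j := by
    intro i j h
    have h1 : c j i = (c i j)⁻¹ := by rw [hc', hc']; group
    rw [h1]
    rcases cc i j h with h2 | h2
    · rw [h2, inv_one]
    · rw [h2, inv_eq_iff_mul_eq_one]; exact H.zz
  -- difference 1
  have a1 : c 1 2 = c 0 1 := cx 0 1 (by decide)
  have a2 : c 2 3 = c 1 2 := cx 1 2 (by decide)
  have a3 : c 3 4 = c 2 3 := cx 2 3 (by decide)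
  have a4 : c 4 0 = c 3 4 := cx 3 4 (by decide)
  -- difference 2
  have b0 : c 0 2 = c 0 1 := cs 0 1 (by decide)
  have b1 : c 1 3 = c 0 2 := cx 0 2 (by decide)
  have b2 : c 2 4 = c 1 3 := cx 1 3 (by decide)
  have b3 : c 3 0 = c 2 4 := cx 2 4 (by decide)
  have b4 : c 4 1 = c 3 0 := cx 3 0 (by decide)
  have all : ∀ i j, i ≠ j → c i j = c 0 1 := by
    intro i j h
    rcases five i with rfl | rfl | rfl | rfl | rfl <;> rcases five j with rfl | rfl | rfl | rfl | rfl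
    · exact absurd rfl h
    · rfl
    · exact b0
    · rw [cinv 3 0 (by decide), b3, b2, b1, b0]
    · rw [cinv 4 0 (by decide), a4, a3, a2, a1]
    · exact cinv 0 1 (by decide)
    · exact absurd rfl h
    · exact a1
    · rw [b1, b0]
    · rw [cinv 4 1 (by decide), b4, b3, b2, b1, b0]
    · rw [cinv 0 2 (by decide), b0]
    · rw [cinv 1 2 (by decide), a1]
    · exact absurd rfl h
    · rw [a2, a1]
    · rw [b2, b1, b0]
    · rw [b3, b2, b1, b0]
    · rw [cinv 1 3 (by decide), b1, b0]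
    · rw [cinv 2 3 (by decide), a2, a1]
    · exact absurd rfl h
    · rw [a3, a2, a1]
    · rw [a4, a3, a2, a1]
    · rw [b4, b3, b2, b1, b0]
    · rw [cinv 2 4 (by decide), b2, b1, b0]
    · rw [cinv 3 4 (by decide), a3, a2, a1]
    · exact absurd rfl h
  refine ⟨c 0 1, cc 0 1 (by decide), fun i j h => ?_⟩
  rw [← all i j h, hc']
  group

end Hyp

end Cfsg.Agent.OddHalf.D7Tits.ThetaHyp

end

-- merged: Cfsg.Agent.OddHalf.D7Tits.ThetaY
section

/-!
# ODD D7, `K` = Tits: `Θ` (helper927, text of helper903 #15617, section 2): `y = m_0 m_1 m_2 m_3 m_4 ∈ ⟨z⟩`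
-/

set_option autoImplicit false

namespace Cfsg.Agent.OddHalf.D7Tits.ThetaHyp

open Subgroup

variable {G : Type*} [Group G]

variable {t z x s u k : G} {q : ZMod 5 → G} {A B L : Subgroup G} {N : G → G → Prop}

/-- the product in normal form -/
def yy (m : ZMod 5 → G) : G := m 0 * (m 1 * (m 2 * (m 3 * m 4)))

/-- the square of `y` -/
theorem sq_aux {m Q : ZMod 5 → G} {Z : G} (hZ : ∀ i, Z * m i = m i * Z) (hZ2 : Z * Z = 1)
    (hc : ∀ i j, i ≠ j → m i * m j = Z * (m j * m i)) (hm : ∀ i, m i * m i = Q i) : yy m * yy m = Q 0 * (Q 1 * (Q 2 * (Q 3 * Q 4))) := by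
  have Zm : ∀ (i : ZMod 5) (g : G), Z * (m i * g) = m i * (Z * g) := by
    intro i g; rw [← mul_assoc, hZ, mul_assoc]
  have ZZ : ∀ g : G, Z * (Z * g) = g := by intro g; rw [← mul_assoc, hZ2, one_mul]
  have sw : ∀ i j : ZMod 5, i ≠ j → ∀ g : G, m i * (m j * g) = m j * (m i * (Z * g)) := by
    intro i j h g
    rw [← mul_assoc, hc i j h]
    rw [mul_assoc, mul_assoc, ← Zm i g, ← Zm j]
  have sw10 := sw 1 0 (by decide)
  have sw20 := sw 2 0 (by decide)
  have sw30 := sw 3 0 (by decide)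
  have sw40 := sw 4 0 (by decide)
  have sw21 := sw 2 1 (by decide)
  have sw31 := sw 3 1 (by decide)
  have sw41 := sw 4 1 (by decide)
  have sw32 := sw 3 2 (by decide)
  have sw42 := sw 4 2 (by decide)
  have sw43 := sw 4 3 (by decide)
  have mm : ∀ (i : ZMod 5) (g : G), m i * (m i * g) = Q i * g := by intro i g; rw [← mul_assoc, hm]
  have key : yy m * (yy m * 1) = Q 0 * (Q 1 * (Q 2 * (Q 3 * (Q 4 * 1)))) := by
    unfold yy
    simp only [mul_assoc]
    -- move the second `m 0`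
    rw [sw40, sw30, sw20, sw10]
    simp only [Zm, ZZ]
    rw [sw41, sw31, sw21]
    simp only [Zm, ZZ]
    rw [sw42, sw32]
    simp only [Zm, ZZ]
    rw [sw43]
    simp only [Zm, ZZ]
    rw [mm 0, mm 1, mm 2, mm 3, mm 4]
  rwa [mul_one, mul_one] at key

/-- the product in the order `0 2 4 1 3` -/
theorem ord_aux {m : ZMod 5 → G} {Z : G} (hZ : ∀ i, Z * m i = m i * Z) (hZ2 : Z * Z = 1)
    (hc : ∀ i j, i ≠ j → m i * m j = Z * (m j * m i)) :
    m 0 * (m 2 * (m 4 * (m 1 * m 3))) = yy m * Z := by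
  have Zm : ∀ (i : ZMod 5) (g : G), Z * (m i * g) = m i * (Z * g) := by
    intro i g; rw [← mul_assoc, hZ, mul_assoc]
  have ZZ : ∀ g : G, Z * (Z * g) = g := by intro g; rw [← mul_assoc, hZ2, one_mul]
  have sw : ∀ i j : ZMod 5, i ≠ j → ∀ g : G, m i * (m j * g) = m j * (m i * (Z * g)) := by
    intro i j h g
    rw [← mul_assoc, hc i j h]
    rw [mul_assoc, mul_assoc, ← Zm i g, ← Zm j]
  have sw21 := sw 2 1 (by decide)
  have sw41 := sw 4 1 (by decide)
  have sw43 := sw 4 3 (by decide)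
  have key : m 0 * (m 2 * (m 4 * (m 1 * (m 3 * 1)))) = yy m * (Z * 1) := by
    unfold yy
    simp only [mul_assoc]
    rw [sw41, sw21]
    simp only [Zm]
    rw [sw43]
    simp only [ZZ]
  rwa [mul_one, mul_one] at key

namespace Hyp

variable (H : Hyp t z x s u k q A B L N)
include H

variable {e : Bool} {m : ZMod 5 → G} {mz a0 : G}

theorem y_gam (D : MD t z x s u q A B N e m mz a0) : Gam t A (yy m) 1 := by
  have h1 := gam_mul (H.gm D 0) (gam_mul (H.gm D 1) (gam_mul (H.gm D 2) (gam_mul (H.gm D 3) (H.gm D 4))))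
  rwa [H.prod] at h1

theorem Z_mem {Z : G} (hZ : Z = 1 ∨ Z = z) : Z ∈ A := by
  rcases hZ with rfl | rfl
  · exact A.one_mem
  · exact H.z_mem

theorem y_mem (D : MD t z x s u q A B N e m mz a0) : yy m ∈ A := by
  obtain ⟨Z, hZ, hc⟩ := H.exists_Z D
  have hZA := H.Z_mem hZ
  have hsq : yy m * yy m = 1 := by
    rw [sq_aux (Q := fun i => pw (q i) e) (H.cn_A D hZA).1 (H.A_sq hZA) hc
      (fun i => H.M_sq (pt_q i) (D.hm i))]
    have h1 := H.prod
    cases e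
    · simp [pw]
    · simpa [pw] using h1
  rcases H.gam_ker (H.y_gam D) with h | h
  · exact H.B_one _ h hsq
  · exfalso
    have h1 := H.M_B pt_z D.hz _ h
    have h2 : mz * yy m = yy m * mz := by
      have st : ∀ a b, mz * a = a * mz → mz * b = b * mz → mz * (a * b) = a * b * mz := by
        intro a b ha hb
        rw [← mul_assoc, ha, mul_assoc, hb, mul_assoc]
      exact st _ _ (D.z_m 0) (st _ _ (D.z_m 1) (st _ _ (D.z_m 2) (st _ _ (D.z_m 3) (D.z_m 4))))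
    have h3 : mz * t * yy m = t * mz * yy m := by
      rw [mul_assoc mz, h1, mul_assoc t, ← h2, mul_assoc]
    have h4 : mz * t = t * mz := mul_right_cancel h3
    have h5 := (H.gz D).conj
    rw [h4, mul_inv_cancel_right] at h5
    have h6 : t * 1 = t * z := by rw [mul_one]; exact h5
    exact H.z_ne_one (mul_left_cancel h6).symm

/-- **`y ∈ ⟨z⟩`** -/
theorem y_cases (D : MD t z x s u q A B N e m mz a0) : yy m = 1 ∨ yy m = z := by
  apply H.fix_x (H.y_mem D)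
  have h1 : x * yy m * x⁻¹ = m 1 * (m 2 * (m 3 * (m 4 * m 0))) := by
    have e1 : x * yy m * x⁻¹ = (x * m 0 * x⁻¹) * ((x * m 1 * x⁻¹) * ((x * m 2 * x⁻¹) * ((x * m 3 * x⁻¹) *
        (x * m 4 * x⁻¹)))) := by unfold yy; group
    rw [e1, D.x_m, D.x_m, D.x_m, D.x_m, D.x_m]
    rfl
  have h2 : m 1 * (m 2 * (m 3 * (m 4 * m 0))) = (m 0)⁻¹ * yy m * m 0 := by unfold yy; group
  rw [h1, h2, mul_assoc, ← (H.gm D 0).cen _ (H.y_mem D), ← mul_assoc, inv_mul_cancel, one_mul]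

end Hyp

end Cfsg.Agent.OddHalf.D7Tits.ThetaHyp

end

-- merged: Cfsg.Agent.OddHalf.D7Tits.ThetaEnd
section

/-!
# ODD D7, `K` = Tits: `Θ` (helper927, text of helper903 #15617, section 2): 2.1 `e = 0`, 2.2 `Z = 1`, `[n_v, n_w] = 1`
-/

set_option autoImplicit false

namespace Cfsg.Agent.OddHalf.D7Tits.ThetaHyp

open Subgroup

variable {G : Type*} [Group G]

variable {t z x s u k : G} {q : ZMod 5 → G} {A B L : Subgroup G} {N : G → G → Prop}

namespace Hyp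

variable (H : Hyp t z x s u k q A B L N)
include H

variable {e : Bool} {m : ZMod 5 → G} {mz a0 : G}

omit H in
theorem pz_eq (e : Bool) : pw z e = el z q e false false false false false := by simp [el, pw]

omit H in
theorem pow_conj (n : ℕ) (g : G) : x ^ (n + 1) * g * (x ^ (n + 1))⁻¹ = x * (x ^ n * g * (x ^ n)⁻¹) * x⁻¹ := by
  rw [pow_succ']; group

omit H in
theorem pow_conj1 (g : G) : x ^ 1 * g * (x ^ 1)⁻¹ = x * g * x⁻¹ := by rw [pow_one]

omit H in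
theorem pq0_eq (d : Bool) : pw (q 0) d = el z q false d false false false false := by simp [el, pw]
omit H in
theorem pq2_eq (d : Bool) : pw (q 2) d = el z q false false false d false false := by simp [el, pw]
omit H in
theorem pq3_eq (d : Bool) : pw (q 3) d = el z q false false false false d false := by simp [el, pw]
omit H in
theorem pq4_eq (d : Bool) : pw (q 4) d = el z q false false false false false d := by simp [el, pw]
omit H in
theorem pzq1_eq (d : Bool) : pw (z * q 1) d = el z q d false d false false false := by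
  cases d <;> simp [el, pw]
omit H in
theorem pzq2_eq (d : Bool) : pw (z * q 2) d = el z q d false false d false false := by
  cases d <;> simp [el, pw]
omit H in
theorem pzq3_eq (d : Bool) : pw (z * q 3) d = el z q d false false false d false := by
  cases d <;> simp [el, pw]
omit H in
theorem pzq4_eq (d : Bool) : pw (z * q 4) d = el z q d false false false false d := by
  cases d <;> simp [el, pw]

/-- the shape of `a0` -/
theorem a0_shape (D : MD t z x s u q A B N e m mz a0) : ∃ α β γ : Bool, a0 = el z q α β γ false false γ := by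
  obtain ⟨a, c0, c1, c2, c3, c4, rfl⟩ := H.exists_el D.a0_mem
  obtain ⟨p, b, h⟩ := D.s_a0
  have h0 : pw z p * pw (q 0) b = el z q p b false false false false := by simp [el, pw]
  rw [H.s_el, h0, H.el_mul] at h
  have h1 := H.el_ne h
  clear h h0 D
  have h2 : (c1 = c2 ∧ c2 = c3 ∧ c3 = c4) ∨ (c1 = c4 ∧ c2 = c3 ∧ c1 = !c2) := by
    revert h1
    cases a <;> cases p <;> cases b <;> cases c0 <;> cases c1 <;> cases c2 <;> cases c3 <;> cases c4 <;> simp
  have flip : el z q a c0 c1 c2 c3 c4 = el z q a (!c0) (!c1) (!c2) (!c3) (!c4) := by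
    have h3 := H.el_mul a c0 c1 c2 c3 c4 false true true true true true
    rw [H.el_all, mul_one] at h3
    simpa using h3
  rcases h2 with ⟨rfl, rfl, rfl⟩ | ⟨rfl, rfl, rfl⟩
  · cases c1
    · exact ⟨a, c0, false, rfl⟩
    · exact ⟨a, !c0, false, by rw [flip]; rfl⟩
  · cases c2
    · exact ⟨a, c0, true, rfl⟩
    · exact ⟨a, !c0, true, by rw [flip]; rfl⟩

/-- `u² ∈ A` -/
theorem uu_aux (D : MD t z x s u q A B N e m mz a0) {i : ZMod 5} {a : G} (ha : a ∈ A)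
    (hi : u * m i * u⁻¹ = m i * mz * a) : pw z e * (a * (u * a * u⁻¹)) = 1 := by
  have hmz : u * mz * u⁻¹ = mz := by rw [← D.u_z]; group
  have h1 : u * (u * m i * u⁻¹) * u⁻¹ = m i := by
    have e1 : u * (u * m i * u⁻¹) * u⁻¹ = (u * u) * m i * (u * u)⁻¹ := by group
    rw [e1, ← (H.gm D i).cen _ H.uu]; group
  rw [hi] at h1
  have h2 : u * (m i * mz * a) * u⁻¹ = (u * m i * u⁻¹) * (u * mz * u⁻¹) * (u * a * u⁻¹) := by group
  rw [h2, hi, hmz] at h1
  have h3 : m i * mz * a * mz * (u * a * u⁻¹) = m i * (mz * mz * (a * (u * a * u⁻¹))) := by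
    have : a * mz = mz * a := ((H.gz D).cen a ha).symm
    calc m i * mz * a * mz * (u * a * u⁻¹) = m i * mz * (a * mz) * (u * a * u⁻¹) := by group
      _ = m i * (mz * mz * (a * (u * a * u⁻¹))) := by rw [this]; group
  rw [h3, H.M_sq pt_z D.hz] at h1
  have h4 : m i * (pw z e * (a * (u * a * u⁻¹))) = m i * 1 := by rw [mul_one]; exact h1
  exact mul_left_cancel h4

/-- `[u, x^n u x^{-n}] ∈ A` -/
theorem uc_aux (D : MD t z x s u q A B N e m mz a0) {n : ℕ} {i : ZMod 5} {d : Bool}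
    (hq : x ^ n * q 0 * (x ^ n)⁻¹ = q i) (hm : x ^ n * m 0 * (x ^ n)⁻¹ = m i)
    (hW : x ^ n * a0 * (x ^ n)⁻¹ ∈ A) (hd : u * m i * u⁻¹ = m i * pw (q i) d) :
    x ^ n * a0 * (x ^ n)⁻¹ * pw (z * q i) d = pw (q i) d * (u * (x ^ n * a0 * (x ^ n)⁻¹) * u⁻¹) := by
  obtain ⟨X, hX⟩ : ∃ X, X = x ^ n := ⟨_, rfl⟩
  obtain ⟨w, hw⟩ : ∃ w, w = X * a0 * X⁻¹ := ⟨_, rfl⟩
  obtain ⟨v, hv⟩ : ∃ v, v = X * u * X⁻¹ := ⟨_, rfl⟩
  have huc := H.uc n
  rw [← hX] at hq hm huc hW ⊢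
  rw [← hw] at hW ⊢
  rw [← hv] at huc
  have hXz : X * mz * X⁻¹ = mz := by
    have h1 : X * mz = mz * X := by
      rw [hX]; exact ((show Commute mz x from D.x_z).pow_right n).symm
    rw [h1]; group
  have hXzz : X * z * X⁻¹ = z := by
    have h0 : Commute x z := by
      show x * z = z * x
      rw [← mul_inv_eq_iff_eq_mul]; exact H.xz
    have h1 : X * z = z * X := by rw [hX]; exact h0.pow_left n
    rw [h1]; group
  -- `v m_i v⁻¹ = m_i mz w`
  have hvm : v * m i * v⁻¹ = m i * mz * w := by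
    have e1 : v * m i * v⁻¹ = X * (u * (X⁻¹ * m i * X) * u⁻¹) * X⁻¹ := by rw [hv]; group
    have e2 : X⁻¹ * m i * X = m 0 := by rw [← hm]; group
    have e3 : X * (m 0 * mz * a0) * X⁻¹ = (X * m 0 * X⁻¹) * (X * mz * X⁻¹) * (X * a0 * X⁻¹) := by group
    rw [e1, e2, D.u_m0, e3, hm, hXz, hw]
  have hvq : v * q i * v⁻¹ = z * q i := by
    have e1 : v * q i * v⁻¹ = X * (u * (X⁻¹ * q i * X) * u⁻¹) * X⁻¹ := by rw [hv]; group
    have e2 : X⁻¹ * q i * X = q 0 := by rw [← hq]; group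
    have e3 : X * (z * q 0) * X⁻¹ = (X * z * X⁻¹) * (X * q 0 * X⁻¹) := by group
    rw [e1, e2, H.uq0, e3, hq, hXzz]
  have humz : u * mz * u⁻¹ = mz := by rw [← D.u_z]; group
  -- the two sides
  have hL : (v * u) * m i * (v * u)⁻¹ = m i * (mz * (w * pw (z * q i) d)) := by
    have e1 : (v * u) * m i * (v * u)⁻¹ = v * (u * m i * u⁻¹) * v⁻¹ := by group
    have e2 : v * (m i * pw (q i) d) * v⁻¹ = (v * m i * v⁻¹) * (v * pw (q i) d * v⁻¹) := by group
    rw [e1, hd, e2, hvm, conj_pw, hvq]; group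
  have hR : (u * v) * m i * (u * v)⁻¹ = m i * (mz * (pw (q i) d * (u * w * u⁻¹))) := by
    have e1 : (u * v) * m i * (u * v)⁻¹ = u * (v * m i * v⁻¹) * u⁻¹ := by group
    have e2 : u * (m i * mz * w) * u⁻¹ = (u * m i * u⁻¹) * (u * mz * u⁻¹) * (u * w * u⁻¹) := by group
    have e3 : pw (q i) d * mz = mz * pw (q i) d := ((H.gz D).cen _ (H.pw_q_mem i d)).symm
    rw [e1, hvm, e2, hd, humz, mul_assoc (m i), e3]; group
  obtain ⟨c, hc⟩ : ∃ c, c = v * u * (u * v)⁻¹ := ⟨_, rfl⟩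
  rw [← hc] at huc
  have hvu : v * u = c * (u * v) := by rw [hc]; group
  have hLR : (v * u) * m i * (v * u)⁻¹ = (u * v) * m i * (u * v)⁻¹ := by
    have e1 : (v * u) * m i * (v * u)⁻¹ = c * ((u * v) * m i * (u * v)⁻¹) * c⁻¹ := by rw [hvu]; group
    have hRA : Cn A m mz (pw (q i) d * (u * w * u⁻¹)) :=
      H.cn_A D (A.mul_mem (H.pw_q_mem i d) (H.u_A hW))
    have e2 : c * ((u * v) * m i * (u * v)⁻¹) = ((u * v) * m i * (u * v)⁻¹) * c := by
      rw [hR]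
      have f1 : c * m i = m i * c := ((H.gm D i).cen c huc).symm
      have f2 : c * mz = mz * c := ((H.gz D).cen c huc).symm
      have f3 := (hRA.2.2 c huc).symm
      obtain ⟨b, hb⟩ : ∃ b, b = pw (q i) d * (u * w * u⁻¹) := ⟨_, rfl⟩
      rw [← hb] at f3 ⊢
      calc c * (m i * (mz * b)) = (c * m i) * (mz * b) := by rw [mul_assoc c]
        _ = m i * ((c * mz) * b) := by rw [f1]; simp only [mul_assoc]
        _ = m i * (mz * (c * b)) := by rw [f2]; simp only [mul_assoc]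
        _ = m i * (mz * b) * c := by rw [f3]; simp only [mul_assoc]
    rw [e1, e2, mul_inv_cancel_right]
  rw [hL, hR] at hLR
  exact mul_left_cancel (mul_left_cancel hLR)

/-- **2.1**: `e = 0` -/
theorem e_false (D : MD t z x s u q A B N e m mz a0) : e = false := by
  obtain ⟨α, β, γ, ha0⟩ := H.a0_shape D
  obtain ⟨d1, h1⟩ := D.u_m1
  obtain ⟨d2, h2⟩ := D.u_m2
  obtain ⟨d3, h3⟩ := D.u_m3
  obtain ⟨d4, h4⟩ := D.u_m4
  -- `i = 0`
  have k0 := H.uu_aux D D.a0_mem D.u_m0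
  rw [ha0, H.u_el, H.el_mul, pz_eq, H.el_mul] at k0
  have k0' := (H.el_eq_one k0).1
  -- `a1`
  have xa0 : x * a0 * x⁻¹ = el z q α γ β γ false false := by rw [ha0, H.x_el]
  have ha1 : x * a0 * x⁻¹ * pw (z * q 1) d1 = el z q (α ^^ d1) γ (β ^^ d1) γ false false := by
    rw [xa0, pzq1_eq, H.el_mul]; simp
  have k1 := H.uu_aux D (A.mul_mem (H.x_A D.a0_mem) (H.pzq_mem 1 d1)) h1
  rw [ha1, H.u_el, H.el_mul, pz_eq, H.el_mul] at k1
  have k1' := (H.el_eq_one k1).1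
  -- `i = 2, 3, 4`
  have xq : ∀ i, x * q i * x⁻¹ = q (i + 1) := H.xq
  have x2q : x ^ 2 * q 0 * (x ^ 2)⁻¹ = q 2 := by
    have : x ^ 2 * q 0 * (x ^ 2)⁻¹ = x * (x * q 0 * x⁻¹) * x⁻¹ := by
      rw [pow_conj, pow_conj1]
    rw [this, xq, xq]; rfl
  have x3q : x ^ 3 * q 0 * (x ^ 3)⁻¹ = q 3 := by
    have : x ^ 3 * q 0 * (x ^ 3)⁻¹ = x * (x * (x * q 0 * x⁻¹) * x⁻¹) * x⁻¹ := by
      rw [pow_conj, pow_conj, pow_conj1]
    rw [this, xq, xq, xq]; rfl
  have x4q : x ^ 4 * q 0 * (x ^ 4)⁻¹ = q 4 := by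
    have : x ^ 4 * q 0 * (x ^ 4)⁻¹ = x * (x * (x * (x * q 0 * x⁻¹) * x⁻¹) * x⁻¹) * x⁻¹ := by
      rw [pow_conj, pow_conj, pow_conj, pow_conj1]
    rw [this, xq, xq, xq, xq]; rfl
  have x2m : x ^ 2 * m 0 * (x ^ 2)⁻¹ = m 2 := by
    have : x ^ 2 * m 0 * (x ^ 2)⁻¹ = x * (x * m 0 * x⁻¹) * x⁻¹ := by
      rw [pow_conj, pow_conj1]
    rw [this, D.x_m, D.x_m]; rfl
  have x3m : x ^ 3 * m 0 * (x ^ 3)⁻¹ = m 3 := by
    have : x ^ 3 * m 0 * (x ^ 3)⁻¹ = x * (x * (x * m 0 * x⁻¹) * x⁻¹) * x⁻¹ := by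
      rw [pow_conj, pow_conj, pow_conj1]
    rw [this, D.x_m, D.x_m, D.x_m]; rfl
  have x4m : x ^ 4 * m 0 * (x ^ 4)⁻¹ = m 4 := by
    have : x ^ 4 * m 0 * (x ^ 4)⁻¹ = x * (x * (x * (x * m 0 * x⁻¹) * x⁻¹) * x⁻¹) * x⁻¹ := by
      rw [pow_conj, pow_conj, pow_conj, pow_conj1]
    rw [this, D.x_m, D.x_m, D.x_m, D.x_m]; rfl
  have x2a : x ^ 2 * a0 * (x ^ 2)⁻¹ = el z q α false γ β γ false := by
    have : x ^ 2 * a0 * (x ^ 2)⁻¹ = x * (x * a0 * x⁻¹) * x⁻¹ := by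
      rw [pow_conj, pow_conj1]
    rw [this, xa0, H.x_el]
  have x3a : x ^ 3 * a0 * (x ^ 3)⁻¹ = el z q α false false γ β γ := by
    have : x ^ 3 * a0 * (x ^ 3)⁻¹ = x * (x * (x * a0 * x⁻¹) * x⁻¹) * x⁻¹ := by
      rw [pow_conj, pow_conj, pow_conj1]
    rw [this, xa0, H.x_el, H.x_el]
  have x4a : x ^ 4 * a0 * (x ^ 4)⁻¹ = el z q α γ false false γ β := by
    have : x ^ 4 * a0 * (x ^ 4)⁻¹ = x * (x * (x * (x * a0 * x⁻¹) * x⁻¹) * x⁻¹) * x⁻¹ := by
      rw [pow_conj, pow_conj, pow_conj, pow_conj1]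
    rw [this, xa0, H.x_el, H.x_el, H.x_el]
  have k2 := H.uc_aux D x2q x2m (by rw [x2a]; exact H.el_mem _ _ _ _ _ _) h2
  rw [x2a, H.u_el, pzq2_eq, pq2_eq, H.el_mul, H.el_mul] at k2
  have k2' := (H.el_ne k2).1
  have k3 := H.uc_aux D x3q x3m (by rw [x3a]; exact H.el_mem _ _ _ _ _ _) h3
  rw [x3a, H.u_el, pzq3_eq, pq3_eq, H.el_mul, H.el_mul] at k3
  have k3' := (H.el_ne k3).1
  have k4 := H.uc_aux D x4q x4m (by rw [x4a]; exact H.el_mem _ _ _ _ _ _) h4
  rw [x4a, H.u_el, pzq4_eq, pq4_eq, H.el_mul, H.el_mul] at k4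
  have k4' := (H.el_ne k4).1
  -- `u y u⁻¹ = y`
  have huy : u * yy m * u⁻¹ = yy m := H.conj_one_z u H.uz (H.y_cases D)
  have hb2 : u * m 2 * u⁻¹ = m 2 * el z q false false false d2 false false := by rw [h2, pq2_eq]
  have hb3 : u * m 3 * u⁻¹ = m 3 * el z q false false false false d3 false := by rw [h3, pq3_eq]
  have hb4 : u * m 4 * u⁻¹ = m 4 * el z q false false false false false d4 := by rw [h4, pq4_eq]
  have hb1 : u * m 1 * u⁻¹ = m 1 * mz * el z q (α ^^ d1) γ (β ^^ d1) γ false false := by rw [h1, ha1]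
  have hb0 : u * m 0 * u⁻¹ = m 0 * mz * el z q α β γ false false γ := by rw [D.u_m0, ha0]
  have key : ∀ b0 b1 b2 b3 b4 : G, b0 ∈ A → b1 ∈ A → b2 ∈ A → b3 ∈ A → b4 ∈ A →
      (m 0 * mz * b0) * ((m 1 * mz * b1) * ((m 2 * b2) * ((m 3 * b3) * (m 4 * b4)))) =
        yy m * (mz * mz * (b0 * (b1 * (b2 * (b3 * b4))))) := by
    intro b0 b1 b2 b3 b4 g0 g1 g2 g3 g4
    have cA : ∀ b ∈ A, ∀ i (g : G), b * (m i * g) = m i * (b * g) := by
      intro b hb i g
      rw [← mul_assoc, ← (H.gm D i).cen b hb, mul_assoc]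
    have cAz : ∀ b ∈ A, ∀ (g : G), b * (mz * g) = mz * (b * g) := by
      intro b hb g
      rw [← mul_assoc, ← (H.gz D).cen b hb, mul_assoc]
    have cz : ∀ i (g : G), mz * (m i * g) = m i * (mz * g) := by
      intro i g
      rw [← mul_assoc, D.z_m i, mul_assoc]
    unfold yy
    simp only [mul_assoc]
    simp only [cA b0 g0, cA b1 g1, cA b2 g2, cA b3 g3, cAz b0 g0, cAz b1 g1, cz]
  have hall : u * yy m * u⁻¹ = (u * m 0 * u⁻¹) * ((u * m 1 * u⁻¹) * ((u * m 2 * u⁻¹) * ((u * m 3 * u⁻¹) *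
      (u * m 4 * u⁻¹)))) := by unfold yy; group
  rw [hall, hb0, hb1, hb2, hb3, hb4, key _ _ _ _ _ (H.el_mem _ _ _ _ _ _) (H.el_mem _ _ _ _ _ _)
    (H.el_mem _ _ _ _ _ _) (H.el_mem _ _ _ _ _ _) (H.el_mem _ _ _ _ _ _), H.M_sq pt_z D.hz, pz_eq, H.el_mul,
    H.el_mul, H.el_mul, H.el_mul, H.el_mul] at huy
  have h5 : yy m * el z q (e ^^ (α ^^ ((α ^^ d1) ^^ (false ^^ (false ^^ false)))))
      (false ^^ (β ^^ (γ ^^ (false ^^ (false ^^ false))))) (false ^^ (γ ^^ ((β ^^ d1) ^^ (false ^^ (false ^^ false)))))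
      (false ^^ (false ^^ (γ ^^ (d2 ^^ (false ^^ false))))) (false ^^ (false ^^ (false ^^ (false ^^ (d3 ^^ false)))))
      (false ^^ (γ ^^ (false ^^ (false ^^ (false ^^ d4))))) = yy m * 1 := by rw [mul_one]; exact huy
  have h6 := H.el_eq_one (mul_left_cancel h5)
  clear h5 huy hall key hb0 hb1 hb2 hb3 hb4 k0 k1 k2 k3 k4 x2a x3a x4a x2m x3m x4m x2q x3q x4q xq ha1 xa0 h1 h2 h3 h4
  clear ha0
  revert k0' k1' k2' k3' k4' h6
  cases e
  · intros; rfl
  · cases α <;> cases β <;> cases γ <;> cases d1 <;> cases d2 <;> cases d3 <;> cases d4 <;> simp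

/-- **2.2**: `Z = 1` -/
theorem comm_all (D : MD t z x s u q A B N e m mz a0) : ∀ i j, m i * m j = m j * m i := by
  obtain ⟨Z, hZ, hc⟩ := H.exists_Z D
  have hZA := H.Z_mem hZ
  obtain ⟨d, hd⟩ := D.s_m
  have hsy : s * yy m * s⁻¹ = yy m := H.conj_one_z s H.sz (H.y_cases D)
  have hall : s * yy m * s⁻¹ = (s * m 0 * s⁻¹) * ((s * m 1 * s⁻¹) * ((s * m 2 * s⁻¹) * ((s * m 3 * s⁻¹) *
      (s * m 4 * s⁻¹)))) := by unfold yy; group
  have e0 : 2 * (0 : ZMod 5) = 0 := rfl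
  have e1 : 2 * (1 : ZMod 5) = 2 := rfl
  have e2 : 2 * (2 : ZMod 5) = 4 := rfl
  have e3 : 2 * (3 : ZMod 5) = 1 := rfl
  have e4 : 2 * (4 : ZMod 5) = 3 := rfl
  rw [hall, hd, hd, hd, hd, hd, e0, e1, e2, e3, e4] at hsy
  have cA : ∀ i' i (g : G), pw (q i') d * (m i * g) = m i * (pw (q i') d * g) := by
    intro i' i g
    rw [← mul_assoc, ← (H.gm D i).cen _ (H.pw_q_mem i' d), mul_assoc]
  have hq : pw (q 0) d * (pw (q 2) d * (pw (q 4) d * (pw (q 1) d * pw (q 3) d))) = 1 := by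
    have h1 : pw (q 0) d * (pw (q 2) d * (pw (q 4) d * (pw (q 1) d * pw (q 3) d))) =
        el z q false d false d false d * el z q false false d false d false := by
      simp only [el, pw, cond_false, one_mul, mul_one, mul_assoc]
    rw [h1, H.el_mul]
    cases d
    · simp only [Bool.xor_false]; exact el_one
    · simp only [Bool.xor_false, Bool.false_xor]; exact H.el_all
  have h7 : m 0 * pw (q 0) d * (m 2 * pw (q 2) d * (m 4 * pw (q 4) d * (m 1 * pw (q 1) d * (m 3 * pw (q 3) d)))) =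
      m 0 * (m 2 * (m 4 * (m 1 * m 3))) *
        (pw (q 0) d * (pw (q 2) d * (pw (q 4) d * (pw (q 1) d * pw (q 3) d)))) := by
    simp only [mul_assoc]
    simp only [cA]
  rw [h7, hq, mul_one, ord_aux (H.cn_A D hZA).1 (H.A_sq hZA) hc] at hsy
  have hZ1 : Z = 1 := by
    have : yy m * Z = yy m * 1 := by rw [mul_one]; exact hsy
    exact mul_left_cancel this
  intro i j
  by_cases hij : i = j
  · rw [hij]
  · rw [hc i j hij, hZ1, one_mul]

end Hyp

end Cfsg.Agent.OddHalf.D7Tits.ThetaHyp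

end

-- merged: Cfsg.Agent.OddHalf.D7Tits.ThetaNN
section

/-!
# ODD D7, `K` = Tits: `Θ` (helper927, text of helper903 #15617, section 2): all `n_v`, `n_w` commute
-/

set_option autoImplicit false

namespace Cfsg.Agent.OddHalf.D7Tits.ThetaHyp

open Subgroup

variable {G : Type*} [Group G]

variable {t z x s u k : G} {q : ZMod 5 → G} {A B L : Subgroup G} {N : G → G → Prop}

namespace Hyp

variable (H : Hyp t z x s u k q A B L N)
include H

/-- **Section 2**: the involutions `n_v` (`v` a point of `A`) commute with each other. -/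
theorem comm_of {v w y y' : G} (hv : IsPt z q v) (hw : IsPt z q w) (hy : N v y) (hy' : N w y') : y * y' = y' * y := by
  obtain ⟨e, m, mz, a0, D⟩ := H.exists_MD
  obtain rfl := H.e_false D
  have hc := H.comm_all D
  have toM : ∀ {v y : G}, N v y → M t N false v y := fun {v y} h => ⟨y, h, by rw [pw_false, mul_one]⟩
  -- the group generated by all `m`
  obtain ⟨W, hW⟩ : ∃ W : Subgroup G, W = closure ((A : Set G) ∪ ({mz} ∪ Set.range m)) := ⟨_, rfl⟩
  have hAW : A ≤ W := by rw [hW]; exact fun a ha => subset_closure (Or.inl ha)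
  have hzW : mz ∈ W := by rw [hW]; exact subset_closure (Or.inr (Or.inl rfl))
  have hmW : ∀ i, m i ∈ W := fun i => by rw [hW]; exact subset_closure (Or.inr (Or.inr ⟨i, rfl⟩))
  have gz := H.gz D
  have gm := H.gm D
  have hgen : ∀ a ∈ (A : Set G) ∪ ({mz} ∪ Set.range m), ∀ b ∈ (A : Set G) ∪ ({mz} ∪ Set.range m), a * b = b * a := by
    rintro a (ha | rfl | ⟨i, rfl⟩) b (hb | rfl | ⟨j, rfl⟩)
    · exact H.A_comm ha hb
    · exact (gz.cen a ha).symm
    · exact ((gm j).cen a ha).symm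
    · exact gz.cen b hb
    · rfl
    · exact D.z_m j
    · exact (gm i).cen b hb
    · exact (D.z_m i).symm
    · exact hc i j
  have hcomm : ∀ a ∈ W, ∀ b ∈ W, a * b = b * a := by
    have h1 : ∀ a ∈ (A : Set G) ∪ ({mz} ∪ Set.range m), ∀ b ∈ W, a * b = b * a := by
      intro a ha b hb
      have h2 : W ≤ Subgroup.centralizer {a} := by
        rw [hW, Subgroup.closure_le]
        intro b hb
        exact Subgroup.mem_centralizer_singleton_iff.2 (hgen b hb a ha)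
      exact (Subgroup.mem_centralizer_singleton_iff.1 (h2 hb)).symm
    intro a ha b hb
    have h2 : W ≤ Subgroup.centralizer {b} := by
      nth_rewrite 1 [hW]
      rw [Subgroup.closure_le]
      intro a ha
      exact Subgroup.mem_centralizer_singleton_iff.2 (h1 a ha b hb)
    exact Subgroup.mem_centralizer_singleton_iff.1 (h2 ha)
  have pA : ∀ {v : G}, IsPt z q v → ∀ d, pw v d ∈ A := by
    intro v hv d
    cases d
    · exact A.one_mem
    · exact H.pt_mem hv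
  -- the third points
  have h0 : ∃ a ∈ A, M t N false (z * q 0) (m 0 * mz * a) := by
    refine ⟨a0, D.a0_mem, ?_⟩
    have h1 := H.M_conj H.u_mem (D.hm 0)
    rwa [H.uq0, D.u_m0] at h1
  have hx : x * mz * x⁻¹ = mz := by rw [← D.x_z]; group
  have step : ∀ i, (∃ a ∈ A, M t N false (z * q i) (m i * mz * a)) →
      ∃ a ∈ A, M t N false (z * q (i + 1)) (m (i + 1) * mz * a) := by
    rintro i ⟨a, ha, h⟩
    refine ⟨x * a * x⁻¹, H.x_A ha, ?_⟩
    have h1 := H.M_conj H.x_mem h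
    have e1 : x * (z * q i) * x⁻¹ = z * q (i + 1) := by
      have : x * (z * q i) * x⁻¹ = (x * z * x⁻¹) * (x * q i * x⁻¹) := by group
      rw [this, H.xz, H.xq]
    have e2 : x * (m i * mz * a) * x⁻¹ = (x * m i * x⁻¹) * (x * mz * x⁻¹) * (x * a * x⁻¹) := by group
    rwa [e1, e2, D.x_m, hx] at h1
  have h1 := step 0 h0
  have h2 := step 1 h1
  have h3 := step 2 h2
  have h4 := step 3 h3
  have hzq : ∀ i, ∃ a ∈ A, M t N false (z * q i) (m i * mz * a) := by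
    intro i
    rcases five i with rfl | rfl | rfl | rfl | rfl
    exacts [h0, h1, h2, h3, h4]
  have key : ∀ {v y : G}, IsPt z q v → N v y → y ∈ W := by
    intro v y hv hy
    rcases hv with rfl | ⟨i, rfl | rfl⟩
    · obtain ⟨d, rfl⟩ := H.M_uniq pt_z D.hz (toM hy)
      exact W.mul_mem hzW (hAW (pA pt_z d))
    · obtain ⟨d, rfl⟩ := H.M_uniq (pt_q i) (D.hm i) (toM hy)
      exact W.mul_mem (hmW i) (hAW (pA (pt_q i) d))
    · obtain ⟨a, ha, h⟩ := hzq i
      obtain ⟨d, rfl⟩ := H.M_uniq (pt_zq i) h (toM hy)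
      exact W.mul_mem (W.mul_mem (W.mul_mem (hmW i) hzW) (hAW ha)) (hAW (pA (pt_zq i) d))
  exact hcomm y (key hv hy) y' (key hw hy')

end Hyp

end Cfsg.Agent.OddHalf.D7Tits.ThetaHyp

end
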