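import Cfsg.Agent.OddHalf.D7Tits.WDefs
import Cfsg.Agent.OddHalf.D7Tits.SOne
import Cfsg.Agent.OddHalf.D7Out.Claim

-- merged: Cfsg.Agent.OddHalf.D7Tits.WFacts
section

/-!
# D7, K = Tits, type W (helper868): consequences of the K-facts

`j_comm`, `q_xpow`, `q_spow`, `q_eq`, `mem_U_of`, `mem_Mm_of`, `conj_M`, `not_three_dvd`.
-/

set_option autoImplicit false
set_option linter.unusedSectionVars false
set_option linter.unusedVariables false

namespace Cfsg.Agent.OddHalf.D7Tits.WFacts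

open Cfsg.Agent.OddHalf.D7Tits.Defs Cfsg.Agent.OddHalf.D7Tits.WDefs Cfsg.Agent.OddHalf.D7Tits.SOne

universe u v

variable {Y : Type u} [Group Y] {K : KT Y} (W : KTW K)

include W in
theorem j_ne : K.j ≠ 1 := by
  intro h
  have := W.jj
  rw [h, mul_one] at this
  exact K.z1 this.symm

include W in
theorem tau_eq (y : Y) : K.τ y = K.j * y * K.j⁻¹ := (K.j_or.resolve_left (j_ne W)).2 y

include W in
theorem j_comm {a : Y} (ha : a ∈ K.A) : K.j * a = a * K.j := by
  have h := tau_eq W a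
  rw [K.τA a ha] at h
  calc K.j * a = (K.j * a * K.j⁻¹) * K.j := by group
    _ = a * K.j := by rw [← h]

include W in
theorem j_s : K.j * K.s = K.s * K.j := by
  have h := tau_eq W K.s
  rw [K.τs] at h
  calc K.j * K.s = (K.j * K.s * K.j⁻¹) * K.j := by group
    _ = K.s * K.j := by rw [← h]

include W in
theorem j_x : K.j * K.x = K.x * K.j := by
  have h := tau_eq W K.x
  rw [K.τx] at h
  calc K.j * K.x = (K.j * K.x * K.j⁻¹) * K.j := by group
    _ = K.x * K.j := by rw [← h]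

theorem z_inv : K.z⁻¹ = K.z := inv_eq_of_mul_eq_one_left K.zz

theorem q_sq (n : ZMod 5) : K.q n * K.q n = 1 := K.sq_A _ (K.q_A n)

theorem q_z (n : ZMod 5) : K.q n * K.z = K.z * K.q n := a_comm K (K.q_A n) K.z_A

theorem q_inv (n : ZMod 5) : (K.q n)⁻¹ = K.q n := a_inv K (K.q_A n)

theorem q_xpow (c : ℕ) (n : ZMod 5) : (K.x ^ c)⁻¹ * K.q n * K.x ^ c = K.q (n + c) := by
  induction c with
  | zero => simp
  | succ c ih =>
    calc (K.x ^ (c + 1))⁻¹ * K.q n * K.x ^ (c + 1) = K.x⁻¹ * ((K.x ^ c)⁻¹ * K.q n * K.x ^ c) * K.x := by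
          rw [pow_succ]; group
      _ = K.q (n + c + 1) := by rw [ih, K.q_x]
      _ = K.q (n + (c + 1 : ℕ)) := by
        congr 1
        push_cast
        ring

theorem q_spow (a : ℕ) (n : ZMod 5) : (K.s ^ a)⁻¹ * K.q n * K.s ^ a = K.q (2 ^ a * n) := by
  induction a with
  | zero => simp
  | succ a ih =>
    calc (K.s ^ (a + 1))⁻¹ * K.q n * K.s ^ (a + 1) = K.s⁻¹ * ((K.s ^ a)⁻¹ * K.q n * K.s ^ a) * K.s := by
          rw [pow_succ]; group
      _ = K.q (2 * (2 ^ a * n)) := by rw [ih, K.q_s]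
      _ = K.q (2 ^ (a + 1) * n) := by
        congr 1
        ring

include W in
theorem q_jpow (b : ℕ) (n : ZMod 5) : (K.j ^ b)⁻¹ * K.q n * K.j ^ b = K.q n := by
  have h : Commute (K.j ^ b) (K.q n) := (show Commute K.j (K.q n) from j_comm W (K.q_A n)).pow_left b
  rw [mul_assoc, ← h.eq, inv_mul_cancel_left]

theorem qz_ne (n : ZMod 5) : K.q n * K.z ≠ K.q n := by
  intro h
  exact K.z1 (by simpa using h)

/-- `q n ∈ {q 0, q 0 * z}` only for `n = 0` -/
theorem q_eq {n : ZMod 5} (h : K.q n = K.q 0 ∨ K.q n = K.q 0 * K.z) : n = 0 := by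
  have hrz : K.r⁻¹ * K.z * K.r = K.z := by
    have := Pz K (K.E_le_P (r_E K))
    calc K.r⁻¹ * K.z * K.r = K.r⁻¹ * (K.z * K.r) := by group
      _ = K.r⁻¹ * (K.r * K.z) := by rw [this]
      _ = K.z := by group
  -- `q n` fixed by `r`: impossible
  have key : K.r⁻¹ * K.q n * K.r = K.q n → False := by
    intro h1
    rcases h with h | h
    · rw [h, K.r0] at h1
      exact qz_ne 0 h1
    · rw [h] at h1
      have h2 : K.r⁻¹ * (K.q 0 * K.z) * K.r = (K.r⁻¹ * K.q 0 * K.r) * (K.r⁻¹ * K.z * K.r) := by group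
      rw [h2, K.r0, hrz] at h1
      exact qz_ne 0 (mul_right_cancel h1)
  have h5 : ∀ m : ZMod 5, m = 0 ∨ m = 1 ∨ m = 2 ∨ m = 3 ∨ m = 4 := by decide
  rcases h5 n with rfl | rfl | rfl | rfl | rfl
  · rfl
  · exfalso
    -- conjugate by `x`
    have hx : ∀ m, K.x⁻¹ * (K.q m * K.z) * K.x = K.q (m + 1) * K.z := by
      intro m
      have h1 := z_x K
      calc K.x⁻¹ * (K.q m * K.z) * K.x = K.x⁻¹ * K.q m * (K.z * K.x) := by group
        _ = (K.x⁻¹ * K.q m * K.x) * K.z := by rw [← h1]; group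
        _ = _ := by rw [K.q_x]
    have h2 : K.q 2 = K.q 0 ∨ K.q 2 = K.q 0 * K.z := by
      have e : (1 : ZMod 5) + 1 = 2 := by decide
      rcases h with h | h
      · have h3 : K.x⁻¹ * K.q 1 * K.x = K.x⁻¹ * K.q 0 * K.x := by rw [h]
        rw [K.q_x, K.q_x, e, zero_add] at h3
        rw [h3]
        left
        exact h
      · have h3 : K.x⁻¹ * K.q 1 * K.x = K.x⁻¹ * (K.q 0 * K.z) * K.x := by rw [h]
        rw [K.q_x, hx, e, zero_add] at h3
        rw [h3, h]
        left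
        rw [mul_assoc, K.zz, mul_one]
    have h3 : K.r⁻¹ * K.q 2 * K.r = K.q 2 := K.r2
    rcases h2 with h | h
    · rw [h, K.r0] at h3
      exact qz_ne 0 h3
    · rw [h] at h3
      have h4 : K.r⁻¹ * (K.q 0 * K.z) * K.r = (K.r⁻¹ * K.q 0 * K.r) * (K.r⁻¹ * K.z * K.r) := by group
      rw [h4, K.r0, hrz] at h3
      exact qz_ne 0 (mul_right_cancel h3)
  · exact (key K.r2).elim
  · exact (key K.r3).elim
  · exact (key K.r4).elim

/-- conjugation of `z`, `q n z` by an element of `P` -/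
theorem conj_qz {p : Y} (hp : p ∈ K.P) (n : ZMod 5) :
    p⁻¹ * (K.q n * K.z) * p = (p⁻¹ * K.q n * p) * K.z := by
  have h := Pz K hp
  calc p⁻¹ * (K.q n * K.z) * p = p⁻¹ * K.q n * (K.z * p) := by group
    _ = _ := by rw [← h]; group

include W in
/-- `p⁻¹ q n p ∈ {q m, q m z}` -/
theorem conj_q {p : Y} (hp : p ∈ K.P) (n : ZMod 5) :
    ∃ u ∈ K.Q, ∃ c a b : ℕ, p = u * K.x ^ c * K.s ^ a * K.j ^ b ∧
      (p⁻¹ * K.q n * p = K.q (2 ^ a * (n + c)) ∨ p⁻¹ * K.q n * p = K.q (2 ^ a * (n + c)) * K.z) := by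
  obtain ⟨e, he, a, b, hp'⟩ := K.P_cases p hp
  obtain ⟨u, hu, c, rfl⟩ := K.E_cases e he
  refine ⟨u, hu, c, a, b, hp', ?_⟩
  have hxP : K.x ^ c ∈ K.P := pow_mem (x_P K) c
  have hsP : K.s ^ a ∈ K.P := pow_mem (s_P K) a
  have hjP : K.j ^ b ∈ K.P := pow_mem (j_P K) b
  have e1 : p⁻¹ * K.q n * p = (K.j ^ b)⁻¹ * ((K.s ^ a)⁻¹ * ((K.x ^ c)⁻¹ * (u⁻¹ * K.q n * u) * K.x ^ c) * K.s ^ a) *
      K.j ^ b := by
    rw [hp']; group
  rw [e1]
  rcases K.q_Q u hu n with h | h
  · left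
    rw [h, q_xpow, q_spow, q_jpow W]
  · right
    rw [h, conj_qz hxP, q_xpow, conj_qz hsP, q_spow, conj_qz hjP, q_jpow W]

include W in
/-- the stabiliser of `{q 0, q 0 z}` in `P` is `U` -/
theorem mem_U_of {p : Y} (hp : p ∈ K.P) (h : p⁻¹ * K.q 0 * p = K.q 0 ∨ p⁻¹ * K.q 0 * p = K.q 0 * K.z) :
    p ∈ K.U := by
  obtain ⟨u, hu, c, a, b, hp', h1⟩ := conj_q W hp 0
  rw [zero_add] at h1
  have h2 : K.q (2 ^ a * (c : ZMod 5)) = K.q 0 ∨ K.q (2 ^ a * (c : ZMod 5)) = K.q 0 * K.z := by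
    have hzz : ∀ y : Y, y * K.z * K.z = y := fun y => by rw [mul_assoc, K.zz, mul_one]
    rcases h1 with h1 | h1 <;> rw [h1] at h
    · exact h
    · rcases h with h | h
      · right
        rw [← h, hzz]
      · left
        exact mul_right_cancel h
  have h3 := q_eq h2
  have h4 : (c : ZMod 5) = 0 := by
    have h5 : IsUnit ((2 : ZMod 5) ^ a) := by
      apply IsUnit.pow
      exact (ZMod.isUnit_iff_coprime 2 5).2 (by norm_num)
    exact (h5.mul_right_eq_zero).1 h3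
  have h5 : 5 ∣ c := (ZMod.natCast_eq_zero_iff c 5).1 h4
  obtain ⟨d, rfl⟩ := h5
  have h6 : K.x ^ (5 * d) = 1 := by rw [pow_mul, K.x5, one_pow]
  rw [hp', h6, mul_one]
  exact mul_mem (mul_mem (K.Q_le_U hu) (pow_mem K.s_U a)) (pow_mem K.j_U b)

include W in
theorem U_q {u : Y} (hu : u ∈ K.U) : u⁻¹ * K.q 0 * u = K.q 0 ∨ u⁻¹ * K.q 0 * u = K.q 0 * K.z := by
  obtain ⟨v, hv, a, b, hu'⟩ := K.U_cases u hu
  have hsP : K.s ^ a ∈ K.P := pow_mem (s_P K) a
  have hjP : K.j ^ b ∈ K.P := pow_mem (j_P K) b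
  have e1 : u⁻¹ * K.q 0 * u = (K.j ^ b)⁻¹ * ((K.s ^ a)⁻¹ * (v⁻¹ * K.q 0 * v) * K.s ^ a) * K.j ^ b := by
    rw [hu']; group
  rw [e1]
  rcases K.q_Q v hv 0 with h | h
  · left
    rw [h, q_spow, q_jpow W, mul_zero]
  · right
    rw [h, conj_qz hsP, q_spow, conj_qz hjP, q_jpow W, mul_zero]

include W in
/-- `C_Y(⟨z, q 0⟩) = M` -/
theorem mem_Mm_iff {m : Y} : m ∈ Mm K ↔ m * K.z = K.z * m ∧ m * K.q 0 = K.q 0 * m := by
  rw [mem_Mm]
  constructor
  · rintro ⟨h1, h2⟩
    exact ⟨Pz K (K.U_le_P h1), h2⟩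
  · rintro ⟨h1, h2⟩
    refine ⟨mem_U_of W ((K.mem_P m).2 h1) (Or.inl ?_), h2⟩
    rw [mul_assoc, ← h2, inv_mul_cancel_left]

include W in
theorem k_z : W.k * K.z * W.k⁻¹ = K.z * K.q 0 := by
  have h1 := W.kz
  have h2 := W.kq
  have h3 : W.k⁻¹ * (K.z * K.q 0) * W.k = K.z := by
    calc W.k⁻¹ * (K.z * K.q 0) * W.k = (W.k⁻¹ * K.z * W.k) * (W.k⁻¹ * K.q 0 * W.k) := by group
      _ = K.q 0 * (K.z * K.q 0) := by rw [h1, h2]
      _ = K.z := by rw [← q_z, ← mul_assoc, q_sq, one_mul]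
  calc W.k * K.z * W.k⁻¹ = W.k * (W.k⁻¹ * (K.z * K.q 0) * W.k) * W.k⁻¹ := by rw [h3]
    _ = K.z * K.q 0 := by group

include W in
theorem k_q : W.k * K.q 0 * W.k⁻¹ = K.z := by
  rw [← W.kz]; group

include W in
/-- `k` normalises `M` -/
theorem conj_M {m : Y} (hm : m ∈ Mm K) : W.k * m * W.k⁻¹ ∈ Mm K := by
  rw [mem_Mm_iff W] at hm ⊢
  obtain ⟨h1, h2⟩ := hm
  have c1 : Commute m K.z := h1
  have c2 : Commute m (K.q 0) := h2
  have hc : ∀ v w : Y, W.k⁻¹ * v * W.k = w → Commute m w → Commute (W.k * m * W.k⁻¹) v := by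
    intro v w e h
    have e2 : v = W.k * w * W.k⁻¹ := by rw [← e]; group
    rw [e2]
    exact (Commute.conj_iff W.k).2 h
  exact ⟨(hc _ _ W.kz c2).eq, (hc _ _ W.kq (c1.mul_right c2)).eq⟩

include W in
theorem conj_M' {m : Y} (hm : m ∈ Mm K) : W.k⁻¹ * m * W.k ∈ Mm K := by
  rw [mem_Mm_iff W] at hm ⊢
  obtain ⟨h1, h2⟩ := hm
  have c1 : Commute m K.z := h1
  have c2 : Commute m (K.q 0) := h2
  have hc : ∀ v w : Y, W.k * v * W.k⁻¹ = w → Commute m w → Commute (W.k⁻¹ * m * W.k) v := by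
    intro v w e h
    have e2 : v = W.k⁻¹ * w * W.k⁻¹⁻¹ := by rw [← e]; group
    have e3 : W.k⁻¹ * m * W.k = W.k⁻¹ * m * W.k⁻¹⁻¹ := by rw [inv_inv]
    rw [e2, e3]
    exact (Commute.conj_iff W.k⁻¹).2 h
  exact ⟨(hc _ _ (k_z W) (c1.mul_right c2)).eq, (hc _ _ (k_q W) c1).eq⟩

/-! ### `3 ∤ |P|` -/

/-- `(n g)^m ∈ N g^m` -/
theorem mul_pow_coset {N : Subgroup Y} {g : Y} (hg : ∀ n ∈ N, g * n * g⁻¹ ∈ N) {n : Y} (hn : n ∈ N) (m : ℕ) :
    ∃ n' ∈ N, (n * g) ^ m = n' * g ^ m := by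
  induction m with
  | zero => exact ⟨1, N.one_mem, by simp⟩
  | succ m ih =>
    obtain ⟨n', hn', h⟩ := ih
    have h2 : ∀ m : ℕ, g ^ m * n * (g ^ m)⁻¹ ∈ N := by
      intro m
      induction m with
      | zero => simpa using hn
      | succ m ih =>
        have e : g ^ (m + 1) * n * (g ^ (m + 1))⁻¹ = g * (g ^ m * n * (g ^ m)⁻¹) * g⁻¹ := by
          rw [pow_succ']; group
        rw [e]
        exact hg _ ih
    refine ⟨n' * (g ^ m * n * (g ^ m)⁻¹), N.mul_mem hn' (h2 m), ?_⟩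
    rw [pow_succ, h, pow_succ]
    group

include W in
theorem not_three_dvd : ¬ 3 ∣ Nat.card K.P := by
  intro h
  have := K.fin
  have : Fact (Nat.Prime 3) := ⟨Nat.prime_three⟩
  obtain ⟨⟨p, hp⟩, ho⟩ := exists_prime_orderOf_dvd_card' 3 h
  have hp3 : p ^ 3 = 1 := by
    have h1 : (⟨p, hp⟩ : K.P) ^ 3 = 1 := by rw [← ho]; exact pow_orderOf_eq_one _
    exact congrArg Subtype.val h1
  have hp1 : p ≠ 1 := by
    rintro rfl
    have h1 : orderOf (⟨1, hp⟩ : K.P) = 1 := orderOf_eq_one_iff.2 rfl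
    rw [h1] at ho
    norm_num at ho
  apply hp1
  -- `p ∈ E`
  obtain ⟨e, he, a, b, hpe⟩ := K.P_cases p hp
  have hsj : Commute (K.s ^ a) (K.j ^ b) :=
    ((show Commute K.j K.s from j_s W).symm).pow_pow a b
  have hj4 : K.j ^ 4 = 1 := by
    calc K.j ^ 4 = (K.j * K.j) * (K.j * K.j) := by simp only [pow_succ, pow_zero, one_mul, mul_assoc]
      _ = 1 := by rw [W.jj, K.zz]
  have hg4 : (K.s ^ a * K.j ^ b) ^ 4 = 1 := by
    rw [hsj.mul_pow, ← pow_mul, ← pow_mul, mul_comm a, mul_comm b, pow_mul, pow_mul, K.s4, hj4, one_pow, one_pow,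
      one_mul]
  have hgP : K.s ^ a * K.j ^ b ∈ K.P := mul_mem (pow_mem (s_P K) a) (pow_mem (j_P K) b)
  obtain ⟨e', he', h4⟩ := mul_pow_coset (N := K.E) (g := K.s ^ a * K.j ^ b) (fun n hn => K.nor_E _ hgP n hn) he 4
  rw [hg4, mul_one, ← mul_assoc, ← hpe] at h4
  have hpE : p ∈ K.E := by
    have e1 : p = p ^ 4 := by
      calc p = p ^ 3 * p := by rw [hp3, one_mul]
        _ = p ^ 4 := by rw [← pow_succ]
    rw [e1, h4]
    exact he'
  -- `p ∈ Q`
  obtain ⟨u, hu, c, hpu⟩ := K.E_cases p hpE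
  obtain ⟨u', hu', h5⟩ := mul_pow_coset (N := K.Q) (g := K.x ^ c) (fun n hn => K.nor_Q _ (pow_mem (x_P K) c) n hn) hu 5
  rw [← hpu, ← pow_mul, mul_comm c, pow_mul, K.x5, one_pow, mul_one] at h5
  have hpQ : p ∈ K.Q := by
    have e1 : p = (p ^ 5) ^ 2 := by
      calc p = (p ^ 3) ^ 3 * p := by rw [hp3, one_pow, one_mul]
        _ = (p ^ 5) ^ 2 := by rw [← pow_mul, ← pow_succ, ← pow_mul]
    rw [e1, h5]
    exact pow_mem hu' 2
  have h6 := K.Q_pow p hpQ
  calc p = p ^ 3 * p := by rw [hp3, one_mul]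
    _ = 1 := by rw [← pow_succ, h6]

end Cfsg.Agent.OddHalf.D7Tits.WFacts

end

-- merged: Cfsg.Agent.OddHalf.D7Tits.WPos
section

/-!
# D7, K = Tits, type W (helper868): the position

* `dbl i t H` = `i H ∪ t i H`; `card_dbl`;
* `exists_psi` : the action of `y` on `U` (`Psi K f`);
* `cp` : `C_{<t> × iY}`.
-/

set_option autoImplicit false
set_option linter.unusedSectionVars false
set_option linter.unusedVariables false

namespace Cfsg.Agent.OddHalf.D7Tits.WPos

open Cfsg.Agent.OddHalf.D7Tits.Defs Cfsg.Agent.OddHalf.D7Tits.WDefs Cfsg.Agent.OddHalf.D7Tits.SOne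
open Cfsg.Agent.OddHalf.D7Tits.WFacts

universe u v

variable {Y : Type u} [Group Y] {K : KT Y} {G : Type v} [Group G]

/-- `⟨t⟩ × i H` -/
def dbl (i : Y →* G) (t : G) (tt : t * t = 1) (ti : ∀ a : Y, t * i a = i a * t) (H : Subgroup Y) : Subgroup G where
  carrier := {g | ∃ a ∈ H, g = i a ∨ g = t * i a}
  one_mem' := ⟨1, H.one_mem, Or.inl (map_one i).symm⟩
  mul_mem' := by
    rintro a b ⟨y, hy, ha⟩ ⟨y', hy', hb⟩
    refine ⟨y * y', mul_mem hy hy', ?_⟩
    rcases ha with rfl | rfl <;> rcases hb with rfl | rfl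
    · exact Or.inl (map_mul i _ _).symm
    · right
      rw [map_mul]
      calc i y * (t * i y') = (i y * t) * i y' := by group
        _ = t * (i y * i y') := by rw [← ti]; group
    · right
      rw [map_mul, mul_assoc]
    · left
      rw [map_mul]
      calc t * i y * (t * i y') = (t * i y * t) * i y' := by group
        _ = i y * i y' := by
          rw [ti, mul_assoc (i y) t t, tt, mul_one]
  inv_mem' := by
    have t_inv : t⁻¹ = t := inv_eq_of_mul_eq_one_left tt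
    rintro a ⟨y, hy, ha⟩
    refine ⟨y⁻¹, inv_mem hy, ?_⟩
    rcases ha with rfl | rfl
    · exact Or.inl (map_inv i _).symm
    · right
      have h := ti y⁻¹
      rw [map_inv] at h
      rw [mul_inv_rev, t_inv, map_inv, h]

theorem mem_dbl {i : Y →* G} {t : G} {tt : t * t = 1} {ti : ∀ a : Y, t * i a = i a * t} {H : Subgroup Y} {g : G} :
    g ∈ dbl i t tt ti H ↔ ∃ a ∈ H, g = i a ∨ g = t * i a := Iff.rfl

theorem card_dbl [Finite Y] {i : Y →* G} {t : G} {tt : t * t = 1} {ti : ∀ a : Y, t * i a = i a * t}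
    (hi : Function.Injective i) (tY : ∀ a : Y, i a ≠ t) (H : Subgroup Y) :
    Nat.card (dbl i t tt ti H) = 2 * Nat.card H := by
  classical
  let f : Bool × H → dbl i t tt ti H := fun p =>
    ⟨if p.1 then t * i p.2.1 else i p.2.1, ⟨p.2.1, p.2.2, by cases p.1 <;> simp⟩⟩
  have hne : ∀ a b : Y, t * i a ≠ i b := by
    intro a b h
    apply tY (b * a⁻¹)
    rw [map_mul, map_inv, ← h, mul_inv_cancel_right]
  have hf : Function.Bijective f := by
    constructor
    · rintro ⟨b, h⟩ ⟨b', h'⟩ e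
      have e1 : (if b then t * i h.1 else i h.1) = (if b' then t * i h'.1 else i h'.1) := congrArg Subtype.val e
      cases b <;> cases b'
      · have e2 : i h.1 = i h'.1 := by simpa using e1
        rw [Subtype.ext (hi e2)]
      · exact absurd (by simpa using e1.symm) (hne h'.1 h.1)
      · exact absurd (by simpa using e1) (hne h.1 h'.1)
      · have e2 : i h.1 = i h'.1 := by simpa using e1
        rw [Subtype.ext (hi e2)]
    · rintro ⟨g, a, ha, h⟩
      rcases h with rfl | rfl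
      · exact ⟨(false, ⟨a, ha⟩), Subtype.ext (by simp [f])⟩
      · exact ⟨(true, ⟨a, ha⟩), Subtype.ext (by simp [f])⟩
  rw [← Nat.card_congr (Equiv.ofBijective f hf), Nat.card_prod, Nat.card_eq_fintype_card, Fintype.card_bool]

namespace P

variable {i : Y →* G} {t y : G} (H : WDefs.PosW K i t y)

include H

theorem t_inv : t⁻¹ = t := inv_eq_of_mul_eq_one_left H.tt

theorem y_inv : y⁻¹ = y := inv_eq_of_mul_eq_one_left H.yy

theorem yzc : y * i K.z = i K.z * y := H.yA _ K.z_A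

theorem finY : Finite Y := K.fin

/-- `y (i a) y` for products -/
theorem y_mul {a b a' b' : Y} (ha : y * i a * y = i a') (hb : y * i b * y = i b') :
    y * i (a * b) * y = i (a' * b') := by
  rw [map_mul, map_mul, ← ha, ← hb]
  calc y * (i a * i b) * y = y * i a * (y * y) * i b * y := by rw [H.yy]; group
    _ = _ := by group

theorem y_inv' {a a' : Y} (ha : y * i a * y = i a') : y * i a⁻¹ * y = i a'⁻¹ := by
  rw [map_inv, map_inv, ← ha]
  have h := y_inv H
  calc y * (i a)⁻¹ * y = y⁻¹ * (i a)⁻¹ * y⁻¹ := by rw [h]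
    _ = _ := by group

theorem y_one : y * i 1 * y = i 1 := by rw [map_one, mul_one, H.yy]

theorem y_A {a : Y} (ha : a ∈ K.A) : y * i a * y = i a := by
  rw [H.yA a ha, mul_assoc, H.yy, mul_one]

theorem y_x : y * i K.x * y = i K.x := by
  rw [H.yx, mul_assoc, H.yy, mul_one]

theorem y_pow {a a' : Y} (ha : y * i a * y = i a') (n : ℕ) : y * i (a ^ n) * y = i (a' ^ n) := by
  induction n with
  | zero => rw [pow_zero, pow_zero]; exact y_one H
  | succ n ih =>
    rw [pow_succ, pow_succ]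
    exact y_mul H ih ha

theorem y_xpow (n : ℕ) : y * i (K.x ^ n) * y = i (K.x ^ n) := y_pow H (y_x H) n

theorem y_r (n : ℕ) : y * i ((K.x ^ n)⁻¹ * K.r * K.x ^ n) * y = i ((K.x ^ n)⁻¹ * (K.r * K.aw) * K.x ^ n) :=
  y_mul H (y_mul H (y_inv' H (y_xpow H n)) H.yr) (y_xpow H n)

theorem y_j : y * i K.j * y = i (K.j * K.z) := H.yj

/-- `y` normalises `i E` -/
theorem y_E {e : Y} (he : e ∈ K.E) : ∃ e' ∈ K.E, y * i e * y = i e' := by
  let D : Subgroup Y :=
    { carrier := {e | ∃ e' ∈ K.E, y * i e * y = i e'}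
      one_mem' := ⟨1, one_mem _, y_one H⟩
      mul_mem' := by
        rintro a b ⟨a', ha', ha⟩ ⟨b', hb', hb⟩
        exact ⟨_, mul_mem ha' hb', y_mul H ha hb⟩
      inv_mem' := by
        rintro a ⟨a', ha', ha⟩
        exact ⟨_, inv_mem ha', y_inv' H ha⟩ }
  have h : Subgroup.closure {K.r, K.x} ≤ D := by
    rw [Subgroup.closure_le]
    rintro e he
    simp only [Set.mem_insert_iff, Set.mem_singleton_iff] at he
    rcases he with rfl | rfl
    · exact ⟨_, mul_mem (r_E K) (A_E K K.aw_A), H.yr⟩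
    · exact ⟨_, K.x_E, y_x H⟩
  exact h (K.E_gen he)

/-- `y` normalises `i Q` -/
theorem y_Q {e : Y} (he : e ∈ K.Q) : ∃ e' ∈ K.Q, y * i e * y = i e' := by
  obtain ⟨e', he', h⟩ := y_E H (K.Q_le_E he)
  refine ⟨e', K.Q_mem e' he' ?_, h⟩
  have h1 := y_pow H h 4
  rw [K.Q_pow e he, y_one H] at h1
  exact (H.inj h1).symm

/-- `y` normalises `i U` -/
theorem y_U {e : Y} (he : e ∈ K.U) : ∃ e' ∈ K.U, y * i e * y = i e' := by
  obtain ⟨u, hu, a, b, rfl⟩ := K.U_cases e he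
  obtain ⟨u', hu', h1⟩ := y_Q H hu
  obtain ⟨c, hc, h2⟩ := H.ys
  have hcU : c ∈ K.U := by
    rcases hc with rfl | rfl
    · exact one_mem _
    · exact K.Q_le_U (z_Q K)
  refine ⟨u' * (K.s * K.j * c) ^ a * (K.j * K.z) ^ b, ?_, y_mul H (y_mul H h1 (y_pow H h2 a)) (y_pow H (y_j H) b)⟩
  exact mul_mem (mul_mem (K.Q_le_U hu') (pow_mem (mul_mem (mul_mem K.s_U K.j_U) hcU) a))
    (pow_mem (mul_mem K.j_U (K.Q_le_U (z_Q K))) b)

/-- **the action of `y` on `U`** -/
theorem exists_psi (W : KTW K) : ∃ f : Y → Y, Psi K f ∧ ∀ u ∈ K.U, f u ∈ K.U ∧ y * i u * y = i (f u) := by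
  classical
  let f : Y → Y := fun u => if h : ∃ u', y * i u * y = i u' then Classical.choose h else 1
  have hf : ∀ u u' : Y, y * i u * y = i u' → f u = u' := by
    intro u u' h
    have h1 : ∃ u', y * i u * y = i u' := ⟨u', h⟩
    have h2 : f u = Classical.choose h1 := dif_pos h1
    rw [h2]
    exact H.inj (by rw [← Classical.choose_spec h1, h])
  have hfU : ∀ u ∈ K.U, f u ∈ K.U ∧ y * i u * y = i (f u) := by
    intro u hu
    obtain ⟨u', hu', h⟩ := y_U H hu
    rw [hf u u' h]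
    exact ⟨hu', h⟩
  refine ⟨f, ⟨?_, ?_, ?_, ?_⟩, hfU⟩
  · intro a ha b hb
    exact hf _ _ (y_mul H (hfU a ha).2 (hfU b hb).2)
  · intro a ha
    exact hf _ _ (y_A H ha)
  · intro n
    exact hf _ _ (y_r H n)
  · obtain ⟨c, hc, h⟩ := H.ys
    have h1 := y_mul H h h
    apply hf
    rw [h1]
    congr 1
    have hcc : c * c = 1 := by
      rcases hc with rfl | rfl
      · exact one_mul 1
      · exact K.zz
    have hcs : c * K.s = K.s * c := by
      rcases hc with rfl | rfl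
      · group
      · exact (Pz K (s_P K)).symm
    have hcj : c * K.j = K.j * c := by
      rcases hc with rfl | rfl
      · group
      · exact (Pz K (j_P K)).symm
    have hjs := j_s W
    calc K.s * K.j * c * (K.s * K.j * c) = K.s * K.j * (c * K.s) * K.j * c := by group
      _ = K.s * (K.j * K.s) * (c * K.j) * c := by rw [hcs]; group
      _ = K.s * K.s * (K.j * K.j) * (c * c) := by rw [hcj, hjs]; group
      _ = K.s * K.s * K.z := by rw [W.jj, hcc, mul_one]

/-- `i z` etc. -/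
theorem zz' : i K.z * i K.z = 1 := by rw [← map_mul, K.zz, map_one]
theorem qq' (n : ZMod 5) : i (K.q n) * i (K.q n) = 1 := by rw [← map_mul, q_sq, map_one]
theorem qz' (n : ZMod 5) : i (K.q n) * i K.z = i K.z * i (K.q n) := by rw [← map_mul, ← map_mul, q_z]
theorem z_inv' : (i K.z)⁻¹ = i K.z := inv_eq_of_mul_eq_one_left (zz' H)
theorem q_inv' (n : ZMod 5) : (i (K.q n))⁻¹ = i (K.q n) := inv_eq_of_mul_eq_one_left (qq' H n)

/-- `C_G(t)` -/
theorem mem_cent {g : G} : g ∈ Subgroup.centralizer ({t} : Set G) ↔ g ∈ dbl i t H.tt H.ti ⊤ := by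
  rw [Subgroup.mem_centralizer_singleton_iff, mem_dbl]
  constructor
  · intro h
    obtain ⟨a, ha⟩ := H.cen g h
    exact ⟨a, Subgroup.mem_top a, ha⟩
  · rintro ⟨a, -, rfl | rfl⟩
    · exact (H.ti a).symm
    · rw [mul_assoc, ← H.ti, ← mul_assoc]

end P

end Cfsg.Agent.OddHalf.D7Tits.WPos

end

-- merged: Cfsg.Agent.OddHalf.D7Tits.WSys
section

/-!
# D7, K = Tits, type W (helper868): the 2-group `S`

* `y2` = `y^k` : `y2² = 1`, `y2 t y2 = t q₀`, its action on `A` and `M`;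
* `SS` : the 2-group of order `4 |T|`; `card_SS`; `SS_cases`;
* `card_cent`, `T_odd`.
-/

set_option autoImplicit false
set_option linter.unusedSectionVars false
set_option linter.unusedVariables false

namespace Cfsg.Agent.OddHalf.D7Tits.WSys

open Cfsg.Agent.OddHalf.D7Tits.Defs Cfsg.Agent.OddHalf.D7Tits.WDefs
open Cfsg.Agent.OddHalf.D7Tits.WFacts Cfsg.Agent.OddHalf.D7Tits.WPos

universe u v

/-! ### Orbits -/

section Orbit

variable {Y : Type u} [Group Y] {G : Type v} [Group G]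

theorem card_orbit [Finite G] {S T : Subgroup G} {t : G} {i : Y →* G} (hi : Function.Injective i) {V : Subgroup Y}
    (hTS : T ≤ S) (hST : ∀ g ∈ S, g * t = t * g ↔ g ∈ T) (h1 : ∀ g ∈ S, ∃ v ∈ V, g * t * g⁻¹ = t * i v)
    (h2 : ∀ v ∈ V, ∃ g ∈ S, g * t * g⁻¹ = t * i v) : Nat.card S = Nat.card V * Nat.card T := by
  classical
  choose! gv hgS hgv using h2
  let F : V × T → S := fun p => ⟨gv p.1 * p.2, S.mul_mem (hgS _ p.1.2) (hTS p.2.2)⟩
  have hF : Function.Bijective F := by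
    constructor
    · rintro ⟨v, a⟩ ⟨w, b⟩ e
      have e1 : gv v * a = gv w * b := congrArg Subtype.val e
      have key : ∀ (v : V) (a : T), (gv v * a) * t * (gv v * a)⁻¹ = t * i v := by
        intro v a
        have h3 := (hST _ (hTS a.2)).2 a.2
        rw [← hgv v v.2]
        calc gv v * a * t * (gv v * a)⁻¹ = gv v * (a * t) * (a : G)⁻¹ * (gv v)⁻¹ := by group
          _ = gv v * t * (gv v)⁻¹ := by rw [h3]; group
      have e2 := key v a
      rw [e1, key w b] at e2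
      have e3 : v = w := Subtype.ext (hi (mul_left_cancel e2)).symm
      subst e3
      rw [Subtype.ext (mul_left_cancel e1)]
    · rintro ⟨g, hg⟩
      obtain ⟨v, hv, h⟩ := h1 g hg
      have h3 := hgv v hv
      have h4 : (gv v)⁻¹ * g * t = t * ((gv v)⁻¹ * g) := by
        calc (gv v)⁻¹ * g * t = (gv v)⁻¹ * (g * t * g⁻¹) * g := by group
          _ = (gv v)⁻¹ * (gv v * t * (gv v)⁻¹) * g := by rw [h, h3]
          _ = _ := by group
      have h5 := (hST _ (S.mul_mem (S.inv_mem (hgS v hv)) hg)).1 h4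
      exact ⟨(⟨v, hv⟩, ⟨_, h5⟩), Subtype.ext (by show gv v * ((gv v)⁻¹ * g) = g; group)⟩
  rw [← Nat.card_congr (Equiv.ofBijective F hF), Nat.card_prod]

end Orbit

variable {Y : Type u} [Group Y] {K : KT Y} {G : Type v} [Group G]

/-- `V = {1, z, q 0, z q 0}` -/
def vv (K : KT Y) : Subgroup Y where
  carrier := {v | v = 1 ∨ v = K.z ∨ v = K.q 0 ∨ v = K.z * K.q 0}
  one_mem' := Or.inl rfl
  mul_mem' := by
    have h1 := K.zz
    have h2 := q_sq (K := K) 0
    have h3 := q_z (K := K) 0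
    have h4 : K.z * (K.z * K.q 0) = K.q 0 := by rw [← mul_assoc, h1, one_mul]
    have h5 : K.q 0 * (K.z * K.q 0) = K.z := by rw [← mul_assoc, h3, mul_assoc, h2, mul_one]
    have h6 : K.z * K.q 0 * K.z = K.q 0 := by rw [mul_assoc, h3, h4]
    have h7 : K.z * K.q 0 * K.q 0 = K.z := by rw [mul_assoc, h2, mul_one]
    have h8 : K.z * K.q 0 * (K.z * K.q 0) = 1 := by rw [← mul_assoc, h6, h2]
    rintro a b (rfl | rfl | rfl | rfl) (rfl | rfl | rfl | rfl)
    · exact Or.inl (one_mul 1)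
    · exact Or.inr (Or.inl (one_mul _))
    · exact Or.inr (Or.inr (Or.inl (one_mul _)))
    · exact Or.inr (Or.inr (Or.inr (one_mul _)))
    · exact Or.inr (Or.inl (mul_one _))
    · exact Or.inl h1
    · exact Or.inr (Or.inr (Or.inr rfl))
    · exact Or.inr (Or.inr (Or.inl h4))
    · exact Or.inr (Or.inr (Or.inl (mul_one _)))
    · exact Or.inr (Or.inr (Or.inr h3))
    · exact Or.inl h2
    · exact Or.inr (Or.inl h5)
    · exact Or.inr (Or.inr (Or.inr (mul_one _)))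
    · exact Or.inr (Or.inr (Or.inl h6))
    · exact Or.inr (Or.inl h7)
    · exact Or.inl h8
  inv_mem' := by
    rintro a (rfl | rfl | rfl | rfl)
    · exact Or.inl inv_one
    · exact Or.inr (Or.inl z_inv)
    · exact Or.inr (Or.inr (Or.inl (q_inv 0)))
    · refine Or.inr (Or.inr (Or.inr ?_))
      rw [mul_inv_rev, z_inv, q_inv, q_z]

theorem mem_vv {v : Y} : v ∈ vv K ↔ v = 1 ∨ v = K.z ∨ v = K.q 0 ∨ v = K.z * K.q 0 := Iff.rfl

theorem vv_A {v : Y} (hv : v ∈ vv K) : v ∈ K.A := by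
  rcases mem_vv.1 hv with rfl | rfl | rfl | rfl
  · exact one_mem _
  · exact K.z_A
  · exact K.q_A 0
  · exact mul_mem K.z_A (K.q_A 0)

theorem q0_ne : K.q 0 ≠ 1 := by
  intro h
  have h1 := K.r0
  rw [h, mul_one, one_mul, inv_mul_cancel] at h1
  exact K.z1 h1.symm

theorem q0_ne_z : K.q 0 ≠ K.z := by
  intro h
  have h1 := K.r0
  rw [h, K.zz] at h1
  have h2 := SOne.Pz K (K.E_le_P (SOne.r_E K))
  rw [mul_assoc, ← h2, inv_mul_cancel_left] at h1
  exact K.z1 h1

theorem card_vv : Nat.card (vv K) = 4 := by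
  classical
  have h1 : ((vv K : Subgroup Y) : Set Y) = (({1, K.z, K.q 0, K.z * K.q 0} : Finset Y) : Set Y) := by
    ext v
    rw [SetLike.mem_coe, mem_vv]
    simp
  have h2 : Nat.card (vv K) = ((vv K : Subgroup Y) : Set Y).ncard := rfl
  have z1 := K.z1
  have q1 := q0_ne (K := K)
  have qz := q0_ne_z (K := K)
  rw [h2, h1, Set.ncard_coe_finset, Finset.card_insert_of_notMem, Finset.card_insert_of_notMem,
    Finset.card_insert_of_notMem, Finset.card_singleton]
  · rw [Finset.mem_singleton]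
    intro h
    exact z1 (by simpa using h)
  · simp only [Finset.mem_insert, Finset.mem_singleton, not_or]
    exact ⟨fun h => qz h.symm, fun h => q1 (by simpa using h)⟩
  · simp only [Finset.mem_insert, Finset.mem_singleton, not_or]
    refine ⟨fun h => z1 h.symm, fun h => q1 h.symm, fun h => qz ?_⟩
    have h3 : K.z * (K.z * K.q 0) = K.z * 1 := by rw [← h]
    rw [← mul_assoc, K.zz, one_mul, mul_one] at h3
    exact h3

namespace P

variable {i : Y →* G} {t y : G} (W : KTW K) (H : WDefs.PosW K i t y)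

/-- `T = ⟨t⟩ × i U` -/
def T (H : WDefs.PosW K i t y) : Subgroup G := dbl i t H.tt H.ti K.U

include H

theorem mem_T {g : G} : g ∈ T H ↔ ∃ a ∈ K.U, g = i a ∨ g = t * i a := Iff.rfl

theorem dbl_comm {D : Subgroup Y} {g : G} (hg : g ∈ dbl i t H.tt H.ti D) : g * t = t * g := by
  obtain ⟨a, -, rfl | rfl⟩ := mem_dbl.1 hg
  · exact (H.ti a).symm
  · rw [mul_assoc, ← H.ti, ← mul_assoc]

theorem T_comm {g : G} (hg : g ∈ T H) : g * t = t * g := dbl_comm H hg

theorem t_T : t ∈ T H := ⟨1, one_mem _, Or.inr (by rw [map_one, mul_one])⟩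

omit H in
/-- `y^k` -/
def y2 (W : KTW K) (i : Y →* G) (y : G) : G := (i W.k)⁻¹ * y * i W.k

theorem y2y2 : y2 W i y * y2 W i y = 1 := by
  unfold y2
  calc (i W.k)⁻¹ * y * i W.k * ((i W.k)⁻¹ * y * i W.k) = (i W.k)⁻¹ * (y * y) * i W.k := by group
    _ = 1 := by rw [H.yy]; group

theorem y2_inv : (y2 W i y)⁻¹ = y2 W i y := inv_eq_of_mul_eq_one_left (y2y2 W H)

theorem t_k (a : Y) : (i a)⁻¹ * t * i a = t := by
  rw [mul_assoc, H.ti, inv_mul_cancel_left]

theorem t_k' (a : Y) : i a * t * (i a)⁻¹ = t := by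
  rw [← H.ti, mul_inv_cancel_right]

theorem y2_t : y2 W i y * t * y2 W i y = t * i (K.q 0) := by
  have h1 := t_k' H W.k
  have h2 : i (K.q 0) = (i W.k)⁻¹ * i K.z * i W.k := by
    rw [← W.kz, map_mul, map_mul, map_inv]
  unfold y2
  calc (i W.k)⁻¹ * y * i W.k * t * ((i W.k)⁻¹ * y * i W.k)
      = (i W.k)⁻¹ * y * (i W.k * t * (i W.k)⁻¹) * y * i W.k := by group
    _ = (i W.k)⁻¹ * (y * t * y) * i W.k := by rw [h1]; group
    _ = (i W.k)⁻¹ * t * i W.k * ((i W.k)⁻¹ * i K.z * i W.k) := by rw [H.yt]; group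
    _ = t * i (K.q 0) := by rw [t_k H, h2]

/-- the action of `y2` -/
theorem y2_of {a b c : Y} (h : W.k * a * W.k⁻¹ = b) (hb : y * i b * y = i c) :
    y2 W i y * i a * y2 W i y = i (W.k⁻¹ * c * W.k) := by
  have h1 : i a = (i W.k)⁻¹ * i b * i W.k := by
    rw [← h, map_mul, map_mul, map_inv]; group
  unfold y2
  rw [h1, map_mul, map_mul, map_inv, ← hb]
  group

theorem y2_z : y2 W i y * i K.z * y2 W i y = i K.z := by
  rw [y2_of W H (k_z W) (P.y_A H (mul_mem K.z_A (K.q_A 0)))]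
  congr 1
  rw [← k_z W]
  group

theorem y2_q0 : y2 W i y * i (K.q 0) * y2 W i y = i (K.q 0) := by
  rw [y2_of W H (k_q W) (P.y_A H K.z_A), W.kz]

theorem y2_q (n : ZMod 5) : ∃ f, Psi K f ∧
    y2 W i y * i (K.q n) * y2 W i y = i (W.k⁻¹ * f (W.k * K.q n * W.k⁻¹) * W.k) := by
  obtain ⟨f, hf, h⟩ := P.exists_psi H W
  exact ⟨f, hf, y2_of W H rfl (h _ (W.kU n)).2⟩

theorem y2_q1 : y2 W i y * i (K.q 1) * y2 W i y = i (K.q 0 * K.q 4) := by
  obtain ⟨f, hf, h⟩ := y2_q W H 1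
  rw [h, W.k1 f hf]

theorem y2_q2 : y2 W i y * i (K.q 2) * y2 W i y = i (K.z * K.q 0 * K.q 2) := by
  obtain ⟨f, hf, h⟩ := y2_q W H 2
  rw [h, W.k2 f hf]

theorem y2_q3 : y2 W i y * i (K.q 3) * y2 W i y = i (K.z * K.q 0 * K.q 3) := by
  obtain ⟨f, hf, h⟩ := y2_q W H 3
  rw [h, W.k3 f hf]

theorem y2_q4 : y2 W i y * i (K.q 4) * y2 W i y = i (K.q 0 * K.q 1) := by
  obtain ⟨f, hf, h⟩ := y2_q W H 4
  rw [h, W.k4 f hf]

/-- `y2` normalises `i A` -/
theorem y2_A {a : Y} (ha : a ∈ K.A) : ∃ a' ∈ K.A, y2 W i y * i a * y2 W i y = i a' := by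
  let D : Subgroup Y :=
    { carrier := {e | ∃ e' ∈ K.A, y2 W i y * i e * y2 W i y = i e'}
      one_mem' := ⟨1, one_mem _, by rw [map_one, mul_one, y2y2 W H]⟩
      mul_mem' := by
        rintro a b ⟨a', ha', ha⟩ ⟨b', hb', hb⟩
        refine ⟨_, mul_mem ha' hb', ?_⟩
        rw [map_mul, map_mul, ← ha, ← hb]
        calc y2 W i y * (i a * i b) * y2 W i y = y2 W i y * i a * 1 * i b * y2 W i y := by group
          _ = y2 W i y * i a * (y2 W i y * y2 W i y) * i b * y2 W i y := by rw [y2y2 W H]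
          _ = _ := by group
      inv_mem' := by
        rintro a ⟨a', ha', ha⟩
        refine ⟨_, inv_mem ha', ?_⟩
        rw [map_inv, map_inv, ← ha]
        have h := y2_inv W H
        calc y2 W i y * (i a)⁻¹ * y2 W i y = (y2 W i y)⁻¹ * (i a)⁻¹ * (y2 W i y)⁻¹ := by rw [h]
          _ = _ := by group }
  have h : Subgroup.closure ({K.z} ∪ Set.range K.q) ≤ D := by
    rw [Subgroup.closure_le]
    rintro e (he | ⟨n, rfl⟩)
    · rw [Set.mem_singleton_iff] at he
      rw [he]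
      exact ⟨_, K.z_A, y2_z W H⟩
    · have h5 : ∀ m : ZMod 5, m = 0 ∨ m = 1 ∨ m = 2 ∨ m = 3 ∨ m = 4 := by decide
      rcases h5 n with rfl | rfl | rfl | rfl | rfl
      · exact ⟨_, K.q_A 0, y2_q0 W H⟩
      · exact ⟨_, mul_mem (K.q_A 0) (K.q_A 4), y2_q1 W H⟩
      · exact ⟨_, mul_mem (mul_mem K.z_A (K.q_A 0)) (K.q_A 2), y2_q2 W H⟩
      · exact ⟨_, mul_mem (mul_mem K.z_A (K.q_A 0)) (K.q_A 3), y2_q3 W H⟩
      · exact ⟨_, mul_mem (K.q_A 0) (K.q_A 1), y2_q4 W H⟩
  exact h (K.A_gen ha)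

/-- `y` normalises `i M` -/
theorem y_M {m : Y} (hm : m ∈ Mm K) : ∃ m' ∈ Mm K, y * i m * y = i m' := by
  rw [mem_Mm] at hm
  obtain ⟨m', hm', h⟩ := P.y_U H hm.1
  refine ⟨m', mem_Mm.2 ⟨hm', ?_⟩, h⟩
  have h1 := P.y_A H (K.q_A 0)
  have h2 := P.y_mul H h h1
  have h3 := P.y_mul H h1 h
  rw [hm.2, h3] at h2
  exact (H.inj h2).symm

/-- `y2` normalises `i M` -/
theorem y2_M {m : Y} (hm : m ∈ Mm K) : ∃ m' ∈ Mm K, y2 W i y * i m * y2 W i y = i m' := by
  obtain ⟨m', hm', h⟩ := y_M H (conj_M W hm)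
  exact ⟨_, conj_M' W hm', y2_of W H rfl h⟩

/-! ### The 2-group -/

omit H in
/-- the first two conditions -/
def Nz (i : Y →* G) (K : KT Y) (g : G) : Prop :=
  g * i K.z = i K.z * g ∧ (g * i (K.q 0) * g⁻¹ = i (K.q 0) ∨ g * i (K.q 0) * g⁻¹ = i (K.q 0) * i K.z)

omit H in
theorem Nz.z {g : G} (h : Nz i K g) : g * i K.z * g⁻¹ = i K.z := by rw [h.1, mul_inv_cancel_right]

omit H in
theorem Nz.one : Nz i K 1 := ⟨by group, Or.inl (by group)⟩

theorem Nz.mul {a b : G} (ha : Nz i K a) (hb : Nz i K b) : Nz i K (a * b) := by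
  have hz := P.zz' H
  have e : ∀ x : G, a * b * x * (a * b)⁻¹ = a * (b * x * b⁻¹) * a⁻¹ := fun x => by group
  have e2 : a * (i (K.q 0) * i K.z) * a⁻¹ = (a * i (K.q 0) * a⁻¹) * (a * i K.z * a⁻¹) := by group
  refine ⟨?_, ?_⟩
  · rw [mul_assoc, hb.1, ← mul_assoc, ha.1, mul_assoc]
  · rw [e]
    rcases hb.2 with h | h <;> rw [h]
    · exact ha.2
    · rw [e2, ha.z]
      rcases ha.2 with h' | h' <;> rw [h']
      · exact Or.inr rfl
      · left
        rw [mul_assoc, hz, mul_one]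

theorem Nz.inv {a : G} (ha : Nz i K a) : Nz i K a⁻¹ := by
  have hz := P.zz' H
  have h1 : a⁻¹ * i K.z = i K.z * a⁻¹ := by
    calc a⁻¹ * i K.z = a⁻¹ * (i K.z * a) * a⁻¹ := by group
      _ = a⁻¹ * (a * i K.z) * a⁻¹ := by rw [ha.1]
      _ = _ := by group
  refine ⟨h1, ?_⟩
  rw [inv_inv]
  rcases ha.2 with h | h
  · left
    calc a⁻¹ * i (K.q 0) * a = a⁻¹ * (a * i (K.q 0) * a⁻¹) * a := by rw [h]
      _ = i (K.q 0) := by group
  · right
    calc a⁻¹ * i (K.q 0) * a = a⁻¹ * (i (K.q 0) * i K.z) * (i K.z * a) := by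
          rw [mul_assoc a⁻¹ (i (K.q 0) * i K.z), mul_assoc (i (K.q 0)) (i K.z), ← mul_assoc (i K.z) (i K.z), hz, one_mul,
            ← mul_assoc]
      _ = a⁻¹ * (a * i (K.q 0) * a⁻¹) * (a * i K.z) := by rw [h, ha.1]
      _ = i (K.q 0) * i K.z := by group

theorem Nz.vv {a : G} (ha : Nz i K a) {v : Y} (hv : v ∈ vv K) : ∃ v' ∈ WSys.vv K, a * i v * a⁻¹ = i v' := by
  have hz := ha.z
  rcases mem_vv.1 hv with rfl | rfl | rfl | rfl
  · exact ⟨1, one_mem _, by rw [map_one]; group⟩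
  · exact ⟨K.z, Or.inr (Or.inl rfl), hz⟩
  · rcases ha.2 with h | h
    · exact ⟨K.q 0, Or.inr (Or.inr (Or.inl rfl)), h⟩
    · refine ⟨K.z * K.q 0, Or.inr (Or.inr (Or.inr rfl)), ?_⟩
      rw [h, map_mul, P.qz' H]
  · have e : a * i (K.z * K.q 0) * a⁻¹ = (a * i K.z * a⁻¹) * (a * i (K.q 0) * a⁻¹) := by rw [map_mul]; group
    rw [e, hz]
    rcases ha.2 with h | h <;> rw [h]
    · exact ⟨K.z * K.q 0, Or.inr (Or.inr (Or.inr rfl)), by rw [map_mul]⟩
    · refine ⟨K.q 0, Or.inr (Or.inr (Or.inl rfl)), ?_⟩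
      rw [P.qz' H, ← mul_assoc, P.zz' H, one_mul]

/-- **the 2-group `S`** -/
def SS (H : WDefs.PosW K i t y) : Subgroup G where
  carrier := {g | Nz i K g ∧ ∃ v ∈ vv K, g * t * g⁻¹ = t * i v}
  one_mem' := ⟨Nz.one, 1, one_mem _, by rw [map_one]; group⟩
  mul_mem' := by
    rintro a b ⟨ha, v, hv, h⟩ ⟨hb, w, hw, h'⟩
    refine ⟨Nz.mul H ha hb, ?_⟩
    obtain ⟨w', hw', h3⟩ := Nz.vv H ha hw
    refine ⟨v * w', mul_mem hv hw', ?_⟩
    calc a * b * t * (a * b)⁻¹ = a * (b * t * b⁻¹) * a⁻¹ := by group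
      _ = (a * t * a⁻¹) * (a * i w * a⁻¹) := by rw [h']; group
      _ = t * i (v * w') := by rw [h, h3, map_mul]; group
  inv_mem' := by
    rintro a ⟨ha, v, hv, h⟩
    refine ⟨Nz.inv H ha, ?_⟩
    obtain ⟨w, hw, h3⟩ := Nz.vv H (Nz.inv H ha) hv
    rw [inv_inv] at h3
    refine ⟨w⁻¹, inv_mem hw, ?_⟩
    rw [inv_inv, map_inv, ← h3]
    calc a⁻¹ * t * a = a⁻¹ * (t * i v) * a * (a⁻¹ * i v * a)⁻¹ := by group
      _ = a⁻¹ * (a * t * a⁻¹) * a * (a⁻¹ * i v * a)⁻¹ := by rw [h]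
      _ = _ := by group

theorem mem_SS {g : G} : g ∈ SS H ↔ Nz i K g ∧ ∃ v ∈ vv K, g * t * g⁻¹ = t * i v := Iff.rfl

include W in
theorem T_le : T H ≤ SS H := by
  intro g hg
  have hgt := T_comm H hg
  refine ⟨?_, 1, one_mem _, by rw [map_one, mul_one, hgt, mul_inv_cancel_right]⟩
  have key : ∀ a ∈ K.U, Nz i K (i a) := by
    intro a ha
    refine ⟨by rw [← map_mul, ← map_mul, SOne.Pz K (K.U_le_P ha)], ?_⟩
    rw [← map_inv, ← map_mul, ← map_mul, ← map_mul]
    have h := U_q W (inv_mem ha)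
    rw [inv_inv] at h
    rcases h with h | h
    · exact Or.inl (congrArg i h)
    · exact Or.inr (congrArg i h)
  have kt : Nz i K t := ⟨H.ti _, Or.inl (by rw [H.ti, mul_inv_cancel_right])⟩
  obtain ⟨a, ha, rfl | rfl⟩ := (mem_T H).1 hg
  · exact key a ha
  · exact Nz.mul H kt (key a ha)

include W in
/-- `C_S(t) = T` -/
theorem SS_cent {g : G} (hg : g ∈ SS H) : g * t = t * g ↔ g ∈ T H := by
  constructor
  · intro h
    obtain ⟨⟨h1, h2⟩, -⟩ := hg
    have key : ∀ a : Y, Nz i K (i a) → a ∈ K.U := by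
      rintro a ⟨h3, h4⟩
      rw [← map_mul, ← map_mul] at h3
      have haP : a ∈ K.P := (K.mem_P a).2 (H.inj h3)
      have h5 : a⁻¹ ∈ K.U := by
        apply mem_U_of W (inv_mem haP)
        rw [inv_inv]
        rw [← map_inv, ← map_mul, ← map_mul, ← map_mul] at h4
        rcases h4 with h4 | h4
        · exact Or.inl (H.inj h4)
        · exact Or.inr (H.inj h4)
      exact inv_mem_iff.1 h5
    have kt : Nz i K t := ⟨H.ti _, Or.inl (by rw [H.ti, mul_inv_cancel_right])⟩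
    obtain ⟨a, ha⟩ := H.cen g h
    rcases ha with rfl | rfl
    · exact ⟨a, key a ⟨h1, h2⟩, Or.inl rfl⟩
    · refine ⟨a, key a ?_, Or.inr rfl⟩
      have e : i a = t⁻¹ * (t * i a) := by group
      rw [e]
      exact Nz.mul H (Nz.inv H kt) ⟨h1, h2⟩
  · exact fun h => T_comm H h

theorem y_SS : y ∈ SS H := by
  have hyi := P.y_inv H
  refine ⟨⟨P.yzc H, Or.inl ?_⟩, K.z, Or.inr (Or.inl rfl), ?_⟩
  · rw [hyi]
    exact P.y_A H (K.q_A 0)
  · rw [hyi]
    exact H.yt

theorem y2_SS : y2 W i y ∈ SS H := by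
  have hyi := y2_inv W H
  refine ⟨⟨?_, Or.inl ?_⟩, K.q 0, Or.inr (Or.inr (Or.inl rfl)), ?_⟩
  · have h := y2_z W H
    calc y2 W i y * i K.z = y2 W i y * i K.z * (y2 W i y * y2 W i y) := by rw [y2y2 W H, mul_one]
      _ = (y2 W i y * i K.z * y2 W i y) * y2 W i y := by group
      _ = _ := by rw [h]
  · rw [hyi]
    exact y2_q0 W H
  · rw [hyi]
    exact y2_t W H

include W in
theorem SS_orbit : ∀ v ∈ vv K, ∃ g ∈ SS H, g * t * g⁻¹ = t * i v := by
  intro v hv
  rcases mem_vv.1 hv with rfl | rfl | rfl | rfl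
  · exact ⟨1, one_mem _, by rw [map_one]; group⟩
  · exact ⟨y, y_SS H, by rw [P.y_inv H]; exact H.yt⟩
  · exact ⟨y2 W i y, y2_SS W H, by rw [y2_inv W H]; exact y2_t W H⟩
  · refine ⟨y * y2 W i y, mul_mem (y_SS H) (y2_SS W H), ?_⟩
    have h1 := y2_t W H
    have h2 := H.yt
    have h3 := P.y_A H (K.q_A 0)
    have hyi := P.y_inv H
    have hyi2 := y2_inv W H
    calc y * y2 W i y * t * (y * y2 W i y)⁻¹ = y * (y2 W i y * t * (y2 W i y)⁻¹) * y⁻¹ := by group
      _ = y * (t * i (K.q 0)) * y := by rw [hyi2, h1, hyi]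
      _ = y * t * 1 * i (K.q 0) * y := by group
      _ = (y * t * y) * (y * i (K.q 0) * y) := by rw [← H.yy]; group
      _ = t * i (K.z * K.q 0) := by rw [h2, h3, map_mul]; group

include W in
theorem card_SS : Nat.card (SS H) = 4 * Nat.card (T H) := by
  have := H.finG
  have h := card_orbit H.inj (T_le W H) (fun g hg => SS_cent W H hg) (fun g hg => hg.2) (SS_orbit W H)
  rw [card_vv] at h
  exact h

theorem card_T : Nat.card (T H) = 2 * Nat.card K.U := by
  have := K.fin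
  exact card_dbl H.inj H.tY K.U

theorem card_C : Nat.card (Subgroup.centralizer ({t} : Set G)) = 2 * Nat.card Y := by
  have := K.fin
  have h : Subgroup.centralizer ({t} : Set G) = dbl i t H.tt H.ti ⊤ := by
    ext g
    exact P.mem_cent H
  rw [h, card_dbl H.inj H.tY ⊤, Subgroup.card_top]

theorem T_le_C : T H ≤ Subgroup.centralizer ({t} : Set G) := fun g hg =>
  Subgroup.mem_centralizer_singleton_iff.2 (T_comm H hg)

theorem T_odd : ¬ 2 ∣ (T H).relIndex (Subgroup.centralizer ({t} : Set G)) := by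
  have := K.fin
  have := H.finG
  have h1 := Subgroup.card_mul_index ((T H).subgroupOf (Subgroup.centralizer ({t} : Set G)))
  rw [Nat.card_congr (Subgroup.subgroupOfEquivOfLe (T_le_C H)).toEquiv, card_T H, card_C H] at h1
  have h2 := Subgroup.card_mul_index K.U
  have h3 : (T H).relIndex (Subgroup.centralizer ({t} : Set G)) = K.U.index := by
    have h4 : 0 < Nat.card K.U := Nat.card_pos
    rw [← h2] at h1
    have h5 : (2 * Nat.card K.U) * ((T H).relIndex (Subgroup.centralizer ({t} : Set G))) =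
        (2 * Nat.card K.U) * K.U.index := by
      rw [mul_assoc 2 (Nat.card K.U) K.U.index]
      exact h1
    exact Nat.eq_of_mul_eq_mul_left (by omega) h5
  rw [h3]
  exact K.U_odd

include W in
theorem SS_p : IsPGroup 2 (SS H) := by
  have := K.fin
  have := H.finG
  have : Fact (Nat.Prime 2) := ⟨Nat.prime_two⟩
  obtain ⟨n, hn⟩ := IsPGroup.iff_card.1 K.U_p
  refine IsPGroup.of_card (n := n + 3) ?_
  rw [card_SS W H, card_T, hn]
  ring

include W in
/-- the elements of `S` -/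
theorem SS_cases {g : G} (hg : g ∈ SS H) : ∃ a ∈ T H, g = a ∨ g = y * a ∨ g = y2 W i y * a ∨ g = y * y2 W i y * a := by
  obtain ⟨v, hv, h⟩ := hg.2
  have key : ∀ w ∈ SS H, w * t * w⁻¹ = t * i v → ∃ a ∈ T H, g = w * a := by
    intro w hw h3
    have h4 : w⁻¹ * g * t = t * (w⁻¹ * g) := by
      calc w⁻¹ * g * t = w⁻¹ * (g * t * g⁻¹) * g := by group
        _ = w⁻¹ * (w * t * w⁻¹) * g := by rw [h, h3]
        _ = _ := by group
    exact ⟨_, (SS_cent W H (mul_mem (inv_mem hw) hg)).1 h4, by group⟩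
  rcases mem_vv.1 hv with rfl | rfl | rfl | rfl
  · obtain ⟨a, ha, h5⟩ := key 1 (one_mem _) (by rw [map_one]; group)
    exact ⟨a, ha, Or.inl (by rw [h5, one_mul])⟩
  · obtain ⟨a, ha, h5⟩ := key y (y_SS H) (by rw [P.y_inv H]; exact H.yt)
    exact ⟨a, ha, Or.inr (Or.inl h5)⟩
  · obtain ⟨a, ha, h5⟩ := key (y2 W i y) (y2_SS W H) (by rw [y2_inv W H]; exact y2_t W H)
    exact ⟨a, ha, Or.inr (Or.inr (Or.inl h5))⟩
  · have h6 : y * y2 W i y * t * (y * y2 W i y)⁻¹ = t * i (K.z * K.q 0) := by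
      have h1 := y2_t W H
      have h2 := H.yt
      have h3 := P.y_A H (K.q_A 0)
      have hyi := P.y_inv H
      have hyi2 := y2_inv W H
      calc y * y2 W i y * t * (y * y2 W i y)⁻¹ = y * (y2 W i y * t * (y2 W i y)⁻¹) * y⁻¹ := by group
        _ = y * (t * i (K.q 0)) * y := by rw [hyi2, h1, hyi]
        _ = y * t * 1 * i (K.q 0) * y := by group
        _ = (y * t * y) * (y * i (K.q 0) * y) := by rw [← H.yy]; group
        _ = t * i (K.z * K.q 0) := by rw [h2, h3, map_mul]; group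
    obtain ⟨a, ha, h5⟩ := key _ (mul_mem (y_SS H) (y2_SS W H)) h6
    exact ⟨a, ha, Or.inr (Or.inr (Or.inr h5))⟩

end P

end Cfsg.Agent.OddHalf.D7Tits.WSys

end

-- merged: Cfsg.Agent.OddHalf.D7Tits.ExtT
section

/-!
# D7, K = Tits: the T-formula on a 2-group (helper868)

`T` Sylow in `C(t)`, `T ≤ S`, `S` a 2-group, `C_S(t) = T`, `mu : S → A` a homomorphism with `mu t ≠ 1`.
If every conjugate `g⁻¹ t g` of `t` with `T^g ≤ S` is `S`-conjugate to `t` or killed by `mu`, then `G` is not perfect.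
-/

set_option autoImplicit false

namespace Cfsg.Agent.OddHalf.D7Tits.ExtT

open Subgroup

variable {G : Type*} [Group G]

/-- `T` is a maximal 2-subgroup of `C(t)` -/
theorem max_of_odd [Finite G] {t : G} {T : Subgroup G}
    (hodd : ¬ 2 ∣ T.relIndex (centralizer ({t} : Set G))) :
    ∀ P : Subgroup G, IsPGroup 2 P → T ≤ P → (∀ x ∈ P, x * t = t * x) → P ≤ T := by
  intro P hP hTP hPt
  by_contra hne
  apply hodd
  have h1 := relIndex_mul_relIndex T P (centralizer ({t} : Set G)) hTP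
    (fun x hx => mem_centralizer_singleton_iff.2 (hPt x hx))
  rw [← h1]
  apply Dvd.dvd.mul_right
  have h3 : (T.subgroupOf P).index ≠ 1 := by
    rw [Ne, index_eq_one, subgroupOf_eq_top]; exact hne
  obtain ⟨n, hn⟩ := hP.index (T.subgroupOf P)
  have hn0 : n ≠ 0 := by
    rintro rfl; exact h3 (by rw [hn]; simp)
  show 2 ∣ (T.subgroupOf P).index
  rw [hn]
  exact dvd_pow_self 2 hn0

theorem false_of [Finite G] (hG : commutator G = ⊤) {t : G} (tt : t * t = 1) {T S : Subgroup G} (hTS : T ≤ S)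
    (hS2 : IsPGroup 2 S) (htT : t ∈ T) (hTt : ∀ x ∈ T, x * t = t * x)
    (hodd : ¬ 2 ∣ T.relIndex (centralizer ({t} : Set G)))
    (CS : ∀ x ∈ S, x * t = t * x → x ∈ T) {A : Type*} [CommGroup A] (mu : S →* A)
    (hmu : mu ⟨t, hTS htT⟩ ≠ 1)
    (hext : ∀ g : G, (∀ x ∈ T, g⁻¹ * x * g ∈ S) → ∀ h : g⁻¹ * t * g ∈ S,
      (∃ y ∈ S, y * t * y⁻¹ = g⁻¹ * t * g) ∨ mu ⟨g⁻¹ * t * g, h⟩ = 1) : False := by
  classical
  have := Fintype.ofFinite (G ⧸ S)
  have hT2 : IsPGroup 2 T := hS2.to_le hTS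
  have hmax := max_of_odd hodd
  obtain ⟨f, hf, s, hs, hprod⟩ := TFormula.transfer_eq_prod S mu t tt T hT2 hTt
  have hone := TFormula.hom_eq_one hG (MonoidHom.transfer mu) t
  rw [hprod] at hone
  have hmem : ∀ x g : G, x • (g : G ⧸ S) = g ↔ g⁻¹ * x * g ∈ S := by
    intro x g
    rw [MulAction.Quotient.smul_mk, smul_eq_mul, QuotientGroup.eq]
    constructor
    · intro h
      have := S.inv_mem h
      have e : ((x * g)⁻¹ * g)⁻¹ = g⁻¹ * x * g := by group
      rwa [e] at this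
    · intro h
      have := S.inv_mem h
      have e : (g⁻¹ * x * g)⁻¹ = (x * g)⁻¹ * g := by group
      rwa [e] at this
  set a := mu ⟨t, hTS htT⟩ with ha
  have haa : a * a = 1 := by
    rw [ha, ← map_mul]
    have : (⟨t, hTS htT⟩ : S) * ⟨t, hTS htT⟩ = 1 := Subtype.ext tt
    rw [this, map_one]
  set N := centralizer ({t} : Set G) ⊓ normalizer (T : Set G) with hN
  have hval : ∀ q ∈ s, f q = if q ∈ MulAction.orbit ↥N ((1 : G) : G ⧸ S) then a else 1 := by
    intro q hq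
    obtain ⟨g, rfl⟩ := QuotientGroup.mk_surjective q
    obtain ⟨h1, h2⟩ := (hs _).1 hq
    have h3 : g⁻¹ * t * g ∈ S := (hmem t g).1 h1
    have h4 : ∀ x ∈ T, g⁻¹ * x * g ∈ S := fun x hx => (hmem x g).1 (h2 x hx)
    rw [hf _ g rfl h3]
    by_cases hq1 : ((g : G) : G ⧸ S) ∈ MulAction.orbit ↥N ((1 : G) : G ⧸ S)
    · rw [if_pos hq1]
      obtain ⟨⟨n, hn⟩, hn'⟩ := hq1
      change n • ((1 : G) : G ⧸ S) = g at hn'
      rw [MulAction.Quotient.smul_mk, smul_eq_mul, mul_one, QuotientGroup.eq] at hn'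
      have hnt : n * t = t * n := mem_centralizer_singleton_iff.1 hn.1
      have e : g⁻¹ * t * g = (n⁻¹ * g)⁻¹ * t * (n⁻¹ * g) := by
        calc g⁻¹ * t * g = g⁻¹ * (t * n) * (n⁻¹ * g) := by group
          _ = g⁻¹ * (n * t) * (n⁻¹ * g) := by rw [hnt]
          _ = (n⁻¹ * g)⁻¹ * t * (n⁻¹ * g) := by group
      have e2 : (⟨g⁻¹ * t * g, h3⟩ : S) = ⟨n⁻¹ * g, hn'⟩⁻¹ * ⟨t, hTS htT⟩ * ⟨n⁻¹ * g, hn'⟩ :=
        Subtype.ext e
      rw [e2, map_mul, map_mul, map_inv, mul_comm (mu ⟨n⁻¹ * g, hn'⟩)⁻¹, inv_mul_cancel_right]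
    · rw [if_neg hq1]
      rcases hext g h4 h3 with ⟨y, hyS, e1⟩ | h
      · exfalso
        apply hq1
        have hc : (g * y) * t = t * (g * y) := by
          calc (g * y) * t = g * (y * t * y⁻¹) * y := by group
            _ = g * (g⁻¹ * t * g) * y := by rw [e1]
            _ = t * (g * y) := by group
        have hnorm : ∀ x ∈ T, (g * y)⁻¹ * x * (g * y) ∈ T := by
          intro x hx
          apply CS
          · have h5 := h4 x hx
            have e : (g * y)⁻¹ * x * (g * y) = y⁻¹ * (g⁻¹ * x * g) * y := by group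
            rw [e]
            exact mul_mem (mul_mem (inv_mem hyS) h5) hyS
          · have c1 : Commute (g * y) t := hc
            have c2 : Commute x t := hTt x hx
            exact ((c1.inv_left.mul_left c2).mul_left c1).eq
        have hnorm2 : g * y ∈ normalizer (T : Set G) := by
          have h5 : (g * y)⁻¹ ∈ normalizer (T : Set G) := by
            apply D7Out.Claim.mem_norm
            intro x hx
            rw [inv_inv]
            exact hnorm x hx
          have := inv_mem h5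
          rwa [inv_inv] at this
        refine ⟨⟨g * y, mem_inf.2 ⟨mem_centralizer_singleton_iff.2 hc, hnorm2⟩⟩, ?_⟩
        show (g * y) • ((1 : G) : G ⧸ S) = g
        rw [MulAction.Quotient.smul_mk, smul_eq_mul, mul_one, QuotientGroup.eq]
        have e : (g * y)⁻¹ * g = y⁻¹ := by group
        rw [e]; exact inv_mem hyS
      · exact h
  rw [Finset.prod_congr rfl hval, Finset.prod_ite, Finset.prod_const, Finset.prod_const_one, mul_one]
    at hone
  have hcard : ¬ 2 ∣ (s.filter (fun q => q ∈ MulAction.orbit ↥N ((1 : G) : G ⧸ S))).card := by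
    have h1 := D7Out.Claim.card_orbit_odd hTS hTt CS hodd
    rw [Set.ncard_eq_toFinset_card'] at h1
    have e : s.filter (fun q => q ∈ MulAction.orbit ↥N ((1 : G) : G ⧸ S)) =
        (MulAction.orbit ↥N ((1 : G) : G ⧸ S)).toFinset := by
      ext q
      rw [Finset.mem_filter, Set.mem_toFinset]
      constructor
      · exact fun h => h.2
      · intro h
        refine ⟨(hs q).2 ?_, h⟩
        obtain ⟨⟨n, hn⟩, rfl⟩ := h
        have hnn := hn.2
        have key : ∀ x ∈ T, x • (n • ((1 : G) : G ⧸ S)) = n • ((1 : G) : G ⧸ S) := by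
          intro x hx
          rw [MulAction.Quotient.smul_mk, smul_eq_mul, mul_one, hmem]
          have h5 : n⁻¹ ∈ normalizer (T : Set G) := inv_mem hnn
          have := (mem_normalizer_iff.1 h5 x).1 hx
          rw [inv_inv] at this
          exact hTS this
        exact ⟨key t htT, fun x hx => key x hx⟩
    rw [e]; exact h1
  obtain ⟨k, hk⟩ : Odd (s.filter (fun q => q ∈ MulAction.orbit ↥N ((1 : G) : G ⧸ S))).card := by
    rw [← Nat.not_even_iff_odd]
    intro h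
    exact hcard h.two_dvd
  rw [hk, pow_succ, pow_mul, pow_two, haa, one_pow, one_mul] at hone
  exact hmu hone

/-! ### Commutators in a group with an abelian subgroup of index two -/

/-- `L` abelian, `Q = L ∪ s⁻¹ L`: the commutators of `Q` are the `l s l⁻¹ s⁻¹`, `l ∈ L`. -/
theorem comm_of_index_two {Q : Type*} [Group Q] {L : Subgroup Q} {s : Q} (hL : ∀ g : Q, g ∈ L ∨ s⁻¹ * g ∈ L)
    (hab : ∀ a ∈ L, ∀ b ∈ L, a * b = b * a) (hs : ∀ a ∈ L, s * a * s⁻¹ ∈ L) (hss : s * s ∈ L) {g : Q}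
    (hg : g ∈ commutator Q) : ∃ l ∈ L, g = l * (s * l⁻¹ * s⁻¹) := by
  let D : Subgroup Q :=
    { carrier := {g | ∃ l ∈ L, g = l * (s * l⁻¹ * s⁻¹)}
      one_mem' := ⟨1, L.one_mem, by group⟩
      mul_mem' := by
        rintro _ _ ⟨a, ha, rfl⟩ ⟨b, hb, rfl⟩
        refine ⟨a * b, mul_mem ha hb, ?_⟩
        have h1 := hab _ (hs _ (inv_mem ha)) b hb
        have h2 := hab _ (inv_mem ha) _ (inv_mem hb)
        calc a * (s * a⁻¹ * s⁻¹) * (b * (s * b⁻¹ * s⁻¹)) = a * ((s * a⁻¹ * s⁻¹) * b) * (s * b⁻¹ * s⁻¹) := by group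
          _ = a * (b * (s * a⁻¹ * s⁻¹)) * (s * b⁻¹ * s⁻¹) := by rw [h1]
          _ = a * b * (s * (a⁻¹ * b⁻¹) * s⁻¹) := by group
          _ = a * b * (s * (b⁻¹ * a⁻¹) * s⁻¹) := by rw [h2]
          _ = a * b * (s * (a * b)⁻¹ * s⁻¹) := by group
      inv_mem' := by
        rintro _ ⟨a, ha, rfl⟩
        refine ⟨a⁻¹, inv_mem ha, ?_⟩
        have h1 := hab _ (hs _ ha) _ (inv_mem ha)
        calc (a * (s * a⁻¹ * s⁻¹))⁻¹ = (s * a * s⁻¹) * a⁻¹ := by group
          _ = a⁻¹ * (s * a * s⁻¹) := h1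
          _ = a⁻¹ * (s * a⁻¹⁻¹ * s⁻¹) := by group }
  have hD : commutator Q ≤ D := by
    rw [commutator_eq_closure, closure_le]
    rintro _ ⟨g, h, rfl⟩
    -- write `g = s^a l`
    have key : ∀ g : Q, ∃ l ∈ L, g = l ∨ g = s * l := by
      intro g
      rcases hL g with h | h
      · exact ⟨g, h, Or.inl rfl⟩
      · exact ⟨_, h, Or.inr (by group)⟩
    obtain ⟨a, ha, hga | hga⟩ := key g <;> obtain ⟨b, hb, hgb | hgb⟩ := key h <;> rw [hga, hgb]
    · -- both in L
      refine ⟨1, L.one_mem, ?_⟩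
      have h1 := hab a ha b hb
      rw [commutatorElement_def, h1]; group
    · -- [a, s b]
      refine ⟨a, ha, ?_⟩
      rw [commutatorElement_def]
      have h1 := hab b hb _ (inv_mem ha)
      calc a * (s * b) * a⁻¹ * (s * b)⁻¹ = a * s * (b * a⁻¹) * b⁻¹ * s⁻¹ := by group
        _ = a * s * (a⁻¹ * b) * b⁻¹ * s⁻¹ := by rw [h1]
        _ = a * (s * a⁻¹ * s⁻¹) := by group
    · -- [s a, b]
      refine ⟨b⁻¹, inv_mem hb, ?_⟩
      rw [commutatorElement_def]
      have h1 := hab a ha b hb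
      have h2 := hab _ (hs _ hb) _ (inv_mem hb)
      calc s * a * b * (s * a)⁻¹ * b⁻¹ = s * (a * b) * a⁻¹ * s⁻¹ * b⁻¹ := by group
        _ = s * (b * a) * a⁻¹ * s⁻¹ * b⁻¹ := by rw [h1]
        _ = (s * b * s⁻¹) * b⁻¹ := by group
        _ = b⁻¹ * (s * b * s⁻¹) := h2
        _ = b⁻¹ * (s * b⁻¹⁻¹ * s⁻¹) := by group
    · -- [s a, s b]
      refine ⟨b * a⁻¹, mul_mem hb (inv_mem ha), ?_⟩
      rw [commutatorElement_def]
      have h1 := hab _ hss _ (mul_mem hb (inv_mem ha))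
      have h2 := hab _ (hs _ ha) _ (mul_mem hb (inv_mem ha))
      calc s * a * (s * b) * (s * a)⁻¹ * (s * b)⁻¹
          = (s * a * s⁻¹) * ((s * s) * (b * a⁻¹)) * (s * s)⁻¹ * (s * b⁻¹ * s⁻¹) := by group
        _ = (s * a * s⁻¹) * ((b * a⁻¹) * (s * s)) * (s * s)⁻¹ * (s * b⁻¹ * s⁻¹) := by rw [h1]
        _ = ((s * a * s⁻¹) * (b * a⁻¹)) * (s * b⁻¹ * s⁻¹) := by group
        _ = ((b * a⁻¹) * (s * a * s⁻¹)) * (s * b⁻¹ * s⁻¹) := by rw [h2]
        _ = b * a⁻¹ * (s * (b * a⁻¹)⁻¹ * s⁻¹) := by group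
  exact hD hg

end Cfsg.Agent.OddHalf.D7Tits.ExtT

end

-- merged: Cfsg.Agent.OddHalf.D7Tits.WHom
section

/-!
# D7, K = Tits, type W (helper868): `t` is not in the commutator subgroup of `S`

`S / M` is `⟨t⟩ × D₈`.
-/

set_option autoImplicit false
set_option linter.unusedSectionVars false
set_option linter.unusedVariables false

namespace Cfsg.Agent.OddHalf.D7Tits.WHom

open Cfsg.Agent.OddHalf.D7Tits.Defs Cfsg.Agent.OddHalf.D7Tits.WDefs
open Cfsg.Agent.OddHalf.D7Tits.WFacts Cfsg.Agent.OddHalf.D7Tits.WPos Cfsg.Agent.OddHalf.D7Tits.WSys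
open Cfsg.Agent.OddHalf.D7Tits.WSys.P

universe u v

variable {Y : Type u} [Group Y] {K : KT Y} {G : Type v} [Group G] {i : Y →* G} {t y : G}
  (W : KTW K) (H : WDefs.PosW K i t y)

include H

/-- `C_S(⟨t, q 0⟩)` -/
theorem mem_tM (W : KTW K) {g : G} (hg : g ∈ SS H) (h1 : g * t = t * g) (h2 : g * i (K.q 0) = i (K.q 0) * g) :
    ∃ m ∈ Mm K, g = i m ∨ g = t * i m := by
  obtain ⟨a, ha, h⟩ := (SS_cent W H hg).1 h1
  refine ⟨a, mem_Mm.2 ⟨ha, ?_⟩, h⟩
  have key : i a * i (K.q 0) = i (K.q 0) * i a := by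
    rcases h with rfl | rfl
    · exact h2
    · have h3 := H.ti (K.q 0)
      have e : i a = t⁻¹ * (t * i a) := by group
      have h4 : t⁻¹ * i (K.q 0) = i (K.q 0) * t⁻¹ := by rw [P.t_inv H, h3]
      calc i a * i (K.q 0) = t⁻¹ * (t * i a * i (K.q 0)) := by group
        _ = (t⁻¹ * i (K.q 0)) * (t * i a) := by rw [h2]; group
        _ = _ := by rw [h4]; group
  rw [← map_mul, ← map_mul] at key
  exact H.inj key

theorem t_notMem {D : Subgroup Y} : t ∉ D.map i := by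
  rintro ⟨a, -, h⟩
  exact H.tY a h

/-- `U` normalises `M` -/
theorem U_M (W : KTW K) {a m : Y} (ha : a ∈ K.U) (hm : m ∈ Mm K) : a * m * a⁻¹ ∈ Mm K := by
  have hmU := (mem_Mm.1 hm).1
  rw [mem_Mm]
  refine ⟨mul_mem (mul_mem ha hmU) (inv_mem ha), ?_⟩
  have c1 : Commute m (K.q 0) := (mem_Mm.1 hm).2
  have c2 : Commute m K.z := SOne.Pz K (K.U_le_P hmU)
  have key : ∀ w : Y, a⁻¹ * K.q 0 * a = w → Commute m w → Commute (a * m * a⁻¹) (K.q 0) := by
    intro w e h
    have e2 : K.q 0 = a * w * a⁻¹ := by rw [← e]; group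
    rw [e2]
    exact (Commute.conj_iff a).2 h
  rcases U_q W ha with h | h
  · exact (key _ h c1).eq
  · exact (key _ h (c1.mul_right c2)).eq

/-- `S` normalises `i M` -/
theorem SS_M (W : KTW K) {g : G} (hg : g ∈ SS H) {m : Y} (hm : m ∈ Mm K) : ∃ m' ∈ Mm K, g * i m * g⁻¹ = i m' := by
  have hT : ∀ a ∈ T H, ∀ m ∈ Mm K, ∃ m' ∈ Mm K, a * i m * a⁻¹ = i m' := by
    intro a ha m hm
    obtain ⟨b, hb, rfl | rfl⟩ := ha
    · exact ⟨_, U_M H W hb hm, by rw [map_mul, map_mul, map_inv]⟩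
    · refine ⟨_, U_M H W hb hm, ?_⟩
      have h1 := P.t_inv H
      have h2 := H.ti (b * m * b⁻¹)
      calc t * i b * i m * (t * i b)⁻¹ = t * i (b * m * b⁻¹) * t⁻¹ := by rw [map_mul, map_mul, map_inv]; group
        _ = i (b * m * b⁻¹) := by rw [h2]; group
  have hy : ∀ m ∈ Mm K, ∃ m' ∈ Mm K, y * i m * y⁻¹ = i m' := by
    intro m hm
    rw [P.y_inv H]
    exact y_M H hm
  have hy2 : ∀ m ∈ Mm K, ∃ m' ∈ Mm K, y2 W i y * i m * (y2 W i y)⁻¹ = i m' := by
    intro m hm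
    rw [y2_inv W H]
    exact y2_M W H hm
  have hmul : ∀ a b : G, (∀ m ∈ Mm K, ∃ m' ∈ Mm K, a * i m * a⁻¹ = i m') →
      (∀ m ∈ Mm K, ∃ m' ∈ Mm K, b * i m * b⁻¹ = i m') → ∀ m ∈ Mm K, ∃ m' ∈ Mm K, a * b * i m * (a * b)⁻¹ = i m' := by
    intro a b ha hb m hm
    obtain ⟨m', hm', h⟩ := hb m hm
    obtain ⟨m'', hm'', h'⟩ := ha m' hm'
    refine ⟨m'', hm'', ?_⟩
    rw [← h', ← h]
    group
  obtain ⟨a, ha, rfl | rfl | rfl | rfl⟩ := SS_cases W H hg
  · exact hT _ ha m hm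
  · exact hmul _ _ hy (hT a ha) m hm
  · exact hmul _ _ hy2 (hT a ha) m hm
  · exact hmul _ _ (hmul _ _ hy hy2) (hT a ha) m hm

/-- `i M` in `S` -/
def Ms (H : WDefs.PosW K i t y) : Subgroup (SS H) := ((Mm K).map i).subgroupOf (SS H)

theorem mem_Ms {g : SS H} : g ∈ Ms H ↔ ∃ m ∈ Mm K, i m = g := by
  unfold Ms
  rw [Subgroup.mem_subgroupOf]
  rfl

theorem Ms_normal (W : KTW K) : (Ms H).Normal := by
  constructor
  intro m hm g
  obtain ⟨m', hm', h⟩ := (mem_Ms H).1 hm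
  obtain ⟨m'', hm'', h'⟩ := SS_M H W g.2 hm'
  refine (mem_Ms H).2 ⟨m'', hm'', ?_⟩
  rw [← h', h]
  rfl

/-- **`t ∉ [S, S]`** -/
theorem t_comm (W : KTW K) : (⟨t, T_le W H (t_T H)⟩ : SS H) ∉ commutator (SS H) := by
  intro hcomm
  have hn := Ms_normal H W
  let π : SS H →* SS H ⧸ Ms H := QuotientGroup.mk' (Ms H)
  have hπ : ∀ g : SS H, π g = 1 ↔ g ∈ Ms H := fun g => QuotientGroup.eq_one_iff g
  have hπs : Function.Surjective π := QuotientGroup.mk'_surjective _
  have hiU : ∀ a ∈ K.U, i a ∈ SS H := fun a ha => T_le W H ⟨a, ha, Or.inl rfl⟩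
  let t' : SS H := ⟨t, T_le W H (t_T H)⟩
  let y' : SS H := ⟨y, y_SS H⟩
  let s' : SS H := ⟨y2 W i y, y2_SS W H⟩
  -- the images of `i U`
  have hzM : K.z ∈ Mm K := mem_Mm.2 ⟨K.Q_le_U (SOne.z_Q K), (q_z 0).symm⟩
  have hqM : K.q 0 ∈ Mm K := mem_Mm.2 ⟨K.Q_le_U (K.A_le_Q (K.q_A 0)), rfl⟩
  have eqπ : ∀ a b : SS H, (∃ m ∈ Mm K, (a : G) = i m * b) → π a = π b := by
    rintro a b ⟨m, hm, h⟩
    rw [← mul_inv_eq_one, ← map_inv, ← map_mul, hπ, mem_Ms H]
    refine ⟨m, hm, ?_⟩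
    show i m = (a : G) * (b : G)⁻¹
    rw [h]
    group
  have ht1 : π t' ≠ 1 := by
    rw [Ne, hπ, mem_Ms H]
    rintro ⟨m, hm, h⟩
    exact H.tY m h
  have htt : π t' * π t' = 1 := by
    rw [← map_mul]
    have e : t' * t' = 1 := Subtype.ext H.tt
    rw [e, map_one]
  have hyy : π y' * π y' = 1 := by
    rw [← map_mul]
    have e : y' * y' = 1 := Subtype.ext H.yy
    rw [e, map_one]
  have hss : π s' * π s' = 1 := by
    rw [← map_mul]
    have e : s' * s' = 1 := Subtype.ext (y2y2 W H)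
    rw [e, map_one]
  -- `t` and `y` commute
  have cty : Commute (π t') (π y') := by
    show π t' * π y' = π y' * π t'
    rw [← map_mul, ← map_mul]
    apply eqπ
    refine ⟨K.z, hzM, ?_⟩
    show t * y = i K.z * (y * t)
    have h1 : y * t = t * i K.z * y := by
      calc y * t = (y * t * y) * y := by rw [mul_assoc (y * t), H.yy, mul_one]
        _ = _ := by rw [H.yt]
    rw [h1, ← mul_assoc, ← mul_assoc, ← H.ti K.z, mul_assoc t, P.zz' H, mul_one]
  have cts : Commute (π t') (π s') := by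
    show π t' * π s' = π s' * π t'
    rw [← map_mul, ← map_mul]
    apply eqπ
    refine ⟨K.q 0, hqM, ?_⟩
    show t * y2 W i y = i (K.q 0) * (y2 W i y * t)
    have h1 : y2 W i y * t = t * i (K.q 0) * y2 W i y := by
      calc y2 W i y * t = (y2 W i y * t * y2 W i y) * y2 W i y := by
            rw [mul_assoc (y2 W i y * t), y2y2 W H, mul_one]
        _ = _ := by rw [y2_t W H]
    rw [h1, ← mul_assoc, ← mul_assoc, ← H.ti (K.q 0), mul_assoc t, P.qq' H, mul_one]
  let ub : ∀ a ∈ K.U, SS H ⧸ Ms H := fun a ha => π ⟨i a, hiU a ha⟩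
  have ctu : ∀ a (ha : a ∈ K.U), Commute (π t') (ub a ha) := by
    intro a ha
    show π t' * π _ = π _ * π t'
    rw [← map_mul, ← map_mul]
    congr 1
    exact Subtype.ext (H.ti a)
  have cuu : ∀ a (ha : a ∈ K.U) b (hb : b ∈ K.U), Commute (ub a ha) (ub b hb) := by
    intro a ha b hb
    show π _ * π _ = π _ * π _
    rw [← map_mul, ← map_mul]
    apply eqπ
    refine ⟨a * b * a⁻¹ * b⁻¹, mem_Mm.2 ⟨mul_mem (mul_mem (mul_mem ha hb) (inv_mem ha)) (inv_mem hb), ?_⟩, ?_⟩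
    · -- the commutator centralises `q 0`
      have hz : ∀ c ∈ K.U, c * K.z * c⁻¹ = K.z := fun c hc => by
        rw [SOne.Pz K (K.U_le_P hc), mul_inv_cancel_right]
      have hc : ∀ c ∈ K.U, ∃ w : Y, (w = 1 ∨ w = K.z) ∧ c * K.q 0 * c⁻¹ = K.q 0 * w := by
        intro c hc
        have h := U_q W (inv_mem hc)
        rw [inv_inv] at h
        rcases h with h | h
        · exact ⟨1, Or.inl rfl, by rw [mul_one]; exact h⟩
        · exact ⟨K.z, Or.inr rfl, h⟩
      have hw : ∀ c ∈ K.U, ∀ w : Y, (w = 1 ∨ w = K.z) → c * w * c⁻¹ = w := by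
        rintro c hc w (rfl | rfl)
        · group
        · exact hz c hc
      have hww : ∀ w : Y, (w = 1 ∨ w = K.z) → w * w = 1 := by
        rintro w (rfl | rfl)
        · exact one_mul 1
        · exact K.zz
      have hwc : ∀ w w' : Y, (w = 1 ∨ w = K.z) → (w' = 1 ∨ w' = K.z) → w * w' = w' * w := by
        rintro w w' (rfl | rfl) (rfl | rfl) <;> group
      obtain ⟨w, hw1, h1⟩ := hc a ha
      obtain ⟨w', hw1', h2⟩ := hc b hb
      obtain ⟨v, hv1, h3⟩ := hc a⁻¹ (inv_mem ha)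
      obtain ⟨v', hv1', h4⟩ := hc b⁻¹ (inv_mem hb)
      rw [inv_inv] at h3 h4
      have e3 : v = w := by
        have h5 : a * (a⁻¹ * K.q 0 * a) * a⁻¹ = K.q 0 := by group
        rw [h3] at h5
        have h6 : a * (K.q 0 * v) * a⁻¹ = (a * K.q 0 * a⁻¹) * (a * v * a⁻¹) := by group
        rw [h6, h1, hw a ha v hv1, mul_assoc] at h5
        have h7 : w * v = 1 := by simpa using h5
        calc v = w * w * v := by rw [hww w hw1, one_mul]
          _ = w := by rw [mul_assoc, h7, mul_one]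
      have e4 : v' = w' := by
        have h5 : b * (b⁻¹ * K.q 0 * b) * b⁻¹ = K.q 0 := by group
        rw [h4] at h5
        have h6 : b * (K.q 0 * v') * b⁻¹ = (b * K.q 0 * b⁻¹) * (b * v' * b⁻¹) := by group
        rw [h6, h2, hw b hb v' hv1', mul_assoc] at h5
        have h7 : w' * v' = 1 := by simpa using h5
        calc v' = w' * w' * v' := by rw [hww w' hw1', one_mul]
          _ = w' := by rw [mul_assoc, h7, mul_one]
      subst e3 e4
      have h5 : (a * b * a⁻¹ * b⁻¹) * K.q 0 * (a * b * a⁻¹ * b⁻¹)⁻¹ = K.q 0 := by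
        calc (a * b * a⁻¹ * b⁻¹) * K.q 0 * (a * b * a⁻¹ * b⁻¹)⁻¹
            = a * (b * (a⁻¹ * (b⁻¹ * K.q 0 * b) * a) * b⁻¹) * a⁻¹ := by group
          _ = a * (b * ((a⁻¹ * K.q 0 * a) * (a⁻¹ * v' * a)) * b⁻¹) * a⁻¹ := by rw [h4]; group
          _ = a * (b * (K.q 0 * v * v') * b⁻¹) * a⁻¹ := by
            have h8 := hw a⁻¹ (inv_mem ha) v' hv1'
            rw [inv_inv] at h8
            rw [h3, h8]
          _ = a * ((b * K.q 0 * b⁻¹) * (b * v * b⁻¹) * (b * v' * b⁻¹)) * a⁻¹ := by group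
          _ = a * (K.q 0 * v' * v * v') * a⁻¹ := by rw [h2, hw b hb v hv1, hw b hb v' hv1']
          _ = (a * K.q 0 * a⁻¹) * (a * v' * a⁻¹) * (a * v * a⁻¹) * (a * v' * a⁻¹) := by group
          _ = K.q 0 * v * v' * v * v' := by rw [h1, hw a ha v hv1, hw a ha v' hv1']
          _ = K.q 0 * (v * (v' * v) * v') := by group
          _ = K.q 0 := by
            rw [hwc v' v hv1' hv1]
            calc K.q 0 * (v * (v * v') * v') = K.q 0 * ((v * v) * (v' * v')) := by group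
              _ = K.q 0 := by rw [hww v hv1, hww v' hv1', mul_one, mul_one]
      calc (a * b * a⁻¹ * b⁻¹) * K.q 0 = ((a * b * a⁻¹ * b⁻¹) * K.q 0 * (a * b * a⁻¹ * b⁻¹)⁻¹) * (a * b * a⁻¹ * b⁻¹) := by
            group
        _ = K.q 0 * (a * b * a⁻¹ * b⁻¹) := by rw [h5]
    · show i a * i b = i (a * b * a⁻¹ * b⁻¹) * (i b * i a)
      rw [map_mul, map_mul, map_mul, map_inv, map_inv]
      group
  have cyu : ∀ a (ha : a ∈ K.U), Commute (π y') (ub a ha) := by
    intro a ha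
    obtain ⟨a', ha', h⟩ := P.y_U H ha
    show π y' * π _ = π _ * π y'
    rw [← map_mul, ← map_mul]
    apply eqπ
    refine ⟨a' * a⁻¹, mem_Mm.2 ⟨mul_mem ha' (inv_mem ha), ?_⟩, ?_⟩
    · -- `a'` and `a` act in the same way on `q 0`
      have h1 := P.y_A H (K.q_A 0)
      have h2 : a' * K.q 0 * a'⁻¹ = a * K.q 0 * a⁻¹ := by
        have h3 := P.y_mul H (P.y_mul H h h1) (P.y_inv' H h)
        have h4 : a * K.q 0 * a⁻¹ ∈ K.A := K.nor_A a (K.U_le_P ha) _ (K.q_A 0)
        rw [P.y_A H h4] at h3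
        exact (H.inj h3).symm
      have h5 : a'⁻¹ * (a * K.q 0 * a⁻¹) * a' = K.q 0 := by rw [← h2]; group
      have h6 : a⁻¹ * (a' * K.q 0 * a'⁻¹) * a = K.q 0 := by rw [h2]; group
      -- `a' a⁻¹` centralises `q 0` up to the symmetric action: use `a⁻¹ q a ∈ {q, q z}`
      have hz : ∀ c ∈ K.U, c * K.z * c⁻¹ = K.z := fun c hc => by
        rw [SOne.Pz K (K.U_le_P hc), mul_inv_cancel_right]
      have h7 : a⁻¹ * K.q 0 * a = K.q 0 ∨ a⁻¹ * K.q 0 * a = K.q 0 * K.z := U_q W ha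
      have h8 : a' * a⁻¹ * K.q 0 * (a' * a⁻¹)⁻¹ = K.q 0 := by
        have e : a' * a⁻¹ * K.q 0 * (a' * a⁻¹)⁻¹ = a' * (a⁻¹ * K.q 0 * a) * a'⁻¹ := by group
        rw [e]
        rcases h7 with h7 | h7 <;> rw [h7]
        · rw [h2]
          calc a * K.q 0 * a⁻¹ = a * (a⁻¹ * K.q 0 * a) * a⁻¹ := by rw [h7]
            _ = K.q 0 := by group
        · have e2 : a' * (K.q 0 * K.z) * a'⁻¹ = (a' * K.q 0 * a'⁻¹) * (a' * K.z * a'⁻¹) := by group
          rw [e2, h2, hz a' ha']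
          calc a * K.q 0 * a⁻¹ * K.z = a * K.q 0 * a⁻¹ * (a * K.z * a⁻¹) := by rw [hz a ha]
            _ = a * (K.q 0 * K.z) * a⁻¹ := by group
            _ = a * (a⁻¹ * K.q 0 * a) * a⁻¹ := by rw [h7]
            _ = K.q 0 := by group
      calc a' * a⁻¹ * K.q 0 = (a' * a⁻¹ * K.q 0 * (a' * a⁻¹)⁻¹) * (a' * a⁻¹) := by group
        _ = _ := by rw [h8]
    · show y * i a = i (a' * a⁻¹) * (i a * y)
      rw [map_mul, map_inv, ← h]
      calc y * i a = y * i a * (y * y) := by rw [H.yy, mul_one]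
        _ = _ := by group
  -- the abelian subgroup `L`
  let L : Subgroup (SS H ⧸ Ms H) :=
    { carrier := {g | ∃ a, ∃ ha : a ∈ K.U, ∃ b c : ℕ, g = π y' ^ b * π t' ^ c * ub a ha}
      one_mem' := ⟨1, one_mem _, 0, 0, by
        have e : (⟨i 1, hiU 1 (one_mem _)⟩ : SS H) = 1 := Subtype.ext (map_one i)
        show 1 = π y' ^ 0 * π t' ^ 0 * π _
        rw [e, map_one]
        simp⟩
      mul_mem' := by
        rintro g h ⟨a, ha, b, c, rfl⟩ ⟨a', ha', b', c', rfl⟩
        refine ⟨a * a', mul_mem ha ha', b + b', c + c', ?_⟩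
        have e : ub (a * a') (mul_mem ha ha') = ub a ha * ub a' ha' := by
          show π _ = π _ * π _
          rw [← map_mul]
          congr 1
          exact Subtype.ext (map_mul i a a')
        rw [e, pow_add, pow_add]
        have c1 : Commute (ub a ha) (π y' ^ b') := ((cyu a ha).symm).pow_right b'
        have c2 : Commute (ub a ha) (π t' ^ c') := ((ctu a ha).symm).pow_right c'
        have c3 : Commute (π t' ^ c) (π y' ^ b') := cty.pow_pow c b'
        calc π y' ^ b * π t' ^ c * ub a ha * (π y' ^ b' * π t' ^ c' * ub a' ha')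
            = π y' ^ b * π t' ^ c * (ub a ha * π y' ^ b') * π t' ^ c' * ub a' ha' := by group
          _ = π y' ^ b * (π t' ^ c * π y' ^ b') * (ub a ha * π t' ^ c') * ub a' ha' := by rw [c1.eq]; group
          _ = _ := by rw [c3.eq, c2.eq]; group
      inv_mem' := by
        rintro g ⟨a, ha, b, c, rfl⟩
        refine ⟨a⁻¹, inv_mem ha, b, c, ?_⟩
        have e : ub a⁻¹ (inv_mem ha) = (ub a ha)⁻¹ := by
          show π _ = (π _)⁻¹
          rw [← map_inv]
          congr 1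
          exact Subtype.ext (map_inv i a)
        rw [e, mul_inv_rev, mul_inv_rev, ← inv_pow, ← inv_pow, inv_eq_of_mul_eq_one_left htt,
          inv_eq_of_mul_eq_one_left hyy]
        have c1 : Commute (ub a ha)⁻¹ (π y' ^ b) := (((cyu a ha).symm).pow_right b).inv_left
        have c2 : Commute (ub a ha)⁻¹ (π t' ^ c) := (((ctu a ha).symm).pow_right c).inv_left
        have c3 : Commute (π t' ^ c) (π y' ^ b) := cty.pow_pow c b
        calc (ub a ha)⁻¹ * (π t' ^ c * π y' ^ b) = ((ub a ha)⁻¹ * (π y' ^ b)) * π t' ^ c := by rw [c3.eq]; group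
          _ = π y' ^ b * ((ub a ha)⁻¹ * π t' ^ c) := by rw [c1.eq]; group
          _ = _ := by rw [c2.eq]; group }
  have hLmem : ∀ g : SS H ⧸ Ms H, g ∈ L ↔ ∃ a, ∃ ha : a ∈ K.U, ∃ b c : ℕ, g = π y' ^ b * π t' ^ c * ub a ha :=
    fun g => Iff.rfl
  have hab : ∀ a ∈ L, ∀ b ∈ L, a * b = b * a := by
    rintro g ⟨a, ha, b, c, rfl⟩ h ⟨a', ha', b', c', rfl⟩
    have k1 : Commute (π y' ^ b) (π y' ^ b' * π t' ^ c' * ub a' ha') :=
      (((Commute.refl (π y')).pow_pow b b').mul_right (cty.symm.pow_pow b c')).mul_right ((cyu a' ha').pow_left b)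
    have k2 : Commute (π t' ^ c) (π y' ^ b' * π t' ^ c' * ub a' ha') :=
      ((cty.pow_pow c b').mul_right ((Commute.refl (π t')).pow_pow c c')).mul_right ((ctu a' ha').pow_left c)
    have k3 : Commute (ub a ha) (π y' ^ b' * π t' ^ c' * ub a' ha') :=
      (((cyu a ha).symm.pow_right b').mul_right ((ctu a ha).symm.pow_right c')).mul_right (cuu a ha a' ha')
    exact ((k1.mul_left k2).mul_left k3).eq
  have huL : ∀ a (ha : a ∈ K.U), ub a ha ∈ L := fun a ha => ⟨a, ha, 0, 0, by simp⟩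
  have hTL : ∀ a (ha : a ∈ T H), π ⟨a, T_le W H ha⟩ ∈ L := by
    intro a ha
    obtain ⟨b, hb, h⟩ := ha
    rcases h with rfl | rfl
    · exact huL b hb
    · refine ⟨b, hb, 0, 1, ?_⟩
      have e : (⟨t * i b, T_le W H ⟨b, hb, Or.inr rfl⟩⟩ : SS H) = t' * ⟨i b, hiU b hb⟩ := Subtype.ext rfl
      rw [e, map_mul, pow_zero, one_mul, pow_one]
  have hyL : π y' ∈ L := ⟨1, one_mem _, 1, 0, by
    have e : ub 1 (one_mem _) = 1 := by
      show π _ = 1
      have e : (⟨i 1, hiU 1 (one_mem _)⟩ : SS H) = 1 := Subtype.ext (map_one i)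
      rw [e, map_one]
    rw [e, pow_one, pow_zero, mul_one, mul_one]⟩
  have htL : π t' ∈ L := hTL t (t_T H)
  -- the elements of `S` which move `t` into `t⟨z⟩` lie over `L`
  have hL2 : ∀ g : SS H, ((g : G) * t = t * g ∨ (g : G) * t * (g : G)⁻¹ = t * i K.z) → π g ∈ L := by
    rintro g (h | h)
    · exact hTL g.1 ((SS_cent W H g.2).1 h)
    · have h1 : (y⁻¹ * (g : G)) * t = t * (y⁻¹ * g) := by
        have h2 : y * t * y⁻¹ = t * i K.z := by rw [P.y_inv H]; exact H.yt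
        calc (y⁻¹ * (g : G)) * t = y⁻¹ * ((g : G) * t * (g : G)⁻¹) * g := by group
          _ = y⁻¹ * (y * t * y⁻¹) * g := by rw [h, h2]
          _ = _ := by group
      have h3 := hTL _ ((SS_cent W H (mul_mem (inv_mem (y_SS H)) g.2)).1 h1)
      have e : g = y' * ⟨y⁻¹ * (g : G), T_le W H ((SS_cent W H (mul_mem (inv_mem (y_SS H)) g.2)).1 h1)⟩ := by
        apply Subtype.ext
        show (g : G) = y * (y⁻¹ * g)
        group
      rw [e, map_mul]
      exact mul_mem hyL h3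
  have hs'i : s'⁻¹ = s' := Subtype.ext (y2_inv W H)
  -- `S = L ∪ s L`
  have hcov : ∀ g : SS H ⧸ Ms H, g ∈ L ∨ (π s')⁻¹ * g ∈ L := by
    intro g
    obtain ⟨g, rfl⟩ := hπs g
    obtain ⟨v, hv, h⟩ := g.2.2
    have hqz : i (K.q 0) * i K.z = i K.z * i (K.q 0) := P.qz' H 0
    have hmove : (y2 W i y)⁻¹ * (g : G) * t * ((y2 W i y)⁻¹ * (g : G))⁻¹ = y2 W i y * (t * i v) * y2 W i y := by
      rw [y2_inv W H, ← h]
      have := y2_inv W H
      calc y2 W i y * (g : G) * t * (y2 W i y * (g : G))⁻¹ = y2 W i y * ((g : G) * t * (g : G)⁻¹) * (y2 W i y)⁻¹ := by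
            group
        _ = _ := by rw [this]
    have hsplit : ∀ x w : G, y2 W i y * (x * w) * y2 W i y = (y2 W i y * x * y2 W i y) * (y2 W i y * w * y2 W i y) := by
      intro x w
      calc y2 W i y * (x * w) * y2 W i y = y2 W i y * x * 1 * w * y2 W i y := by group
        _ = _ := by rw [← y2y2 W H]; group
    rcases mem_vv.1 hv with rfl | rfl | rfl | rfl
    · left
      apply hL2
      left
      rw [map_one, mul_one] at h
      calc (g : G) * t = ((g : G) * t * (g : G)⁻¹) * g := by group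
        _ = t * g := by rw [h]
    · left
      exact hL2 g (Or.inr h)
    · right
      rw [← map_inv, ← map_mul]
      apply hL2
      left
      rw [hsplit, y2_t W H, y2_q0 W H, mul_assoc t (i (K.q 0)), P.qq' H, mul_one] at hmove
      show (y2 W i y)⁻¹ * (g : G) * t = t * ((y2 W i y)⁻¹ * (g : G))
      calc (y2 W i y)⁻¹ * (g : G) * t = ((y2 W i y)⁻¹ * (g : G) * t * ((y2 W i y)⁻¹ * (g : G))⁻¹) *
            ((y2 W i y)⁻¹ * (g : G)) := by group
        _ = _ := by rw [hmove]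
    · right
      rw [← map_inv, ← map_mul]
      apply hL2
      right
      rw [hsplit, y2_t W H, map_mul, hsplit, y2_z W H, y2_q0 W H] at hmove
      show (y2 W i y)⁻¹ * (g : G) * t * ((y2 W i y)⁻¹ * (g : G))⁻¹ = t * i K.z
      rw [hmove]
      calc t * i (K.q 0) * (i K.z * i (K.q 0)) = t * i (K.q 0) * (i (K.q 0) * i K.z) := by rw [hqz]
        _ = t * (i (K.q 0) * i (K.q 0)) * i K.z := by group
        _ = _ := by rw [P.qq' H, mul_one]
  -- `s` normalises `L`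
  have hsL : ∀ a ∈ L, π s' * a * (π s')⁻¹ ∈ L := by
    intro a ha
    obtain ⟨g, rfl⟩ := hπs a
    have hsplit : ∀ x w : G, y2 W i y * (x * w) * y2 W i y = (y2 W i y * x * y2 W i y) * (y2 W i y * w * y2 W i y) := by
      intro x w
      calc y2 W i y * (x * w) * y2 W i y = y2 W i y * x * 1 * w * y2 W i y := by group
        _ = _ := by rw [← y2y2 W H]; group
    rcases hcov (π s' * π g * (π s')⁻¹) with h | h
    · exact h
    · -- otherwise `g s ∈ L`
      exfalso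
      have e : (π s')⁻¹ * (π s' * π g * (π s')⁻¹) = π g * (π s')⁻¹ := by group
      rw [e] at h
      have h2 : (π s')⁻¹ ∈ L := by
        have h3 := mul_mem (inv_mem ha) h
        rwa [inv_mul_cancel_left] at h3
      have h3 : π s' ∈ L := inv_mem_iff.1 h2
      -- `s` does not move `t` into `t⟨z⟩`
      obtain ⟨a, ha, b, c, h4⟩ := h3
      have h5 : ∃ m ∈ Mm K, (s' : G) = i m * (y ^ b * t ^ c * i a) := by
        have h6 : π (s' * (y' ^ b * t' ^ c * ⟨i a, hiU a ha⟩)⁻¹) = 1 := by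
          rw [map_mul, map_inv, map_mul, map_mul, map_pow, map_pow, h4, mul_inv_cancel]
        obtain ⟨m, hm, h7⟩ := (mem_Ms H).1 ((hπ _).1 h6)
        refine ⟨m, hm, ?_⟩
        rw [h7]
        show (s' : G) = (s' : G) * (y ^ b * t ^ c * i a)⁻¹ * (y ^ b * t ^ c * i a)
        group
      obtain ⟨m, hm, h6⟩ := h5
      have h7 : y2 W i y * t * (y2 W i y)⁻¹ = t * i (K.q 0) := by rw [y2_inv W H]; exact y2_t W H
      have h8 : (s' : G) = y2 W i y := rfl
      rw [h8] at h6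
      -- the action of `y ^ b`
      have hyb : ∀ b : ℕ, ∃ v : G, (v = 1 ∨ v = i K.z) ∧ y ^ b * t * (y ^ b)⁻¹ = t * v := by
        intro b
        induction b with
        | zero => exact ⟨1, Or.inl rfl, by group⟩
        | succ b ih =>
          obtain ⟨v, hv, h⟩ := ih
          have e1 : y ^ (b + 1) * t * (y ^ (b + 1))⁻¹ = y * (y ^ b * t * (y ^ b)⁻¹) * y⁻¹ := by rw [pow_succ']; group
          have hyt : y * t * y⁻¹ = t * i K.z := by rw [P.y_inv H]; exact H.yt
          rcases hv with rfl | rfl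
          · refine ⟨i K.z, Or.inr rfl, ?_⟩
            rw [e1, h, mul_one, hyt]
          · refine ⟨1, Or.inl rfl, ?_⟩
            have h9 := P.yzc H
            rw [e1, h]
            calc y * (t * i K.z) * y⁻¹ = (y * t * y⁻¹) * (y * i K.z) * y⁻¹ := by group
              _ = t * (i K.z * i K.z) := by rw [hyt, h9]; group
              _ = t * 1 := by rw [P.zz' H]
      obtain ⟨v, hv, h9⟩ := hyb b
      have h10 : t ^ c * i a * t * (t ^ c * i a)⁻¹ = t := by
        have k1 : Commute (t ^ c) t := (Commute.refl t).pow_left c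
        have k2 : Commute (i a) t := (H.ti a).symm
        have := (k1.mul_left k2).eq
        rw [this, mul_inv_cancel_right]
      have h11 : y2 W i y * t * (y2 W i y)⁻¹ = t * v := by
        rw [h6]
        have hmv : i m * (t * v) * (i m)⁻¹ = t * v := by
          have k1 : Commute (i m) t := (H.ti m).symm
          have k2 : Commute (i m) v := by
            rcases hv with rfl | rfl
            · exact Commute.one_right _
            · show i m * i K.z = i K.z * i m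
              rw [← map_mul, ← map_mul, SOne.Pz K (K.U_le_P (mem_Mm.1 hm).1)]
          rw [(k1.mul_right k2).eq, mul_inv_cancel_right]
        calc i m * (y ^ b * t ^ c * i a) * t * (i m * (y ^ b * t ^ c * i a))⁻¹
            = i m * (y ^ b * (t ^ c * i a * t * (t ^ c * i a)⁻¹) * (y ^ b)⁻¹) * (i m)⁻¹ := by group
          _ = t * v := by rw [h10, h9, hmv]
      rw [h7] at h11
      have h12 := mul_left_cancel h11
      rcases hv with rfl | rfl
      · exact q0_ne (H.inj (by rw [h12, map_one]))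
      · exact q0_ne_z (H.inj h12)
  have hssL : π s' * π s' ∈ L := by rw [hss]; exact one_mem _
  -- apply the lemma on commutators
  have hcomm2 : π t' ∈ commutator (SS H ⧸ Ms H) := by
    have h1 : (commutator (SS H)).map π ≤ commutator (SS H ⧸ Ms H) := by
      rw [commutator_def, commutator_def, Subgroup.map_commutator]
      exact Subgroup.commutator_mono le_top le_top
    exact h1 ⟨t', hcomm, rfl⟩
  obtain ⟨l, hl, hle⟩ := ExtT.comm_of_index_two hcov hab hsL hssL hcomm2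
  have hsi : (π s')⁻¹ = π s' := inv_eq_of_mul_eq_one_left hss
  -- the element `w`
  have hr : K.r ∈ K.U := K.Q_le_U K.r_Q
  let ρ : SS H := ⟨i K.r, hiU _ hr⟩
  have hrz : i K.r * i K.z = i K.z * i K.r := by
    rw [← map_mul, ← map_mul, SOne.Pz K (K.U_le_P hr)]
  have hr0 : (i K.r)⁻¹ * i (K.q 0) * i K.r = i (K.q 0) * i K.z := by
    rw [← map_inv, ← map_mul, ← map_mul, K.r0, map_mul]
  have hr0' : i K.r * i (K.q 0) * (i K.r)⁻¹ = i (K.q 0) * i K.z := by
    calc i K.r * i (K.q 0) * (i K.r)⁻¹ = i K.r * ((i (K.q 0) * i K.z) * i K.z) * (i K.r)⁻¹ := by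
          rw [mul_assoc (i (K.q 0)), P.zz' H, mul_one]
      _ = i K.r * ((i K.r)⁻¹ * i (K.q 0) * i K.r * i K.z) * (i K.r)⁻¹ := by rw [hr0]
      _ = i (K.q 0) * (i K.r * i K.z) * (i K.r)⁻¹ := by group
      _ = _ := by rw [hrz]; group
  have hy2z := y2_z W H
  have hy2q := y2_q0 W H
  have hy2t := y2_t W H
  have hy2i := y2_inv W H
  have hy2zc : y2 W i y * i K.z = i K.z * y2 W i y := by
    calc y2 W i y * i K.z = y2 W i y * i K.z * (y2 W i y * y2 W i y) := by rw [y2y2 W H, mul_one]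
      _ = (y2 W i y * i K.z * y2 W i y) * y2 W i y := by group
      _ = _ := by rw [hy2z]
  have hy2qc : y2 W i y * i (K.q 0) = i (K.q 0) * y2 W i y := by
    calc y2 W i y * i (K.q 0) = y2 W i y * i (K.q 0) * (y2 W i y * y2 W i y) := by rw [y2y2 W H, mul_one]
      _ = (y2 W i y * i (K.q 0) * y2 W i y) * y2 W i y := by group
      _ = _ := by rw [hy2q]
  let w : SS H := ρ * s' * ρ⁻¹ * s'⁻¹
  have hwv : (w : G) = i K.r * y2 W i y * (i K.r)⁻¹ * (y2 W i y)⁻¹ := rfl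
  have hwt : (w : G) * t * (w : G)⁻¹ = t * i K.z := by
    have hrt := t_k H K.r
    have hrt' := t_k' H K.r
    rw [hwv]
    calc i K.r * y2 W i y * (i K.r)⁻¹ * (y2 W i y)⁻¹ * t * (i K.r * y2 W i y * (i K.r)⁻¹ * (y2 W i y)⁻¹)⁻¹
        = i K.r * (y2 W i y * ((i K.r)⁻¹ * ((y2 W i y)⁻¹ * t * y2 W i y) * i K.r) * (y2 W i y)⁻¹) * (i K.r)⁻¹ := by
          group
      _ = i K.r * (y2 W i y * ((i K.r)⁻¹ * (t * i (K.q 0)) * i K.r) * y2 W i y) * (i K.r)⁻¹ := by
        rw [hy2i, hy2t]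
      _ = i K.r * (y2 W i y * (((i K.r)⁻¹ * t * i K.r) * ((i K.r)⁻¹ * i (K.q 0) * i K.r)) * y2 W i y) *
          (i K.r)⁻¹ := by group
      _ = i K.r * (y2 W i y * t * (i (K.q 0) * (i K.z * y2 W i y))) * (i K.r)⁻¹ := by
        rw [hrt, hr0]; group
      _ = i K.r * (y2 W i y * t * ((i (K.q 0) * y2 W i y) * i K.z)) * (i K.r)⁻¹ := by rw [← hy2zc]; group
      _ = i K.r * ((y2 W i y * t * y2 W i y) * i (K.q 0) * i K.z) * (i K.r)⁻¹ := by rw [← hy2qc]; group
      _ = i K.r * (t * (i (K.q 0) * i (K.q 0)) * i K.z) * (i K.r)⁻¹ := by rw [hy2t]; group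
      _ = (i K.r * t * (i K.r)⁻¹) * (i K.r * i K.z) * (i K.r)⁻¹ := by rw [P.qq' H]; group
      _ = t * i K.z := by rw [hrt', hrz]; group
  have hwq : (w : G) * i (K.q 0) = i (K.q 0) * (w : G) := by
    have h1 : (w : G) * i (K.q 0) * (w : G)⁻¹ = i (K.q 0) := by
      rw [hwv]
      calc i K.r * y2 W i y * (i K.r)⁻¹ * (y2 W i y)⁻¹ * i (K.q 0) *
            (i K.r * y2 W i y * (i K.r)⁻¹ * (y2 W i y)⁻¹)⁻¹
          = i K.r * (y2 W i y * ((i K.r)⁻¹ * ((y2 W i y)⁻¹ * i (K.q 0) * y2 W i y) * i K.r) * (y2 W i y)⁻¹) *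
            (i K.r)⁻¹ := by group
        _ = i K.r * (y2 W i y * ((i K.r)⁻¹ * i (K.q 0) * i K.r) * y2 W i y) * (i K.r)⁻¹ := by
          rw [hy2i, hy2q]
        _ = i K.r * (y2 W i y * i (K.q 0) * (i K.z * y2 W i y)) * (i K.r)⁻¹ := by rw [hr0]; group
        _ = i K.r * ((y2 W i y * i (K.q 0) * y2 W i y) * i K.z) * (i K.r)⁻¹ := by rw [← hy2zc]; group
        _ = (i K.r * i (K.q 0) * (i K.r)⁻¹) * (i K.r * i K.z) * (i K.r)⁻¹ := by rw [hy2q]; group
        _ = i (K.q 0) * (i K.z * i K.z) := by rw [hr0', hrz]; group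
        _ = i (K.q 0) := by rw [P.zz' H, mul_one]
    calc (w : G) * i (K.q 0) = ((w : G) * i (K.q 0) * (w : G)⁻¹) * w := by group
      _ = _ := by rw [h1]
  -- `π w = π y * (π t)^c`
  have hwL : ∃ c : ℕ, π w = π y' * π t' ^ c := by
    have h1 : (y⁻¹ * (w : G)) * t = t * (y⁻¹ * w) := by
      have h2 : y * t * y⁻¹ = t * i K.z := by rw [P.y_inv H]; exact H.yt
      calc (y⁻¹ * (w : G)) * t = y⁻¹ * ((w : G) * t * (w : G)⁻¹) * w := by group
        _ = y⁻¹ * (y * t * y⁻¹) * w := by rw [hwt, h2]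
        _ = _ := by group
    have h3 : (y⁻¹ * (w : G)) * i (K.q 0) = i (K.q 0) * (y⁻¹ * w) := by
      have h4 := H.yA _ (K.q_A 0)
      rw [P.y_inv H, mul_assoc, hwq, ← mul_assoc, h4, mul_assoc]
    obtain ⟨m, hm, h5⟩ := mem_tM H W (mul_mem (inv_mem (y_SS H)) w.2) h1 h3
    rcases h5 with h5 | h5
    · refine ⟨0, ?_⟩
      rw [pow_zero, mul_one]
      have e : w = y' * ⟨i m, hiU m (mem_Mm.1 hm).1⟩ := by
        apply Subtype.ext
        show (w : G) = y * i m
        rw [← h5]; group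
      have e2 : π ⟨i m, hiU m (mem_Mm.1 hm).1⟩ = 1 := (hπ _).2 ((mem_Ms H).2 ⟨m, hm, rfl⟩)
      rw [e, map_mul, e2, mul_one]
    · refine ⟨1, ?_⟩
      have e : w = y' * (t' * ⟨i m, hiU m (mem_Mm.1 hm).1⟩) := by
        apply Subtype.ext
        show (w : G) = y * (t * i m)
        rw [← h5]; group
      have e2 : π ⟨i m, hiU m (mem_Mm.1 hm).1⟩ = 1 := (hπ _).2 ((mem_Ms H).2 ⟨m, hm, rfl⟩)
      rw [e, map_mul, map_mul, e2, mul_one, pow_one]
  obtain ⟨c, hc⟩ := hwL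
  have hysc : π s' * π y' * π s' = π y' := by
    have h1 : π s' * π w * (π s')⁻¹ = (π w)⁻¹ := by
      show π s' * π (ρ * s' * ρ⁻¹ * s'⁻¹) * (π s')⁻¹ = (π (ρ * s' * ρ⁻¹ * s'⁻¹))⁻¹
      rw [map_mul, map_mul, map_mul, map_inv, map_inv, hsi]
      calc π s' * (π ρ * π s' * (π ρ)⁻¹ * π s') * π s' = π s' * π ρ * π s' * (π ρ)⁻¹ * (π s' * π s') := by group
        _ = π s' * π ρ * π s' * (π ρ)⁻¹ := by rw [hss, mul_one]
        _ = (π s')⁻¹ * π ρ * (π s')⁻¹ * (π ρ)⁻¹ := by rw [hsi]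
        _ = _ := by group
    have h2 : (π w)⁻¹ = π w := by
      apply inv_eq_of_mul_eq_one_left
      rw [hc]
      have k1 : Commute (π t' ^ c) (π y') := cty.pow_left c
      calc π y' * π t' ^ c * (π y' * π t' ^ c) = π y' * (π t' ^ c * π y') * π t' ^ c := by group
        _ = (π y' * π y') * (π t' ^ c * π t' ^ c) := by rw [k1.eq]; group
        _ = 1 := by rw [hyy, one_mul, ← (Commute.refl (π t')).mul_pow, htt, one_pow]
    rw [h2, hc, hsi] at h1
    have k1 : Commute (π t' ^ c) (π s') := cts.pow_left c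
    have h3 : π s' * (π y' * π t' ^ c) * π s' = (π s' * π y' * π s') * π t' ^ c := by
      calc π s' * (π y' * π t' ^ c) * π s' = π s' * π y' * (π t' ^ c * π s') := by group
        _ = _ := by rw [k1.eq]; group
    rw [h3] at h1
    exact mul_right_cancel h1
  -- `l = π y ^ b * π t ^ c' * π (i m)`
  obtain ⟨a, ha, b, c', hl'⟩ := hl
  -- `a ∈ M`
  have haM : a ∈ Mm K := by
    by_contra haM
    have hza : i a * i K.z = i K.z * i a := by
      rw [← map_mul, ← map_mul, SOne.Pz K (K.U_le_P ha)]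
    have haq : (i a)⁻¹ * i (K.q 0) * i a = i (K.q 0) * i K.z := by
      rcases U_q W ha with h | h
      · exfalso
        apply haM
        rw [mem_Mm]
        refine ⟨ha, ?_⟩
        calc a * K.q 0 = a * (a⁻¹ * K.q 0 * a) := by rw [h]
          _ = _ := by group
      · rw [← map_inv, ← map_mul, ← map_mul, h, map_mul]
    let g : SS H := ⟨i a, hiU a ha⟩
    let e' : SS H := g * s' * g⁻¹ * s'⁻¹
    -- modulo `⟨y, t⟩` we have `[g, s] ∈ π t L₀`
    have h1 : π e' = π t' ∨ π e' = π t' * (π y' * π s' * (π y')⁻¹ * (π s')⁻¹)⁻¹ ∨ True := Or.inr (Or.inr trivial)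
    -- first, `y` and `s` commute modulo `M`
    have cys : Commute (π y') (π s') := by
      show π y' * π s' = π s' * π y'
      calc π y' * π s' = (π s' * π y' * π s') * π s' := by rw [hysc]
        _ = π s' * π y' * (π s' * π s') := by group
        _ = _ := by rw [hss, mul_one]
    have h2 : π t' = ub a ha * (π s' * (ub a ha)⁻¹ * (π s')⁻¹) := by
      rw [hle, hl']
      have k1 : Commute (π y' ^ b) (π s') := cys.pow_left b
      have k2 : Commute (π t' ^ c') (π s') := cts.pow_left c'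
      have k3 : Commute (π y' ^ b * π t' ^ c') (π s') := k1.mul_left k2
      have k4 : Commute (π y' ^ b * π t' ^ c') (ub a ha) :=
        ((cyu a ha).pow_left b).mul_left ((ctu a ha).pow_left c')
      set D := π y' ^ b * π t' ^ c'
      calc D * ub a ha * (π s' * (D * ub a ha)⁻¹ * (π s')⁻¹)
          = D * ub a ha * (π s' * (ub a ha)⁻¹ * D⁻¹ * (π s')⁻¹) := by group
        _ = ub a ha * D * (π s' * (ub a ha)⁻¹ * D⁻¹ * (π s')⁻¹) := by rw [k4.eq]
        _ = ub a ha * (D * (π s' * (ub a ha)⁻¹)) * (D⁻¹ * (π s')⁻¹) := by group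
        _ = ub a ha * ((π s' * (ub a ha)⁻¹) * D) * (D⁻¹ * (π s')⁻¹) := by
          rw [(k3.mul_right k4.inv_right).eq]
        _ = _ := by group
    have h3 : π (t'⁻¹ * (g * (s' * g⁻¹ * s'⁻¹))) = 1 := by
      rw [map_mul, map_inv, map_mul, map_mul, map_mul, map_inv, map_inv]
      show (π t')⁻¹ * (ub a ha * (π s' * (ub a ha)⁻¹ * (π s')⁻¹)) = 1
      rw [← h2, inv_mul_cancel]
    obtain ⟨m, hm, h4⟩ := (mem_Ms H).1 ((hπ _).1 h3)
    -- the element `e = g s g⁻¹ s⁻¹ = t i m` centralises `t`, but moves `t` to `t z`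
    have h5 : i a * (y2 W i y * (i a)⁻¹ * (y2 W i y)⁻¹) = t * i m := by
      rw [h4]
      show _ = t * (t⁻¹ * (i a * (y2 W i y * (i a)⁻¹ * (y2 W i y)⁻¹)))
      group
    have hat := t_k H a
    have hat' := t_k' H a
    have h6 : (t * i m) * t * (t * i m)⁻¹ = t := by
      have k2 : Commute (i m) t := (H.ti m).symm
      have := ((Commute.refl t).mul_left k2).eq
      rw [this, mul_inv_cancel_right]
    rw [← h5] at h6
    have h7 : i a * (y2 W i y * (i a)⁻¹ * (y2 W i y)⁻¹) * t * (i a * (y2 W i y * (i a)⁻¹ * (y2 W i y)⁻¹))⁻¹ =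
        t * i K.z := by
      calc i a * (y2 W i y * (i a)⁻¹ * (y2 W i y)⁻¹) * t * (i a * (y2 W i y * (i a)⁻¹ * (y2 W i y)⁻¹))⁻¹
          = i a * (y2 W i y * ((i a)⁻¹ * ((y2 W i y)⁻¹ * t * y2 W i y) * i a) * (y2 W i y)⁻¹) * (i a)⁻¹ := by
            group
        _ = i a * (y2 W i y * ((i a)⁻¹ * (t * i (K.q 0)) * i a) * y2 W i y) * (i a)⁻¹ := by
          rw [hy2i, hy2t]
        _ = i a * (y2 W i y * (((i a)⁻¹ * t * i a) * ((i a)⁻¹ * i (K.q 0) * i a)) * y2 W i y) *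
            (i a)⁻¹ := by group
        _ = i a * (y2 W i y * t * (i (K.q 0) * (i K.z * y2 W i y))) * (i a)⁻¹ := by
          rw [hat, haq]; group
        _ = i a * (y2 W i y * t * ((i (K.q 0) * y2 W i y) * i K.z)) * (i a)⁻¹ := by rw [← hy2zc]; group
        _ = i a * ((y2 W i y * t * y2 W i y) * i (K.q 0) * i K.z) * (i a)⁻¹ := by rw [← hy2qc]; group
        _ = i a * (t * (i (K.q 0) * i (K.q 0)) * i K.z) * (i a)⁻¹ := by rw [hy2t]; group
        _ = (i a * t * (i a)⁻¹) * (i a * i K.z) * (i a)⁻¹ := by rw [P.qq' H]; group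
        _ = t * i K.z := by rw [hat', hza]; group
    rw [h7] at h6
    have h8 : i K.z = 1 := by simpa using h6
    exact K.z1 (H.inj (by rw [h8, map_one]))
  have hu1 : ub a ha = 1 := (hπ _).2 ((mem_Ms H).2 ⟨a, haM, rfl⟩)
  have cys : Commute (π y') (π s') := by
    show π y' * π s' = π s' * π y'
    calc π y' * π s' = (π s' * π y' * π s') * π s' := by rw [hysc]
      _ = π s' * π y' * (π s' * π s') := by group
      _ = _ := by rw [hss, mul_one]
  apply ht1
  rw [hle, hl', hu1, mul_one]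
  have k1 : Commute (π y' ^ b) (π s') := cys.pow_left b
  have k2 : Commute (π t' ^ c') (π s') := cts.pow_left c'
  have k3 : Commute (π y' ^ b * π t' ^ c') (π s') := k1.mul_left k2
  have k4 := k3.inv_left.eq
  rw [← k4]
  group

end Cfsg.Agent.OddHalf.D7Tits.WHom

end

-- merged: Cfsg.Agent.OddHalf.D7Tits.WExt
section

/-!
# D7, K = Tits, type W (helper868): the conjugates of `T` in `S`

`ext` : if `g⁻¹ T g ≤ S`, then `g⁻¹ t g ∈ t V` (so it is `S`-conjugate to `t`) or `g⁻¹ t g = t m`, `m` a `P`-conjugate of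
`q₀ q₄`.
-/

set_option autoImplicit false
set_option linter.unusedSectionVars false
set_option linter.unusedVariables false

namespace Cfsg.Agent.OddHalf.D7Tits.WExt

open Cfsg.Agent.OddHalf.D7Tits.Defs Cfsg.Agent.OddHalf.D7Tits.WDefs
open Cfsg.Agent.OddHalf.D7Tits.WFacts Cfsg.Agent.OddHalf.D7Tits.WPos Cfsg.Agent.OddHalf.D7Tits.WSys
open Cfsg.Agent.OddHalf.D7Tits.WSys.P Cfsg.Agent.OddHalf.D7Tits.WHom

universe u v

variable {Y : Type u} [Group Y] {K : KT Y} {G : Type v} [Group G] {i : Y →* G} {t y : G}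
  (W : KTW K) (H : WDefs.PosW K i t y)

/-- `y' ↦ g (i y') g⁻¹` -/
def cm (i : Y →* G) (g : G) : Y →* G := (MulAut.conj g).toMonoidHom.comp i

theorem cm_apply (i : Y →* G) (g : G) (a : Y) : cm i g a = g * i a * g⁻¹ := rfl

/-- `T^g ∩ i M` has index at most 4 in `i M` -/
def R (H : WDefs.PosW K i t y) (g : G) : Prop := (T H).relIndex ((Mm K).map (cm i g)) ≤ 4

/-- `{a ∈ D | g (i a) g⁻¹ ∈ T}` -/
def Tg (H : WDefs.PosW K i t y) (g : G) (D : Subgroup Y) : Subgroup Y := ((T H).comap (cm i g)) ⊓ D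

include H

theorem mem_Tg {g : G} {D : Subgroup Y} {a : Y} : a ∈ Tg H g D ↔ g * i a * g⁻¹ ∈ T H ∧ a ∈ D := by
  unfold Tg
  rw [Subgroup.mem_inf, Subgroup.mem_comap, cm_apply]

/-- the basic inequality -/
theorem R.card {g : G} (hR : R H g) {D : Subgroup Y} (hD : D ≤ Mm K) : Nat.card D ≤ 4 * Nat.card ↥(Tg H g D) := by
  have := H.finG
  have := K.fin
  have h1 : (T H).relIndex (D.map (cm i g)) ≤ 4 := by
    refine le_trans (Subgroup.relIndex_le_of_le_right (Subgroup.map_mono hD) ?_) hR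
    exact Subgroup.index_ne_zero_of_finite
  rw [← Subgroup.relIndex_comap, ← Subgroup.inf_relIndex_right] at h1
  have h2 := Subgroup.card_mul_index ((Tg H g D).subgroupOf D)
  rw [Nat.card_congr (Subgroup.subgroupOfEquivOfLe (show Tg H g D ≤ D from inf_le_right)).toEquiv] at h2
  have h3 : ((Tg H g D).subgroupOf D).index ≤ 4 := h1
  rw [← h2, mul_comm]
  exact Nat.mul_le_mul_right _ h3

/-- elements of `Tg` commute with `g⁻¹ t g` -/
theorem Tg_comm {g : G} {D : Subgroup Y} {a : Y} (ha : a ∈ Tg H g D) : i a * (g⁻¹ * t * g) = g⁻¹ * t * g * i a := by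
  have h := T_comm H ((mem_Tg H).1 ha).1
  calc i a * (g⁻¹ * t * g) = g⁻¹ * (g * i a * g⁻¹ * t) * g := by group
    _ = g⁻¹ * (t * (g * i a * g⁻¹)) * g := by rw [h]
    _ = _ := by group

theorem tt_conj (g : G) : (g⁻¹ * t * g) * (g⁻¹ * t * g) = 1 := by
  calc (g⁻¹ * t * g) * (g⁻¹ * t * g) = g⁻¹ * (t * t) * g := by group
    _ = 1 := by rw [H.tt]; group

theorem conj_ne (g : G) : g⁻¹ * t * g ≠ 1 := by
  intro h
  apply H.t1
  calc t = g * (g⁻¹ * t * g) * g⁻¹ := by group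
    _ = 1 := by rw [h]; group

/-- `i a` commutes with `x = i u` or `t i u` iff `a` commutes with `u` -/
theorem comm_dbl {x : G} {a u : Y} (hx : x = i u ∨ x = t * i u) (h : i a * x = x * i a) : a * u = u * a := by
  apply H.inj
  rw [map_mul, map_mul]
  rcases hx with rfl | rfl
  · exact h
  · have h1 := H.ti a
    have h2 : t * (i a * i u) = t * (i u * i a) := by
      calc t * (i a * i u) = (t * i a) * i u := by group
        _ = i a * (t * i u) := by rw [h1]; group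
        _ = _ := by rw [h]; group
    exact mul_left_cancel h2

/-- (F1) -/
theorem L1 (W : KTW K) {g : G} (hR : R H g) {u : Y} (hu : u ∈ K.U) (huM : u ∉ Mm K)
    (h : g⁻¹ * t * g = i u ∨ g⁻¹ * t * g = t * i u) : False := by
  have h1 := R.card H hR (D := Qz K) Qz_le
  have h2 := W.F1 u hu huM (Tg H g (Qz K)) inf_le_right fun a ha => comm_dbl H h (Tg_comm H ha)
  omega

/-- (F2) -/
theorem L2 (W : KTW K) {g : G} (hR : R H g) {m : Y} (hm : m ∈ Mm K)
    (h : g⁻¹ * t * g = i m * y ∨ g⁻¹ * t * g = t * i m * y) : False := by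
  obtain ⟨f, hf, hfU⟩ := P.exists_psi H W
  have h1 := R.card H hR (D := Qz K) Qz_le
  have h2 := W.F2 f hf m hm (Tg H g (Qz K)) inf_le_right fun a ha => ?_
  · omega
  have haQ : a ∈ Qz K := ((mem_Tg H).1 ha).2
  have h3 := (hfU a (K.Q_le_U (mem_Qz.1 haQ).1)).2
  have h4 := Tg_comm H ha
  have h5 : i a * (i m * y) = i m * y * i a := by
    rcases h with h | h
    · rw [h] at h4
      exact h4
    · rw [h] at h4
      have h6 := H.ti a
      have h7 : t * (i a * (i m * y)) = t * (i m * y * i a) := by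
        calc t * (i a * (i m * y)) = (t * i a) * (i m * y) := by group
          _ = i a * (t * i m * y) := by rw [h6]; group
          _ = _ := by rw [h4]; group
      exact mul_left_cancel h7
  have h6 : i (f a) = y * i a * y⁻¹ := by rw [← h3, P.y_inv H]
  apply H.inj
  rw [map_mul, map_mul, map_inv, h6]
  calc i m * (y * i a * y⁻¹) * (i m)⁻¹ = (i m * y * i a) * y⁻¹ * (i m)⁻¹ := by group
    _ = i a := by rw [← h5]; group

/-- (F3) -/
theorem L3 (W : KTW K) {g : G} (hR : R H g) {m : Y} (hm : m ∈ Mm K)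
    (h : g⁻¹ * t * g = i m ∨ g⁻¹ * t * g = t * i m) :
    m ∈ vv K ∨ ∃ p ∈ K.P, p⁻¹ * (K.q 0 * K.q 4) * p = m := by
  have hmm : m * m = 1 := by
    apply H.inj
    rw [map_mul, map_one]
    have h1 := tt_conj H g
    rcases h with h | h
    · rw [h] at h1
      exact h1
    · rw [h] at h1
      have h2 := H.ti m
      calc i m * i m = (t * t) * (i m * i m) := by rw [H.tt, one_mul]
        _ = t * (t * i m) * i m := by group
        _ = t * (i m * t) * i m := by rw [h2]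
        _ = t * i m * (t * i m) := by group
        _ = 1 := h1
  have h1 := R.card H hR (D := Mm K) le_rfl
  rcases W.F3 m hm hmm (Tg H g (Mm K)) inf_le_right (fun a ha => comm_dbl H h (Tg_comm H ha)) h1 with
    h | h | h | h | h
  · exact Or.inl (Or.inl h)
  · exact Or.inl (Or.inr (Or.inl h))
  · exact Or.inl (Or.inr (Or.inr (Or.inl h)))
  · exact Or.inl (Or.inr (Or.inr (Or.inr h)))
  · exact Or.inr h

/-- moving `R` -/
theorem R.mul_inv {g w : G} (hR : R H g) (hw : ∀ m ∈ Mm K, ∃ m' ∈ Mm K, w⁻¹ * i m * w = i m') : R H (g * w⁻¹) := by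
  have := H.finG
  unfold R at hR ⊢
  refine le_trans (Subgroup.relIndex_le_of_le_right ?_ Subgroup.index_ne_zero_of_finite) hR
  rintro _ ⟨m, hm, rfl⟩
  obtain ⟨m', hm', h⟩ := hw m hm
  refine ⟨m', hm', ?_⟩
  rw [cm_apply, cm_apply, ← h]
  group

/-- `T^g ≤ S` gives `R g` -/
theorem R.of_le (W : KTW K) {g : G} (hg : ∀ x ∈ T H, g⁻¹ * x * g ∈ SS H) : R H g := by
  have := H.finG
  unfold R
  set Sg : Subgroup G := (SS H).map (MulAut.conj g).toMonoidHom with hSg
  have hmem : ∀ x : G, x ∈ Sg ↔ g⁻¹ * x * g ∈ SS H := by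
    intro x
    constructor
    · rintro ⟨a, ha, rfl⟩
      show g⁻¹ * (g * a * g⁻¹) * g ∈ SS H
      have e : g⁻¹ * (g * a * g⁻¹) * g = a := by group
      rw [e]
      exact ha
    · intro hx
      refine ⟨_, hx, ?_⟩
      show g * (g⁻¹ * x * g) * g⁻¹ = x
      group
  have hTS : T H ≤ Sg := fun x hx => (hmem x).2 (hg x hx)
  have h1 : (T H).relIndex Sg = 4 := by
    have h2 := Subgroup.card_mul_index ((T H).subgroupOf Sg)
    rw [Nat.card_congr (Subgroup.subgroupOfEquivOfLe hTS).toEquiv] at h2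
    have h3 : Nat.card Sg = Nat.card (SS H) :=
      (Nat.card_congr ((SS H).equivMapOfInjective _ (MulAut.conj g).injective).toEquiv).symm
    rw [h3, card_SS W H, mul_comm 4] at h2
    exact Nat.eq_of_mul_eq_mul_left Nat.card_pos h2
  rw [← h1]
  refine Subgroup.relIndex_le_of_le_right ?_ Subgroup.index_ne_zero_of_finite
  rintro _ ⟨m, hm, rfl⟩
  rw [hmem, cm_apply]
  have e : g⁻¹ * (g * i m * g⁻¹) * g = i m := by group
  rw [e]
  exact T_le W H ⟨m, (mem_Mm.1 hm).1, Or.inl rfl⟩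

/-- **the conjugates of `T` in `S`** -/
theorem ext (W : KTW K) {g : G} (hg : ∀ x ∈ T H, g⁻¹ * x * g ∈ SS H) :
    (∃ m ∈ Mm K, (g⁻¹ * t * g = i m ∨ g⁻¹ * t * g = t * i m) ∧
      (m ∈ vv K ∨ ∃ p ∈ K.P, p⁻¹ * (K.q 0 * K.q 4) * p = m)) := by
  have hR := R.of_le H W hg
  set x : G := g⁻¹ * t * g with hx
  have hxS : x ∈ SS H := hg t (t_T H)
  have hxx : x * x = 1 := tt_conj H g
  have hxi : x⁻¹ = x := inv_eq_of_mul_eq_one_left hxx
  have hxz : x * i K.z = i K.z * x := hxS.1.1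
  obtain ⟨v, hv, hxt⟩ := hxS.2
  have hkk : ∀ m ∈ Mm K, ∃ m' ∈ Mm K, (i W.k)⁻¹ * i m * i W.k = i m' := fun m hm =>
    ⟨_, conj_M' W hm, by rw [map_mul, map_mul, map_inv]⟩
  have hkk' : ∀ m ∈ Mm K, ∃ m' ∈ Mm K, (i W.k⁻¹)⁻¹ * i m * i W.k⁻¹ = i m' := fun m hm =>
    ⟨_, conj_M W hm, by rw [map_mul, map_mul, map_inv, inv_inv]⟩
  -- the case `x ∈ C(q 0)`, `x t x⁻¹ = t v`, `v ≠ 1` reduces to `v = z`
  have keyy : ∀ w : G, R H (g * w⁻¹) → (w * x * w⁻¹) * t * (w * x * w⁻¹)⁻¹ = t * i K.z →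
      (w * x * w⁻¹) * i K.z = i K.z * (w * x * w⁻¹) → (w * x * w⁻¹) * i (K.q 0) = i (K.q 0) * (w * x * w⁻¹) → False := by
    intro w hRw h1 h2 h3
    -- `x' = w x w⁻¹`, `x' y ∈ C(t)`
    set x' := w * x * w⁻¹ with hx'
    have h4 : (x' * y) * t = t * (x' * y) := by
      have e : y * t = t * i K.z * y := by
        calc y * t = (y * t * y) * y := by rw [mul_assoc (y * t), H.yy, mul_one]
          _ = _ := by rw [H.yt]
      calc (x' * y) * t = x' * (y * t) := by group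
        _ = (x' * t * x'⁻¹) * (x' * i K.z) * y := by rw [e]; group
        _ = t * (i K.z * i K.z) * x' * y := by rw [h1, h2]; group
        _ = _ := by rw [P.zz' H]; group
    have h5 : (x' * y) * i K.z = i K.z * (x' * y) := by
      rw [mul_assoc, P.yzc H, ← mul_assoc, h2, mul_assoc]
    have h6 : (x' * y) * i (K.q 0) = i (K.q 0) * (x' * y) := by
      rw [mul_assoc, H.yA _ (K.q_A 0), ← mul_assoc, h3, mul_assoc]
    -- so `x' y ∈ ⟨t⟩ M`
    obtain ⟨a, ha⟩ := H.cen _ h4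
    have haM : a ∈ Mm K := by
      rw [mem_Mm_iff W]
      constructor
      · refine (comm_dbl H ha ?_).symm
        exact h5.symm
      · exact (comm_dbl H ha h6.symm).symm
    have hgx : (g * w⁻¹)⁻¹ * t * (g * w⁻¹) = x' := by
      rw [hx', hx]; group
    apply L2 H W hRw haM
    rw [hgx]
    rcases ha with ha | ha
    · left
      rw [← ha, mul_assoc, H.yy, mul_one]
    · right
      rw [← ha, mul_assoc, H.yy, mul_one]
  rcases hxS.1.2 with hq | hq
  · -- `x` fixes `q 0`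
    have hxq : x * i (K.q 0) = i (K.q 0) * x := by
      calc x * i (K.q 0) = (x * i (K.q 0) * x⁻¹) * x := by group
        _ = _ := by rw [hq]
    rcases mem_vv.1 hv with rfl | rfl | rfl | rfl
    · -- `x` fixes `t`
      have hxt' : x * t = t * x := by
        rw [map_one, mul_one] at hxt
        calc x * t = (x * t * x⁻¹) * x := by group
          _ = _ := by rw [hxt]
      obtain ⟨m, hm, h⟩ := mem_tM H W hxS hxt' hxq
      exact ⟨m, hm, h, L3 H W hR hm h⟩
    · exfalso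
      refine keyy 1 (by simpa using hR) ?_ ?_ ?_
      · simpa using hxt
      · simpa using hxz
      · simpa using hxq
    · -- `v = q 0` : conjugate by `k`
      exfalso
      have e1 : i W.k * i (K.q 0) * (i W.k)⁻¹ = i K.z := by
        rw [← map_mul, ← map_inv, ← map_mul, k_q W]
      have e2 : i W.k * i K.z * (i W.k)⁻¹ = i K.z * i (K.q 0) := by
        rw [← map_mul, ← map_inv, ← map_mul, k_z W, map_mul]
      have c1 : Commute x (i K.z) := hxz
      have c2 : Commute x (i (K.q 0)) := hxq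
      refine keyy (i W.k) (R.mul_inv H hR hkk) ?_ ?_ ?_
      · calc i W.k * x * (i W.k)⁻¹ * t * (i W.k * x * (i W.k)⁻¹)⁻¹
            = i W.k * (x * ((i W.k)⁻¹ * t * i W.k) * x⁻¹) * (i W.k)⁻¹ := by group
          _ = (i W.k * t * (i W.k)⁻¹) * (i W.k * i (K.q 0) * (i W.k)⁻¹) := by rw [t_k H, hxt]; group
          _ = t * i K.z := by rw [t_k' H, e1]
      · have h : Commute (i W.k * x * (i W.k)⁻¹) (i W.k * i (K.q 0) * (i W.k)⁻¹) := (Commute.conj_iff (i W.k)).2 c2
        rw [e1] at h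
        exact h
      · have h : Commute (i W.k * x * (i W.k)⁻¹) (i W.k * (i K.z * i (K.q 0)) * (i W.k)⁻¹) :=
          (Commute.conj_iff (i W.k)).2 (c1.mul_right c2)
        have e3 : i W.k * (i K.z * i (K.q 0)) * (i W.k)⁻¹ = i (K.q 0) := by
          have : i W.k * (i K.z * i (K.q 0)) * (i W.k)⁻¹ = (i W.k * i K.z * (i W.k)⁻¹) * (i W.k * i (K.q 0) * (i W.k)⁻¹) := by
            group
          rw [this, e1, e2, mul_assoc, P.qz' H, ← mul_assoc, P.zz' H, one_mul]
        rw [e3] at h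
        exact h
    · -- `v = z q 0` : conjugate by `k⁻¹`
      exfalso
      have e1 : i W.k⁻¹ * (i K.z * i (K.q 0)) * (i W.k⁻¹)⁻¹ = i K.z := by
        rw [← map_mul, ← map_mul, ← map_inv, ← map_mul, inv_inv]
        congr 1
        have h1 := W.kz
        have h2 := W.kq
        calc W.k⁻¹ * (K.z * K.q 0) * W.k = (W.k⁻¹ * K.z * W.k) * (W.k⁻¹ * K.q 0 * W.k) := by group
          _ = K.q 0 * (K.z * K.q 0) := by rw [h1, h2]
          _ = K.z := by rw [← q_z, ← mul_assoc, q_sq, one_mul]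
      have e2 : i W.k⁻¹ * i K.z * (i W.k⁻¹)⁻¹ = i (K.q 0) := by
        rw [← map_mul, ← map_inv, ← map_mul, inv_inv, W.kz]
      have c1 : Commute x (i K.z) := hxz
      have c2 : Commute x (i (K.q 0)) := hxq
      refine keyy (i W.k⁻¹) (R.mul_inv H hR hkk') ?_ ?_ ?_
      · calc i W.k⁻¹ * x * (i W.k⁻¹)⁻¹ * t * (i W.k⁻¹ * x * (i W.k⁻¹)⁻¹)⁻¹
            = i W.k⁻¹ * (x * ((i W.k⁻¹)⁻¹ * t * i W.k⁻¹) * x⁻¹) * (i W.k⁻¹)⁻¹ := by group
          _ = (i W.k⁻¹ * t * (i W.k⁻¹)⁻¹) * (i W.k⁻¹ * (i K.z * i (K.q 0)) * (i W.k⁻¹)⁻¹) := by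
            rw [t_k H, hxt, map_mul]; group
          _ = t * i K.z := by rw [t_k' H, e1]
      · have h : Commute (i W.k⁻¹ * x * (i W.k⁻¹)⁻¹) (i W.k⁻¹ * (i K.z * i (K.q 0)) * (i W.k⁻¹)⁻¹) :=
          (Commute.conj_iff (i W.k⁻¹)).2 (c1.mul_right c2)
        rw [e1] at h
        exact h
      · have h : Commute (i W.k⁻¹ * x * (i W.k⁻¹)⁻¹) (i W.k⁻¹ * i K.z * (i W.k⁻¹)⁻¹) :=
          (Commute.conj_iff (i W.k⁻¹)).2 c1
        rw [e2] at h
        exact h
  · -- `x` moves `q 0`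
    exfalso
    have hqz := P.qz' H 0
    have hne : i (K.q 0) * i K.z ≠ i (K.q 0) := by
      intro h
      rw [← map_mul] at h
      exact qz_ne 0 (H.inj h)
    -- `x v x⁻¹ = v`
    have hvv : x * i v * x⁻¹ = i v := by
      have h1 : t = t * (i v * (x * i v * x⁻¹)) := by
        calc t = x * (x⁻¹ * t * x) * x⁻¹ := by group
          _ = x * (x * t * x⁻¹) * x⁻¹ := by
            congr 2
            rw [hxi]
          _ = x * (t * i v) * x⁻¹ := by rw [hxt]
          _ = (x * t * x⁻¹) * (x * i v * x⁻¹) := by group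
          _ = (t * i v) * (x * i v * x⁻¹) := by rw [hxt]
          _ = _ := by group
      have h2 : i v * (x * i v * x⁻¹) = 1 := by simpa using h1
      have h3 : i v * i v = 1 := by rw [← map_mul, K.sq_A v (vv_A hv), map_one]
      calc x * i v * x⁻¹ = (i v * i v) * (x * i v * x⁻¹) := by rw [h3, one_mul]
        _ = i v * (i v * (x * i v * x⁻¹)) := by group
        _ = i v := by rw [h2, mul_one]
    have hxzz : x * i K.z * x⁻¹ = i K.z := by rw [hxz, mul_inv_cancel_right]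
    -- elements of `C_S(t)` that move `q 0`
    have hfin : ∀ w : G, R H (g * w⁻¹) → w ∈ SS H → (w * x * w⁻¹) * t = t * (w * x * w⁻¹) →
        (w * x * w⁻¹) * i (K.q 0) * (w * x * w⁻¹)⁻¹ ≠ i (K.q 0) → False := by
      intro w hRw hw h1 h2
      have h3 : w * x * w⁻¹ ∈ SS H := mul_mem (mul_mem hw hxS) (inv_mem hw)
      obtain ⟨u, hu, h4⟩ := (SS_cent W H h3).1 h1
      have huM : u ∉ Mm K := by
        intro huM
        apply h2
        have h5 : i u * i (K.q 0) = i (K.q 0) * i u := by rw [← map_mul, ← map_mul, (mem_Mm.1 huM).2]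
        have h6 : (w * x * w⁻¹) * i (K.q 0) = i (K.q 0) * (w * x * w⁻¹) := by
          rcases h4 with h4 | h4 <;> rw [h4]
          · exact h5
          · rw [mul_assoc, h5, ← mul_assoc, H.ti, mul_assoc]
        rw [h6, mul_inv_cancel_right]
      apply L1 H W hRw hu huM
      have hgx : (g * w⁻¹)⁻¹ * t * (g * w⁻¹) = w * x * w⁻¹ := by
        rw [hx]; group
      rw [hgx]
      exact h4
    rcases mem_vv.1 hv with rfl | rfl | rfl | rfl
    · refine hfin 1 (by simpa using hR) (one_mem _) ?_ ?_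
      · have hxt' : x * t = t * x := by
          rw [map_one, mul_one] at hxt
          calc x * t = (x * t * x⁻¹) * x := by group
            _ = _ := by rw [hxt]
        simpa using hxt'
      · have e : (1 : G) * x * 1⁻¹ = x := by group
        rw [e, hq]
        exact hne
    · -- `x t x⁻¹ = t z` : conjugate by `y2`
      have hs := y2_inv W H
      have hs2 := y2y2 W H
      have hst := y2_t W H
      have hsz := y2_z W H
      have hsq := y2_q0 W H
      have hsplit : ∀ a b : G, y2 W i y * (a * b) * y2 W i y = (y2 W i y * a * y2 W i y) * (y2 W i y * b * y2 W i y) := by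
        intro a b
        calc y2 W i y * (a * b) * y2 W i y = y2 W i y * a * 1 * b * y2 W i y := by group
          _ = _ := by rw [← hs2]; group
      refine hfin (y2 W i y) (R.mul_inv H hR ?_) (y2_SS W H) ?_ ?_
      · intro m hm
        rw [hs]
        exact y2_M W H hm
      · have h1 : (y2 W i y * x * (y2 W i y)⁻¹) * t * (y2 W i y * x * (y2 W i y)⁻¹)⁻¹ = t := by
          calc (y2 W i y * x * (y2 W i y)⁻¹) * t * (y2 W i y * x * (y2 W i y)⁻¹)⁻¹
              = y2 W i y * (x * ((y2 W i y)⁻¹ * t * y2 W i y) * x⁻¹) * (y2 W i y)⁻¹ := by group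
            _ = y2 W i y * ((x * t * x⁻¹) * (x * i (K.q 0) * x⁻¹)) * y2 W i y := by rw [hs, hst]; group
            _ = y2 W i y * (t * i K.z * (i (K.q 0) * i K.z)) * y2 W i y := by rw [hxt, hq]
            _ = y2 W i y * (t * (i K.z * i K.z) * i (K.q 0)) * y2 W i y := by rw [hqz]; group
            _ = y2 W i y * (t * i (K.q 0)) * y2 W i y := by rw [P.zz' H, mul_one]
            _ = t * (i (K.q 0) * i (K.q 0)) := by rw [hsplit, hst, hsq]; group
            _ = t := by rw [P.qq' H, mul_one]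
        calc (y2 W i y * x * (y2 W i y)⁻¹) * t =
                ((y2 W i y * x * (y2 W i y)⁻¹) * t * (y2 W i y * x * (y2 W i y)⁻¹)⁻¹) *
                (y2 W i y * x * (y2 W i y)⁻¹) := by group
          _ = _ := by rw [h1]
      · have h1 : (y2 W i y * x * (y2 W i y)⁻¹) * i (K.q 0) * (y2 W i y * x * (y2 W i y)⁻¹)⁻¹ = i (K.q 0) * i K.z := by
          calc (y2 W i y * x * (y2 W i y)⁻¹) * i (K.q 0) * (y2 W i y * x * (y2 W i y)⁻¹)⁻¹
              = y2 W i y * (x * ((y2 W i y)⁻¹ * i (K.q 0) * y2 W i y) * x⁻¹) * (y2 W i y)⁻¹ := by group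
            _ = y2 W i y * (x * i (K.q 0) * x⁻¹) * y2 W i y := by rw [hs, hsq]
            _ = i (K.q 0) * i K.z := by rw [hq, hsplit, hsq, hsz]
        rw [h1]
        exact hne
    · rw [hq] at hvv
      exact hne hvv
    · have h1 : x * i (K.z * K.q 0) * x⁻¹ = (x * i K.z * x⁻¹) * (x * i (K.q 0) * x⁻¹) := by rw [map_mul]; group
      rw [h1, hxzz, hq, map_mul] at hvv
      exact hne (mul_left_cancel hvv)

end Cfsg.Agent.OddHalf.D7Tits.WExt

end
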